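/-
Power endomorphisms of finite fields used by the twisted groups.
-/
import Mathlib.FieldTheory.Finite.Basic
import Mathlib.RingTheory.IntegralDomain

set_option autoImplicit false

namespace CfsgLib.Lie.Chev.TwGroups

variable {K : Type*} [Field K] [Fintype K]

theorem exists_char {p n : ℕ} (hp : p.Prime) (hn : 0 < n) (hK : Fintype.card K = p ^ n) : CharP K p := by
  obtain ⟨p', h'⟩ := CharP.exists K
  obtain ⟨b, hb, hc⟩ := FiniteField.card K p'
  rw [hK] at hc
  have h1 : p' ∣ p ^ n := hc ▸ dvd_pow_self p' b.pos.ne'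
  have h2 := (Nat.prime_dvd_prime_iff_eq hb hp).1 (hb.dvd_of_dvd_pow h1)
  exact h2 ▸ h'

theorem exists_powHom {q n : ℕ} (hq : IsPrimePow q) (hn : 0 < n) (hK : Fintype.card K = q ^ n) :
    ∃ f : K →+* K, ∀ x, f x = x ^ q := by
  obtain ⟨p, a, hp, ha, rfl⟩ := (isPrimePow_nat_iff q).1 hq
  rw [← pow_mul] at hK
  have := exists_char hp (Nat.mul_pos ha hn) hK
  have : Fact p.Prime := ⟨hp⟩
  exact ⟨iterateFrobenius K p a, fun x => iterateFrobenius_def ..⟩

theorem perfect {p : ℕ} {n : ℕ} (hn : 0 < n) (hK : Fintype.card K = p ^ n) (x : K) : ∃ y : K, y ^ p = x :=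
  ⟨x ^ p ^ (n - 1), by
    rw [← pow_mul, ← pow_succ, Nat.sub_add_cancel hn, ← hK]
    exact FiniteField.pow_card x⟩

theorem pow_q_card {n q : ℕ} (hK : Fintype.card K = q ^ n) (x : K) : x ^ (q ^ n) = x :=
  hK ▸ FiniteField.pow_card x

/-- the number of elements fixed by the `q`-th power map -/
theorem card_fixed {q n : ℕ} (hq : 1 < q) (hn : 0 < n) (hK : Fintype.card K = q ^ n) :
    Nat.card {x : K // x ^ q = x} = q := by
  classical
  have hcard : Nat.card Kˣ = q ^ n - 1 := by
    rw [Nat.card_units, Nat.card_eq_fintype_card, hK]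
  have hdvd : q - 1 ∣ Nat.card Kˣ := by
    rw [hcard]
    simpa using Nat.sub_one_dvd_pow_sub_one q n
  have h1 : Nat.card (powMonoidHom (q - 1) : Kˣ →* Kˣ).ker = q - 1 := by
    rw [IsCyclic.card_powMonoidHom_ker, Nat.gcd_eq_right hdvd]
  have e : {x : K // x ^ q = x} ≃ Option (powMonoidHom (q - 1) : Kˣ →* Kˣ).ker :=
    { toFun := fun x => if h : (x : K) = 0 then none else some ⟨Units.mk0 _ h, Units.ext (by
        show (x : K) ^ (q - 1) = 1
        exact mul_right_cancel₀ h (by rw [← pow_succ, Nat.sub_add_cancel hq.le, one_mul]; exact x.2))⟩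
      invFun := fun o => o.elim ⟨0, zero_pow (by omega)⟩ fun u => ⟨((u : Kˣ) : K), by
        have := congrArg Units.val (MonoidHom.mem_ker.1 u.2)
        rw [powMonoidHom_apply, Units.val_pow_eq_pow_val, Units.val_one] at this
        calc ((u : Kˣ) : K) ^ q = ((u : Kˣ) : K) ^ (q - 1 + 1) :=
              congrArg (((u : Kˣ) : K) ^ ·) (Nat.sub_add_cancel hq.le).symm
          _ = ((u : Kˣ) : K) := by rw [pow_succ, this, one_mul]⟩
      left_inv := fun x => by
        by_cases h : (x : K) = 0
        · simp only [dif_pos h, Option.elim_none]; exact Subtype.ext h.symm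
        · simp [dif_neg h]
      right_inv := fun o => by
        cases o with
        | none => simp
        | some u => simp }
  rw [Nat.card_congr e, Finite.card_option, h1]
  omega

end CfsgLib.Lie.Chev.TwGroups
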