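/-
Endomorphisms of a relation system that permute root subgroups compatibly with positivity; fixed normal forms.
-/
import Cfsg.Agent.Lib.Lie.Rel.Parabolic
import Cfsg.Agent.Lib.Lie.Rel.Poincare

set_option autoImplicit false

namespace CfsgLib.Lie.Chev

open Cfsg.Lie (ChevalleyDatum)
open CfsgLib.Lie.Exchange

namespace Rel

variable {D : ChevalleyDatum} {X : Aux} {F : Type*} [Field F] {G : Type*} [Group G] (R : Rel D X F G)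
include R

theorem ne_mul_ne_mem (r : Fin D.nroots) {a b : F} (ha : a ≠ 0) (hb : b ≠ 0) : R.ne r a * R.ne r b ∈ R.HS := by
  have e : R.ne r a * R.ne r b = R.he r a * (R.he r (-b))⁻¹ := by
    show _ = R.ne r a * R.ne r (-1) * (R.ne r (-b) * R.ne r (-1))⁻¹
    rw [mul_inv_rev, R.ne_neg, R.ne_neg, inv_inv, inv_inv]
    group
  rw [e]
  exact mul_mem (R.he_mem r ha) (inv_mem (R.he_mem r (neg_ne_zero.2 hb)))

theorem UP_HS_unique {v v' h h' : G} (hv : v ∈ R.UP) (hv' : v' ∈ R.UP) (hh : h ∈ R.HS) (hh' : h' ∈ R.HS)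
    (e : v * h = v' * h') : v = v' ∧ h = h' := by
  have h1 : v'⁻¹ * v = h' * h⁻¹ := by rw [eq_mul_inv_iff_mul_eq, mul_assoc, e, inv_mul_cancel_left]
  have h2 : v'⁻¹ * v ∈ R.UP ⊓ R.HS :=
    Subgroup.mem_inf.2 ⟨mul_mem (inv_mem hv') hv, h1 ▸ mul_mem hh' (inv_mem hh)⟩
  rw [R.UP_inf_HS, Subgroup.mem_bot, inv_mul_eq_one] at h2
  subst h2
  exact ⟨rfl, mul_left_cancel e⟩

theorem nsPerm_eq_one_of_pos (n : R.NS) (h : ∀ i : Fin D.rank, half D ≤ (R.nsPerm n (R.sroot i) : ℕ)) :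
    (n : G) ∈ R.HS := by
  by_contra hn
  obtain ⟨k, hk⟩ := R.exists_descent (w := R.qmk n) fun h1 => hn (R.qmk_eq_one.1 h1)
  exact hk (h k)

theorem nsPerm_pos_of_coef {n : R.NS} {r : Fin D.nroots} (hr : half D ≤ (r : ℕ))
    (h : ∀ i : Fin D.rank, X.coef i (r : ℕ) ≠ 0 → half D ≤ (R.nsPerm n (R.sroot i) : ℕ)) :
    half D ≤ (R.nsPerm n r : ℕ) := by
  by_contra hneg
  obtain ⟨a, ha⟩ := R.exists_coef_ne_zero (R.nsPerm n r)
  have h1 : 0 ≤ X.coef a (R.nsPerm n r : ℕ) := by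
    rw [R.isLin_nsPerm n r a]
    refine Finset.sum_nonneg fun i _ => ?_
    by_cases hi : X.coef i (r : ℕ) = 0
    · rw [hi, zero_mul]
    · exact mul_nonneg (R.cert.coef_nonneg r.2 i.2 hr) (R.cert.coef_nonneg (R.nsPerm n (R.sroot i)).2 a.2 (h i hi))
  exact hneg (R.pos_of_coef _ a (lt_of_le_of_ne h1 (Ne.symm ha)))

theorem nsPerm_neg_of_coef {n : R.NS} {r : Fin D.nroots} (hr : half D ≤ (r : ℕ))
    (h : ∀ i : Fin D.rank, X.coef i (r : ℕ) ≠ 0 → ¬ half D ≤ (R.nsPerm n (R.sroot i) : ℕ)) :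
    ¬ half D ≤ (R.nsPerm n r : ℕ) := by
  intro hpos
  obtain ⟨a, ha⟩ := R.exists_coef_ne_zero (R.nsPerm n r)
  refine ha (le_antisymm ?_ (R.cert.coef_nonneg (R.nsPerm n r).2 a.2 hpos))
  rw [R.isLin_nsPerm n r a]
  refine Finset.sum_nonpos fun i _ => ?_
  by_cases hi : X.coef i (r : ℕ) = 0
  · rw [hi, zero_mul]
  · refine mul_nonpos_of_nonneg_of_nonpos (R.cert.coef_nonneg r.2 i.2 hr) ?_
    have h2 := R.cert.coef_nonneg (R.negF (R.nsPerm n (R.sroot i))).2 a.2 ((R.negF_pos_iff _).2 (h i hi))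
    rw [show (R.negF (R.nsPerm n (R.sroot i)) : ℕ) = D.neg (R.nsPerm n (R.sroot i) : ℕ) from rfl,
      R.cert.coef_neg (R.nsPerm n (R.sroot i)).2 a.2] at h2
    omega

theorem PJ_NS_rad (hD : Desc D X) {J : Set ℕ} {n : R.NS} (hn : (n : G) ∈ R.PJ J) {r : Fin D.nroots}
    (hr : r ∈ radSet D X J) : R.nsPerm n r ∈ radSet D X J := by
  obtain ⟨a, ha⟩ := R.isMon_nsPerm n
  have h1 := (Subgroup.mem_normalizer_iff.1 (R.PJ_le_normalizer J hD hn) _).1 (R.xe_mem_US hr 1)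
  rw [(ha r).2.2.2 1, mul_one] at h1
  exact R.xe_mem_UR J (ha r).1 h1

end Rel

/-- an endomorphism permuting the root subgroups and preserving positivity -/
structure Tw {D : ChevalleyDatum} {X : Aux} {F : Type*} [Field F] {G : Type*} [Group G] (R : Rel D X F G) where
  σ : G →* G
  ρ : Equiv.Perm (Fin D.nroots)
  f : Fin D.nroots → F → F
  σ_xe : ∀ (r : Fin D.nroots) (t : F), σ (R.xe (r : ℕ) t) = R.xe (ρ r : ℕ) (f r t)
  pos : ∀ r, half D ≤ (ρ r : ℕ) ↔ half D ≤ (r : ℕ)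
  negF : ∀ r, ρ (R.negF r) = R.negF (ρ r)
  f_ne : ∀ r t, t ≠ 0 → f r t ≠ 0
  f_neg : ∀ r (c : F), c ≠ 0 → f (R.negF r) (-c⁻¹) = -(f r c)⁻¹
  π : Equiv.Perm (Fin D.rank)
  simple : ∀ i, ρ (R.sroot i) = R.sroot (π i)

namespace Tw

variable {D : ChevalleyDatum} {X : Aux} {F : Type*} [Field F] {G : Type*} [Group G] {R : Rel D X F G} (T : Tw R)
include T

theorem σ_mem_US {S S' : Set (Fin D.nroots)} (h : ∀ r ∈ S, T.ρ r ∈ S') {g : G} (hg : g ∈ R.US S) :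
    T.σ g ∈ R.US S' := by
  refine (show R.US S ≤ (R.US S').comap T.σ from R.US_le fun r hr t => ?_) hg
  rw [Subgroup.mem_comap, T.σ_xe]
  exact R.xe_mem_US (h r hr) _

theorem σ_mem_UP {g : G} (hg : g ∈ R.UP) : T.σ g ∈ R.UP :=
  T.σ_mem_US (S' := posSet D) (fun r hr => (T.pos r).2 hr) hg

theorem σ_ne (r : Fin D.nroots) {c : F} (hc : c ≠ 0) : T.σ (R.ne r c) = R.ne (T.ρ r) (T.f r c) := by
  show T.σ (R.xe (r : ℕ) c * R.xe (R.negF r : ℕ) (-c⁻¹) * R.xe (r : ℕ) c) = _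
  rw [map_mul, map_mul, T.σ_xe, T.σ_xe, T.f_neg r c hc, T.negF]
  rfl

theorem σ_mem_HS {g : G} (hg : g ∈ R.HS) : T.σ g ∈ R.HS := by
  refine (show R.HS ≤ R.HS.comap T.σ from (Subgroup.closure_le _).2 ?_) hg
  rintro _ ⟨i, c, hc, rfl⟩
  show T.σ (R.ne (R.sroot i : ℕ) c * R.ne (R.sroot i : ℕ) (-1)) ∈ R.HS
  rw [map_mul, T.σ_ne _ hc, T.σ_ne _ (by norm_num)]
  exact R.ne_mul_ne_mem _ (T.f_ne _ _ hc) (T.f_ne _ _ (by norm_num))

theorem σ_mem_NS {g : G} (hg : g ∈ R.NS) : T.σ g ∈ R.NS := by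
  refine (show R.NS ≤ R.NS.comap T.σ from sup_le (fun h hh => R.HS_le_NS (T.σ_mem_HS hh)) ?_) hg
  refine (Subgroup.closure_le _).2 ?_
  rintro _ ⟨i, rfl⟩
  show T.σ (R.ne (R.sroot i : ℕ) 1) ∈ R.NS
  rw [T.σ_ne _ one_ne_zero]
  exact R.ne_mem _ (T.f_ne _ _ one_ne_zero)

theorem nsPerm_σ (n : R.NS) :
    R.nsPerm ⟨T.σ n, T.σ_mem_NS n.2⟩ = T.ρ * R.nsPerm n * T.ρ⁻¹ := by
  obtain ⟨a, ha⟩ := R.isMon_nsPerm n
  obtain ⟨a', ha'⟩ := R.isMon_nsPerm ⟨T.σ n, T.σ_mem_NS n.2⟩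
  refine Equiv.ext fun s => ?_
  obtain ⟨r, rfl⟩ := T.ρ.surjective s
  have h1 := congrArg T.σ ((ha r).2.2.2 1)
  rw [map_mul, map_mul, map_inv, T.σ_xe, mul_one, (ha' (T.ρ r)).2.2.2, T.σ_xe] at h1
  have h2 := R.xe_inj_root (mul_ne_zero (ha' (T.ρ r)).1 (T.f_ne r 1 one_ne_zero)) h1
  rw [h2, Equiv.Perm.mul_apply, Equiv.Perm.mul_apply, show T.ρ⁻¹ (T.ρ r) = r from T.ρ.symm_apply_apply r]

theorem perm_comm {n : R.NS} (hn : T.σ n = n) (r : Fin D.nroots) : R.nsPerm n (T.ρ r) = T.ρ (R.nsPerm n r) := by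
  have h1 := T.nsPerm_σ n
  have e : (⟨T.σ n, T.σ_mem_NS n.2⟩ : R.NS) = n := Subtype.ext hn
  rw [e] at h1
  conv_lhs => rw [h1]
  rw [Equiv.Perm.mul_apply, Equiv.Perm.mul_apply, show T.ρ⁻¹ (T.ρ r) = r from T.ρ.symm_apply_apply r]

theorem fixed_BS {b : G} (hb : b ∈ R.BS) (hσ : T.σ b = b) :
    ∃ v ∈ R.UP, ∃ h ∈ R.HS, b = v * h ∧ T.σ v = v ∧ T.σ h = h := by
  obtain ⟨v, hv, h, hh, rfl⟩ := R.exists_of_mem_BS hb
  rw [map_mul] at hσ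
  obtain ⟨e1, e2⟩ := R.UP_HS_unique (T.σ_mem_UP hv) hv (T.σ_mem_HS hh) hh hσ
  exact ⟨v, hv, h, hh, rfl, e1, e2⟩

/-- a fixed element has a fixed normal form -/
theorem fixed_bnu {g : G} (hg : T.σ g = g) :
    ∃ v ∈ R.UP, ∃ m : R.NS, ∃ u ∈ R.US (invSet (R.nsPerm m)),
      g = v * m * u ∧ T.σ v = v ∧ T.σ m = m ∧ T.σ u = u := by
  obtain ⟨b, hb, n, u, hu, rfl⟩ := R.exists_bnu g
  obtain ⟨v, hv, h, hh, rfl⟩ := R.exists_of_mem_BS hb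
  obtain ⟨m, hm⟩ : ∃ m : R.NS, m = ⟨h, R.HS_le_NS hh⟩ * n := ⟨_, rfl⟩
  have hperm : R.nsPerm m = R.nsPerm n := by
    rw [hm, map_mul, R.nsPerm_of_mem_HS _ hh, one_mul]
  have hge : v * h * n * u = v * m * u := by rw [hm, Subgroup.coe_mul]; group
  rw [hge] at hg ⊢
  rw [← hperm] at hu
  rw [map_mul, map_mul] at hg
  have hq := R.bnu_weyl (n := ⟨T.σ m, T.σ_mem_NS m.2⟩) (n' := m) (R.UP_le_BS (T.σ_mem_UP hv)) (R.UP_le_BS hv)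
    (T.σ_mem_UP (R.US_mono (Rel.invSet_subset _) hu)) (R.US_mono (Rel.invSet_subset _) hu) hg
  have hk : T.σ (m : G) * (m : G)⁻¹ ∈ R.HS := by
    have := R.HS_conj m.2 (inv_mem hq)
    simpa [mul_assoc] using this
  have hpm : R.nsPerm ⟨T.σ m, T.σ_mem_NS m.2⟩ = R.nsPerm m := by
    have h1 := R.nsPerm_of_mem_HS (⟨T.σ m, T.σ_mem_NS m.2⟩ * m⁻¹) hk
    rwa [map_mul, map_inv, mul_inv_eq_one] at h1
  have hu' : T.σ u ∈ R.US (invSet (R.nsPerm m)) := by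
    refine T.σ_mem_US (fun r hr => ?_) hu
    rw [← hpm, T.nsPerm_σ]
    refine ⟨(T.pos r).2 hr.1, ?_⟩
    rw [Equiv.Perm.mul_apply, Equiv.Perm.mul_apply, show T.ρ⁻¹ (T.ρ r) = r from T.ρ.symm_apply_apply r, T.pos]
    exact hr.2
  have e : T.σ v * (T.σ m * (m : G)⁻¹) * m * T.σ u = v * m * u := by rw [← hg]; group
  obtain ⟨e1, e2⟩ := R.bnu_unique (mul_mem (R.UP_le_BS (T.σ_mem_UP hv)) (R.HS_le_BS hk)) (R.UP_le_BS hv) hu' hu e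
  obtain ⟨e3, e4⟩ := R.UP_HS_unique (T.σ_mem_UP hv) hv hk (one_mem _) (e1.trans (mul_one v).symm)
  exact ⟨v, hv, m, u, hu, rfl, e3, mul_inv_eq_one.1 e4, e2⟩

theorem π_pos {n : R.NS} (hn : T.σ n = n) (i : Fin D.rank) (k : ℕ) :
    half D ≤ (R.nsPerm n (R.sroot ((⇑T.π)^[k] i)) : ℕ) ↔ half D ≤ (R.nsPerm n (R.sroot i) : ℕ) := by
  induction k with
  | zero => rfl
  | succ k ih => rw [Function.iterate_succ_apply', ← T.simple, T.perm_comm hn, T.pos, ih]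

end Tw

end CfsgLib.Lie.Chev
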