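/-
Twisted subgroups: longest elements of the orbit classes, generation, fixed unipotent elements, Bruhat form.
-/
import Cfsg.Agent.Lib.Lie.Twisted.Basic

set_option autoImplicit false

namespace CfsgLib.Lie.Chev

open Cfsg.Lie (ChevalleyDatum)

/-- indices of the simple roots in the `k`-th orbit -/
def orbSet {l κ : ℕ} (orb : Fin l → Fin κ) (k : Fin κ) : Set ℕ := {m | ∃ i : Fin l, (i : ℕ) = m ∧ orb i = k}

/-- positive roots of the `k`-th orbit class -/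
def posSub (D : ChevalleyDatum) (X : Aux) {κ : ℕ} (orb : Fin D.rank → Fin κ) (k : Fin κ) : Set (Fin D.nroots) :=
  {r | half D ≤ (r : ℕ) ∧ r ∈ subSet D X (orbSet orb k)}

/-- negative roots of the `k`-th orbit class -/
def negSub (D : ChevalleyDatum) (X : Aux) {κ : ℕ} (orb : Fin D.rank → Fin κ) (k : Fin κ) : Set (Fin D.nroots) :=
  {r | ¬ half D ≤ (r : ℕ) ∧ r ∈ subSet D X (orbSet orb k)}

/-- a subgroup of fixed points containing the fixed elements of the orbit classes -/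
structure TwG {D : ChevalleyDatum} {X : Aux} {F : Type*} [Field F] {G : Type*} [Group G] (R : Rel D X F G)
    extends Tw R where
  P1 : Subgroup G
  κ : ℕ
  orb : Fin D.rank → Fin κ
  orb_surj : Function.Surjective orb
  orb_π : ∀ i, orb (π i) = orb i
  orb_trans : ∀ i j, orb i = orb j → ∃ n : ℕ, (⇑π)^[n] i = j
  desc : Desc D X
  hfix : ∀ g ∈ P1, σ g = g
  hA : ∀ k, ∀ u ∈ R.US (posSub D X orb k), σ u = u → u ∈ P1
  hB : ∀ k, ∃ u ∈ P1, u ∈ R.US (negSub D X orb k) ∧ u ≠ 1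

namespace TwG

variable {D : ChevalleyDatum} {X : Aux} {F : Type*} [Field F] {G : Type*} [Group G] {R : Rel D X F G} (T : TwG R)
include T

theorem mem_orbSet {i : Fin D.rank} {k : Fin T.κ} : (i : ℕ) ∈ orbSet T.orb k ↔ T.orb i = k :=
  ⟨fun ⟨j, hj, e⟩ => by rwa [← Fin.ext hj], fun e => ⟨i, rfl, e⟩⟩

theorem orb_of_coef {k : Fin T.κ} {r : Fin D.nroots} (hr : r ∈ subSet D X (orbSet T.orb k)) {i : Fin D.rank}
    (hi : X.coef i (r : ℕ) ≠ 0) : T.orb i = k :=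
  T.mem_orbSet.1 (by_contra fun h => hi (hr i i.2 h))

theorem pos_of_orb {n : R.NS} (hn : T.σ n = n) {i j : Fin D.rank} (hij : T.orb i = T.orb j) :
    half D ≤ (R.nsPerm n (R.sroot j) : ℕ) ↔ half D ≤ (R.nsPerm n (R.sroot i) : ℕ) := by
  obtain ⟨m, rfl⟩ := T.orb_trans i j hij
  exact T.toTw.π_pos hn i m

theorem neg_posSub {n : R.NS} (hn : T.σ n = n) {i : Fin D.rank} (hi : ¬ half D ≤ (R.nsPerm n (R.sroot i) : ℕ))
    {r : Fin D.nroots} (hr : r ∈ posSub D X T.orb (T.orb i)) : ¬ half D ≤ (R.nsPerm n r : ℕ) :=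
  R.nsPerm_neg_of_coef hr.1 fun j hj h => hi ((T.pos_of_orb hn (T.orb_of_coef hr.2 hj).symm).1 h)

theorem pos_posSub {n : R.NS} (hn : T.σ n = n) {i : Fin D.rank} (hi : half D ≤ (R.nsPerm n (R.sroot i) : ℕ))
    {r : Fin D.nroots} (hr : r ∈ posSub D X T.orb (T.orb i)) : half D ≤ (R.nsPerm n r : ℕ) :=
  R.nsPerm_pos_of_coef hr.1 fun _ hj => (T.pos_of_orb hn (T.orb_of_coef hr.2 hj).symm).2 hi

/-- a fixed element of `N` in the parabolic of an orbit either lies in `H` or inverts exactly that orbit class -/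
theorem perm_dichotomy (k : Fin T.κ) {m : R.NS} (hm : T.σ m = m) (hP : (m : G) ∈ R.PJ (orbSet T.orb k)) :
    (m : G) ∈ R.HS ∨ invSet (R.nsPerm m) = posSub D X T.orb k := by
  have hrad : ∀ r : Fin D.nroots, half D ≤ (r : ℕ) → r ∉ subSet D X (orbSet T.orb k) →
      half D ≤ (R.nsPerm m r : ℕ) := fun r h1 h2 => (R.PJ_NS_rad T.desc hP ⟨h1, h2⟩).1
  by_cases h : ∀ i : Fin D.rank, T.orb i = k → half D ≤ (R.nsPerm m (R.sroot i) : ℕ)
  · refine Or.inl (R.nsPerm_eq_one_of_pos m fun i => ?_)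
    by_cases hi : T.orb i = k
    · exact h i hi
    · refine hrad _ (R.sroot_pos i) fun hs => hi (T.orb_of_coef hs (i := i) ?_)
      rw [R.coef_sroot, if_pos rfl]; exact one_ne_zero
  · refine Or.inr ?_
    simp only [not_forall] at h
    obtain ⟨i, hik, hneg⟩ := h
    ext r
    refine ⟨fun hr => ⟨hr.1, by_contra fun hs => hr.2 (hrad r hr.1 hs)⟩, fun hr => ⟨hr.1, ?_⟩⟩
    exact T.neg_posSub hm hneg (hik.symm ▸ hr)

theorem NS_PJ_le_LJ (J : Set ℕ) : ∀ n : R.NS, (n : G) ∈ R.PJ J → (n : G) ∈ R.LJ J := by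
  intro n
  induction hl : R.invN (R.qmk n) using Nat.strong_induction_on generalizing n with
  | _ N ih =>
    intro hn
    by_cases h : ∀ i : Fin D.rank, half D ≤ (R.nsPerm n (R.sroot i) : ℕ)
    · exact Subgroup.mem_sup_left (R.nsPerm_eq_one_of_pos n h)
    · simp only [not_forall] at h
      obtain ⟨i, hi⟩ := h
      have hiJ : (i : ℕ) ∈ J := by
        by_contra hiJ
        refine hi (R.PJ_NS_rad T.desc hn (r := R.sroot i) ⟨R.sroot_pos i, fun hs => ?_⟩).1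
        have := hs i i.2 hiJ
        rw [show (R.sroot i : ℕ) = D.simple i from rfl, R.cert.coef_simple i.2 i.2, if_pos rfl] at this
        exact one_ne_zero this
      have hne : R.ne (D.simple i) 1 ∈ R.LJ J :=
        Subgroup.mem_sup_right (mul_mem (mul_mem (R.xe_mem_US (r := R.sroot i) (R.sroot_mem_sub J hiJ) 1)
          (R.xe_mem_US (r := R.negF (R.sroot i)) (R.negF_mem_sub J (R.sroot_mem_sub J hiJ)) _))
          (R.xe_mem_US (r := R.sroot i) (R.sroot_mem_sub J hiJ) 1))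
      have hne' : R.ne (D.simple i) 1 ∈ R.PJ J :=
        Subgroup.mem_sup_right (Subgroup.subset_closure ⟨i, hiJ, rfl⟩)
      have hlt : R.invN (R.qmk (n * R.nS i)) < N := by
        rw [map_mul, ← hl, R.invN_mul_simple (u := R.qmk n) (k := i) hi]
        exact Nat.lt_succ_self _
      have h2 := mul_mem (ih _ hlt (n * R.nS i) rfl (mul_mem hn hne')) (inv_mem hne)
      rwa [show ((n * R.nS i : R.NS) : G) = n * R.ne (D.simple i) 1 from rfl, mul_inv_cancel_right] at h2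

theorem posSub_le_PJ (k : Fin T.κ) : R.US (posSub D X T.orb k) ≤ R.PJ (orbSet T.orb k) :=
  R.US_le fun _ hr t => R.xe_mem_PJ _ T.desc (Or.inl hr.1) t

theorem exists_nJ (k : Fin T.κ) : ∃ n : R.NS, (n : G) ∈ T.P1 ∧ invSet (R.nsPerm n) = posSub D X T.orb k ∧
    (n : G) ∈ R.PJ (orbSet T.orb k) := by
  obtain ⟨y, hy, hyN, hy1⟩ := T.hB k
  obtain ⟨v, hv, m, u, hu, e, hσv, hσm, hσu⟩ := T.toTw.fixed_bnu (T.hfix y hy)
  have hyL : y ∈ R.LJ (orbSet T.orb k) :=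
    Subgroup.mem_sup_right (R.US_mono (fun r hr => hr.2) hyN)
  have hyP : y ∈ R.PJ (orbSet T.orb k) := R.US_le (fun r hr t => R.xe_mem_PJ _ T.desc (Or.inr hr.2) t) hyN
  have hvP : v ∈ R.PJ (orbSet T.orb k) := Subgroup.mem_sup_left (R.UP_le_BS hv)
  have huP : u ∈ R.PJ (orbSet T.orb k) :=
    Subgroup.mem_sup_left (R.UP_le_BS (R.US_mono (Rel.invSet_subset _) hu))
  have em : (m : G) = v⁻¹ * y * u⁻¹ := by rw [e]; group
  have hmP : (m : G) ∈ R.PJ (orbSet T.orb k) := em ▸ mul_mem (mul_mem (inv_mem hvP) hyP) (inv_mem huP)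
  rcases T.perm_dichotomy k hσm hmP with hH | hinv
  · exfalso
    have h1 : R.nsPerm m = 1 := R.nsPerm_of_mem_HS m hH
    have hu1 : u = 1 := by
      refine Subgroup.mem_bot.1 ((R.US_le (H := ⊥) fun r hr _ => absurd ?_ hr.2) hu)
      rw [h1, Equiv.Perm.one_apply]; exact hr.1
    refine hy1 (R.BS_inf_UN ?_ (R.US_mono (fun r hr => hr.1) hyN))
    rw [e, hu1, mul_one]
    exact mul_mem (R.UP_le_BS hv) (R.HS_le_BS hH)
  · rw [hinv] at hu
    have hsplit : R.UP ≤ R.UR (orbSet T.orb k) ⊔ R.US (posSub D X T.orb k) := R.US_le fun r hr t => by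
      by_cases hs : r ∈ subSet D X (orbSet T.orb k)
      · exact Subgroup.mem_sup_right (R.xe_mem_US (S := posSub D X T.orb k) ⟨hr, hs⟩ t)
      · exact Subgroup.mem_sup_left (R.xe_mem_US (S := radSet D X (orbSet T.orb k)) ⟨hr, hs⟩ t)
    obtain ⟨a, ha, b, hb, rfl⟩ := exists_mul_of_mem_sup
      ((T.posSub_le_PJ k).trans (R.PJ_le_normalizer _ T.desc)) (hsplit hv)
    have hbL : b ∈ R.LJ (orbSet T.orb k) := Subgroup.mem_sup_right (R.US_mono (fun r hr => hr.2) hb)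
    have huL : u ∈ R.LJ (orbSet T.orb k) := Subgroup.mem_sup_right (R.US_mono (fun r hr => hr.2) hu)
    have ea : a = y * u⁻¹ * (m : G)⁻¹ * b⁻¹ := by rw [e]; group
    have haL : a ∈ R.UR (orbSet T.orb k) ⊓ R.LJ (orbSet T.orb k) := Subgroup.mem_inf.2 ⟨ha, by
      rw [ea]
      exact mul_mem (mul_mem (mul_mem hyL (inv_mem huL)) (inv_mem (T.NS_PJ_le_LJ _ m hmP))) (inv_mem hbL)⟩
    rw [R.UR_inf_LJ, Subgroup.mem_bot] at haL
    subst haL
    rw [one_mul] at hσv em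
    exact ⟨m, em ▸ mul_mem (mul_mem (inv_mem (T.hA k b hb hσv)) hy) (inv_mem (T.hA k u hu hσu)), hinv, hmP⟩

/-- the longest element of an orbit class -/
noncomputable def nJ (k : Fin T.κ) : R.NS := (T.exists_nJ k).choose

theorem nJ_mem (k : Fin T.κ) : (T.nJ k : G) ∈ T.P1 := (T.exists_nJ k).choose_spec.1

theorem nJ_inv (k : Fin T.κ) : invSet (R.nsPerm (T.nJ k)) = posSub D X T.orb k := (T.exists_nJ k).choose_spec.2.1

theorem nJ_PJ (k : Fin T.κ) : (T.nJ k : G) ∈ R.PJ (orbSet T.orb k) := (T.exists_nJ k).choose_spec.2.2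

theorem nJ_posSub {k : Fin T.κ} {r : Fin D.nroots} (hr : r ∈ posSub D X T.orb k) :
    R.negF (R.nsPerm (T.nJ k) r) ∈ posSub D X T.orb k := by
  have hneg : ¬ half D ≤ (R.nsPerm (T.nJ k) r : ℕ) := ((T.nJ_inv k).symm ▸ hr : r ∈ invSet _).2
  have hpos := (R.negF_pos_iff _).2 hneg
  refine ⟨hpos, by_contra fun hs => ?_⟩
  have h := R.PJ_NS_rad T.desc (J := orbSet T.orb k) (n := (T.nJ k)⁻¹) (inv_mem (T.nJ_PJ k))
    (r := R.negF (R.nsPerm (T.nJ k) r)) ⟨hpos, hs⟩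
  have e : R.nsPerm (T.nJ k)⁻¹ (R.negF (R.nsPerm (T.nJ k) r)) = R.negF r := by
    rw [R.nsPerm_negF, map_inv]
    exact congrArg R.negF ((R.nsPerm (T.nJ k)).symm_apply_apply r)
  rw [e] at h
  exact (R.negF_pos_iff r).1 h.1 hr.1

theorem nJ_pos {k : Fin T.κ} {r : Fin D.nroots} (hr : half D ≤ (r : ℕ)) (hn : r ∉ posSub D X T.orb k) :
    half D ≤ (R.nsPerm (T.nJ k) r : ℕ) ∧ R.nsPerm (T.nJ k) r ∉ posSub D X T.orb k := by
  have h := R.PJ_NS_rad T.desc (n := T.nJ k) (T.nJ_PJ k) (r := r) ⟨hr, fun hs => hn ⟨hr, hs⟩⟩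
  exact ⟨h.1, fun h2 => h.2 h2.2⟩

theorem nJ_sq (k : Fin T.κ) : ((T.nJ k * T.nJ k : R.NS) : G) ∈ R.HS := by
  refine R.nsPerm_eq_one_of_pos _ fun i => ?_
  rw [map_mul, Equiv.Perm.mul_apply]
  by_cases h : R.sroot i ∈ posSub D X T.orb k
  · have h1 := T.nJ_posSub h
    have h2 : ¬ half D ≤ (R.nsPerm (T.nJ k) (R.negF (R.nsPerm (T.nJ k) (R.sroot i))) : ℕ) :=
      ((T.nJ_inv k).symm ▸ h1 : _ ∈ invSet _).2
    rw [R.nsPerm_negF, R.negF_pos_iff, not_not] at h2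
    exact h2
  · obtain ⟨h1, h2⟩ := T.nJ_pos (R.sroot_pos i) h
    exact (T.nJ_pos h1 h2).1

theorem nJ_perm_invol (k : Fin T.κ) (r : Fin D.nroots) : R.nsPerm (T.nJ k) (R.nsPerm (T.nJ k) r) = r := by
  rw [← Equiv.Perm.mul_apply, ← map_mul, R.nsPerm_of_mem_HS _ (T.nJ_sq k), Equiv.Perm.one_apply]

theorem inv_mul_nJ {n : R.NS} {k : Fin T.κ} (h : posSub D X T.orb k ⊆ invSet (R.nsPerm n)) :
    invSet (R.nsPerm (n * (T.nJ k)⁻¹)) = R.nsPerm (T.nJ k) '' (invSet (R.nsPerm n) \ posSub D X T.orb k) := by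
  have hinv : R.nsPerm (T.nJ k)⁻¹ = R.nsPerm (T.nJ k) := by
    rw [map_inv]
    exact Equiv.ext fun r => (Equiv.symm_apply_eq _).2 (T.nJ_perm_invol k r).symm
  ext s
  obtain ⟨r, rfl⟩ : ∃ r, R.nsPerm (T.nJ k) r = s := ⟨_, T.nJ_perm_invol k s⟩
  rw [(R.nsPerm (T.nJ k)).injective.mem_set_image]
  show (half D ≤ _ ∧ ¬ half D ≤ _) ↔ _
  rw [map_mul, Equiv.Perm.mul_apply, hinv, T.nJ_perm_invol]
  constructor
  · rintro ⟨h1, h2⟩
    by_cases hr : half D ≤ (r : ℕ)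
    · exact ⟨⟨hr, h2⟩, fun hs => ((T.nJ_inv k).symm ▸ hs : r ∈ invSet _).2 h1⟩
    · exfalso
      have hneg := (R.negF_pos_iff r).2 hr
      by_cases hs : R.negF r ∈ posSub D X T.orb k
      · refine (h hs).2 ?_
        rw [R.nsPerm_negF, R.negF_pos_iff]; exact h2
      · have := (T.nJ_pos hneg hs).1
        rw [R.nsPerm_negF, R.negF_pos_iff] at this
        exact this h1
  · rintro ⟨⟨h1, h2⟩, h3⟩
    exact ⟨(T.nJ_pos h1 h3).1, h2⟩

theorem ncard_inv_mul_nJ {n : R.NS} {k : Fin T.κ} (h : posSub D X T.orb k ⊆ invSet (R.nsPerm n)) :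
    (invSet (R.nsPerm (n * (T.nJ k)⁻¹))).ncard + (posSub D X T.orb k).ncard = (invSet (R.nsPerm n)).ncard := by
  rw [T.inv_mul_nJ h, Set.ncard_image_of_injective _ (R.nsPerm (T.nJ k)).injective,
    Set.ncard_sdiff_add_ncard_of_subset h (Set.toFinite _)]

theorem posSub_nonempty (k : Fin T.κ) : 0 < (posSub D X T.orb k).ncard := by
  obtain ⟨i, rfl⟩ := T.orb_surj k
  exact (Set.ncard_pos (Set.toFinite _)).2 ⟨R.sroot i, R.sroot_pos i, R.sroot_mem_sub _ (T.mem_orbSet.2 rfl)⟩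

theorem exists_descent_orb {n : R.NS} (hn : T.σ n = n) (hH : (n : G) ∉ R.HS) :
    ∃ k, posSub D X T.orb k ⊆ invSet (R.nsPerm n) := by
  obtain ⟨i, hi⟩ : ∃ i : Fin D.rank, ¬ half D ≤ (R.nsPerm n (R.sroot i) : ℕ) :=
    not_forall.1 fun h => hH (R.nsPerm_eq_one_of_pos n h)
  exact ⟨T.orb i, fun r hr => ⟨hr.1, T.neg_posSub hn hi hr⟩⟩

/-- fixed elements factor compatibly with a fixed element of `N` -/
theorem fixed_factor {n : R.NS} (hn : T.σ n = n) {u : G} (hu : u ∈ R.UP) (hσ : T.σ u = u) :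
    ∃ p ∈ R.US (keepSet (R.nsPerm n)), ∃ m ∈ R.US (invSet (R.nsPerm n)),
      u = p * m ∧ T.σ p = p ∧ T.σ m = m := by
  obtain ⟨p, hp, m, hm, rfl⟩ := R.exists_UP_factor (R.nsPerm n) hu
  have hp' : T.σ p ∈ R.US (keepSet (R.nsPerm n)) := T.toTw.σ_mem_US (S := keepSet (R.nsPerm n)) (S' := keepSet (R.nsPerm n)) (fun r hr => ⟨(T.pos r).2 hr.1, by
    rw [T.toTw.perm_comm hn, T.pos]; exact hr.2⟩) hp
  have hm' : T.σ m ∈ R.US (invSet (R.nsPerm n)) := T.toTw.σ_mem_US (S := invSet (R.nsPerm n)) (S' := invSet (R.nsPerm n)) (fun r hr => ⟨(T.pos r).2 hr.1, by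
    rw [T.toTw.perm_comm hn, T.pos]; exact hr.2⟩) hm
  rw [map_mul] at hσ
  have h1 : p⁻¹ * T.σ p = m * (T.σ m)⁻¹ := by
    rw [eq_mul_inv_iff_mul_eq, mul_assoc, hσ, inv_mul_cancel_left]
  have h2 := R.keep_inf_inv n (mul_mem (inv_mem hp) hp') (h1 ▸ mul_mem hm (inv_mem hm'))
  have h3 : T.σ p = p := (inv_mul_eq_one.1 h2).symm
  rw [h3] at hσ
  exact ⟨p, hp, m, hm, rfl, h3, mul_left_cancel hσ⟩

/-- fixed unipotent elements inverted by a fixed element of `N` lie in every subgroup containing the orbit classes -/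
theorem fixed_UP_mem (S : Subgroup G) (hS : ∀ k, ∀ u ∈ R.US (posSub D X T.orb k), T.σ u = u → u ∈ S)
    (hconj : ∀ k, ∀ g ∈ S, (T.nJ k : G)⁻¹ * g * (T.nJ k : G) ∈ S) :
    ∀ n : R.NS, T.σ n = n → ∀ u ∈ R.UP, T.σ u = u → (n : G) * u * (n : G)⁻¹ ∈ R.UN → u ∈ S := by
  intro n
  induction hN : (invSet (R.nsPerm n)).ncard using Nat.strong_induction_on generalizing n with
  | _ N ih =>
    intro hn u hu hσu hc
    by_cases hH : (n : G) ∈ R.HS
    · have h2 : (n : G) * u * (n : G)⁻¹ ∈ R.UP :=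
        (Subgroup.mem_normalizer_iff.1 (R.HS_le_normalizer_US _ hH) u).1 hu
      have h3 := R.BS_inf_UN (R.UP_le_BS h2) hc
      rw [mul_inv_eq_one, mul_eq_left] at h3
      rw [h3]; exact one_mem _
    · obtain ⟨k, hk⟩ := T.exists_descent_orb hn hH
      have hnk : T.σ (T.nJ k : G) = T.nJ k := T.hfix _ (T.nJ_mem k)
      obtain ⟨p, hp, m, hm, rfl, hσp, hσm⟩ := T.fixed_factor hnk hu hσu
      rw [T.nJ_inv k] at hm
      obtain ⟨a, ha⟩ := R.isMon_nsPerm n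
      have hm2 : (n : G) * m * (n : G)⁻¹ ∈ R.UN :=
        Rel.IsMon.conj_mem_US R ha (T := negSet D) (fun r hr => (hk hr).2) hm
      have hlt : (invSet (R.nsPerm (n * (T.nJ k)⁻¹))).ncard < N := by
        have h1 := T.ncard_inv_mul_nJ hk
        have h2 := T.posSub_nonempty k
        omega
      have hn' : T.σ ((n * (T.nJ k)⁻¹ : R.NS) : G) = (n * (T.nJ k)⁻¹ : R.NS) := by
        rw [Subgroup.coe_mul, Subgroup.coe_inv, map_mul, map_inv, hn, hnk]
      have hc' := ih _ hlt (n * (T.nJ k)⁻¹) rfl hn' _ (R.conj_keep hp)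
        (by rw [map_mul, map_mul, map_inv, hnk, hσp]) (by
          have : ((n * (T.nJ k)⁻¹ : R.NS) : G) * ((T.nJ k : G) * p * (T.nJ k : G)⁻¹) *
              ((n * (T.nJ k)⁻¹ : R.NS) : G)⁻¹ = ((n : G) * (p * m) * (n : G)⁻¹) * ((n : G) * m * (n : G)⁻¹)⁻¹ := by
            simp only [Subgroup.coe_mul, Subgroup.coe_inv]; group
          rw [this]
          exact mul_mem hc (inv_mem hm2))
      have hp2 := hconj k _ hc'
      have e : (T.nJ k : G)⁻¹ * ((T.nJ k : G) * p * (T.nJ k : G)⁻¹) * (T.nJ k : G) = p := by group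
      rw [e] at hp2
      exact mul_mem hp2 (hS k m hm hσm)

theorem exists_n0 : ∃ n : R.NS, (n : G) ∈ T.P1 ∧
    ∀ r : Fin D.nroots, half D ≤ (r : ℕ) → ¬ half D ≤ (R.nsPerm n r : ℕ) := by
  suffices h : ∀ N, ∀ n : R.NS, (n : G) ∈ T.P1 → D.nroots - (invSet (R.nsPerm n)).ncard = N →
      ∃ n : R.NS, (n : G) ∈ T.P1 ∧ ∀ r : Fin D.nroots, half D ≤ (r : ℕ) → ¬ half D ≤ (R.nsPerm n r : ℕ) from
    h _ 1 (one_mem _) rfl
  intro N
  induction N using Nat.strong_induction_on with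
  | _ N ih =>
    intro n hn hN
    by_cases h : ∀ i : Fin D.rank, ¬ half D ≤ (R.nsPerm n (R.sroot i) : ℕ)
    · exact ⟨n, hn, fun r hr => R.nsPerm_neg_of_coef hr fun i _ => h i⟩
    · simp only [not_forall, not_not] at h
      obtain ⟨i, hi⟩ := h
      have hsub : posSub D X T.orb (T.orb i) ⊆ invSet (R.nsPerm (n * T.nJ (T.orb i))) := fun r hr => by
        refine ⟨hr.1, ?_⟩
        rw [map_mul, Equiv.Perm.mul_apply]
        have h1 := T.pos_posSub (T.hfix _ hn) hi (T.nJ_posSub hr)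
        rw [R.nsPerm_negF, R.negF_pos_iff] at h1
        exact h1
      have h1 := T.ncard_inv_mul_nJ hsub
      rw [mul_inv_cancel_right] at h1
      have h2 := T.posSub_nonempty (T.orb i)
      have h3 : (invSet (R.nsPerm (n * T.nJ (T.orb i)))).ncard ≤ D.nroots := by
        have := Set.ncard_le_ncard (Set.subset_univ (invSet (R.nsPerm (n * T.nJ (T.orb i))))) (Set.toFinite _)
        rwa [Set.ncard_univ, Nat.card_eq_fintype_card, Fintype.card_fin] at this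
      exact ih _ (by omega) (n * T.nJ (T.orb i)) (mul_mem hn (T.nJ_mem _)) rfl

theorem mem_P1_of_fixed_UP {u : G} (hu : u ∈ R.UP) (hσ : T.σ u = u) : u ∈ T.P1 := by
  obtain ⟨n, hn, hn0⟩ := T.exists_n0
  obtain ⟨a, ha⟩ := R.isMon_nsPerm n
  exact T.fixed_UP_mem T.P1 T.hA (fun k g hg => mul_mem (mul_mem (inv_mem (T.nJ_mem k)) hg) (T.nJ_mem k)) n
    (T.hfix _ hn) u hu hσ (Rel.IsMon.conj_mem_US R ha (T := negSet D) (fun r hr => hn0 r hr) hu)

theorem mem_P1_of_fixed_UN {u : G} (hu : u ∈ R.UN) (hσ : T.σ u = u) : u ∈ T.P1 := by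
  obtain ⟨n, hn, hn0⟩ := T.exists_n0
  obtain ⟨a, ha⟩ := R.isMon_nsPerm n
  have h1 : (n : G) * u * (n : G)⁻¹ ∈ R.UP :=
    Rel.IsMon.conj_mem_US R ha (T := posSet D) (fun r hr => by
      have h := hn0 (R.negF r) ((R.negF_pos_iff r).2 hr)
      rw [R.nsPerm_negF, R.negF_pos_iff, not_not] at h
      exact h) hu
  have h2 := T.mem_P1_of_fixed_UP h1 (by rw [map_mul, map_mul, map_inv, T.hfix _ hn, hσ])
  have := mul_mem (mul_mem (inv_mem hn) h2) hn
  simpa [mul_assoc] using this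

/-- normal form in the twisted group -/
theorem P1_bnu {g : G} (hg : g ∈ T.P1) :
    ∃ v ∈ R.UP, ∃ m : R.NS, ∃ u ∈ R.US (invSet (R.nsPerm m)),
      g = v * m * u ∧ v ∈ T.P1 ∧ (m : G) ∈ T.P1 ∧ u ∈ T.P1 := by
  obtain ⟨v, hv, m, u, hu, e, h1, h2, h3⟩ := T.toTw.fixed_bnu (T.hfix g hg)
  have hv1 := T.mem_P1_of_fixed_UP hv h1
  have hu1 := T.mem_P1_of_fixed_UP (R.US_mono (Rel.invSet_subset _) hu) h3
  refine ⟨v, hv, m, u, hu, e, hv1, ?_, hu1⟩
  have em : (m : G) = v⁻¹ * g * u⁻¹ := by rw [e]; group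
  rw [em]
  exact mul_mem (mul_mem (inv_mem hv1) hg) (inv_mem hu1)

theorem exists_BS_factor {b : G} (hb : b ∈ R.BS) (hb1 : b ∈ T.P1) :
    ∃ v ∈ R.UP, ∃ h ∈ R.HS, b = v * h ∧ v ∈ T.P1 ∧ h ∈ T.P1 := by
  obtain ⟨v, hv, h, hh, e, h1, _⟩ := T.toTw.fixed_BS hb (T.hfix b hb1)
  have hv1 := T.mem_P1_of_fixed_UP hv h1
  refine ⟨v, hv, h, hh, e, hv1, ?_⟩
  have eh : h = v⁻¹ * b := by rw [e]; group
  rw [eh]
  exact mul_mem (inv_mem hv1) hb1

theorem mem_closure_nJ : ∀ n : R.NS, (n : G) ∈ T.P1 →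
    (n : G) ∈ Subgroup.closure (Set.range fun k => (T.nJ k : G)) ⊔ (R.HS ⊓ T.P1) := by
  intro n
  induction hN : (invSet (R.nsPerm n)).ncard using Nat.strong_induction_on generalizing n with
  | _ N ih =>
    intro hn
    by_cases hH : (n : G) ∈ R.HS
    · exact Subgroup.mem_sup_right (Subgroup.mem_inf.2 ⟨hH, hn⟩)
    · obtain ⟨k, hk⟩ := T.exists_descent_orb (T.hfix _ hn) hH
      have h1 := T.ncard_inv_mul_nJ hk
      have h2 := T.posSub_nonempty k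
      have h3 := ih _ (by omega) (n * (T.nJ k)⁻¹) rfl (mul_mem hn (inv_mem (T.nJ_mem k)))
      have hk1 : (T.nJ k : G) ∈ Subgroup.closure (Set.range fun k => (T.nJ k : G)) ⊔ (R.HS ⊓ T.P1) :=
        Subgroup.mem_sup_left (Subgroup.subset_closure ⟨k, rfl⟩)
      have := mul_mem h3 hk1
      rwa [Subgroup.coe_mul, Subgroup.coe_inv, inv_mul_cancel_right] at this

end TwG

end CfsgLib.Lie.Chev
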