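/-
Counting elements of twisted groups through the fixed Bruhat normal form.
-/
import Cfsg.Agent.Lib.Lie.Twisted.Group

set_option autoImplicit false

namespace CfsgLib.Lie.Chev

open Cfsg.Lie (ChevalleyDatum)

namespace Rel

variable {D : ChevalleyDatum} {X : Aux} {F : Type*} [Field F] {G : Type*} [Group G] (R : Rel D X F G)
include R

/-- a positive unipotent element sent to the negative side is supported on the inversion set -/
theorem mem_US_inv {n : R.NS} {c : G} (hc : c ∈ R.UP) (h : (n : G) * c * (n : G)⁻¹ ∈ R.UN) :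
    c ∈ R.US (invSet (R.nsPerm n)) := by
  obtain ⟨p, hp, m, hm, rfl⟩ := R.exists_UP_factor (R.nsPerm n) hc
  have h2 : (n : G) * p * (n : G)⁻¹ ∈ R.UN := by
    have e : (n : G) * p * (n : G)⁻¹ = ((n : G) * (p * m) * (n : G)⁻¹) * ((n : G) * m * (n : G)⁻¹)⁻¹ := by group
    rw [e]
    exact mul_mem h (inv_mem (R.conj_inv hm))
  have h3 := R.BS_inf_UN (R.UP_le_BS (R.conj_keep hp)) h2
  rw [mul_inv_eq_one, mul_eq_left] at h3
  rw [h3, one_mul]
  exact hm

/-- elements of `N` with the same inversion set act on the roots in the same way -/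
theorem nsPerm_eq_of_invSet {n m : R.NS} (h : invSet (R.nsPerm n) = invSet (R.nsPerm m)) :
    R.nsPerm n = R.nsPerm m := by
  have key : ((n * m⁻¹ : R.NS) : G) ∈ R.HS := by
    refine R.nsPerm_eq_one_of_pos _ fun i => ?_
    rw [map_mul, map_inv, Equiv.Perm.mul_apply]
    obtain ⟨s, hs⟩ := (R.nsPerm m).surjective (R.sroot i)
    rw [← hs, Equiv.Perm.inv_def, Equiv.symm_apply_apply]
    by_cases hpos : half D ≤ (s : ℕ)
    · by_contra hn
      have h1 : s ∈ invSet (R.nsPerm m) := h ▸ (⟨hpos, hn⟩ : s ∈ invSet (R.nsPerm n))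
      exact h1.2 (hs ▸ R.sroot_pos i)
    · have h1 : R.negF s ∈ invSet (R.nsPerm m) :=
        ⟨(R.negF_pos_iff s).2 hpos, by rw [R.nsPerm_negF, R.negF_pos_iff, not_not, hs]; exact R.sroot_pos i⟩
      rw [← h] at h1
      have h2 := h1.2
      rw [R.nsPerm_negF, R.negF_pos_iff, not_not] at h2
      exact h2
  have h2 := R.nsPerm_of_mem_HS _ key
  rwa [map_mul, map_inv, mul_inv_eq_one] at h2

theorem ncard_posSet : (posSet D).ncard = half D := by
  have hn := R.cert.nroots_eq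
  have e : posSet D = Set.range (fun i : Fin (half D) => (⟨half D + i, by omega⟩ : Fin D.nroots)) := by
    ext r
    constructor
    · intro hr
      exact ⟨⟨(r : ℕ) - half D, by have := r.2; omega⟩, Fin.ext (Nat.add_sub_cancel' hr)⟩
    · rintro ⟨i, rfl⟩; exact Nat.le_add_right _ _
  rw [e, Set.ncard_range_of_injective, Nat.card_eq_fintype_card, Fintype.card_fin]
  intro a b hab
  exact Fin.ext (Nat.add_left_cancel (congrArg Fin.val hab))

end Rel

namespace TwG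

variable {D : ChevalleyDatum} {X : Aux} {F : Type*} [Field F] {G : Type*} [Group G] {R : Rel D X F G} (T : TwG R)

/-- monomial elements of the twisted group -/
def NP : Subgroup R.NS := T.P1.comap R.NS.subtype

/-- the twisted Weyl group as a group of permutations -/
noncomputable def permW : Subgroup (Equiv.Perm (Fin D.nroots)) := T.NP.map R.nsPerm

/-- fixed elements supported on an inversion set -/
def WS (σ : Equiv.Perm (Fin D.nroots)) : Subgroup G := T.P1 ⊓ R.US (invSet σ)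

/-- every orbit class has `c ^ e` fixed elements, where `d * e` is its number of roots -/
def ClassCard (c d : ℕ) : Prop :=
  ∀ k, ∃ e, (posSub D X T.orb k).ncard = d * e ∧ Nat.card ↥(T.P1 ⊓ R.US (posSub D X T.orb k)) = c ^ e

include T

theorem card_WS {c d : ℕ} (hd : 0 < d) (hc : T.ClassCard c d) : ∀ n : R.NS, (n : G) ∈ T.P1 →
    ∃ e, (invSet (R.nsPerm n)).ncard = d * e ∧ Nat.card ↥(T.WS (R.nsPerm n)) = c ^ e := by
  intro n
  induction hN : (invSet (R.nsPerm n)).ncard using Nat.strong_induction_on generalizing n with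
  | _ N ih =>
    intro hn
    by_cases hH : (n : G) ∈ R.HS
    · have h0 : invSet (R.nsPerm n) = ∅ := by
        rw [R.nsPerm_of_mem_HS n hH]
        ext r
        exact ⟨fun h => h.2 h.1, False.elim⟩
      refine ⟨0, by rw [← hN, h0, Set.ncard_empty, mul_zero], ?_⟩
      rw [pow_zero, Subgroup.card_eq_one, eq_bot_iff]
      intro x hx
      have := (Subgroup.mem_inf.1 hx).2
      rw [h0] at this
      exact Subgroup.mem_bot.2 (Subgroup.mem_bot.1 ((R.US_le (H := ⊥) fun r hr _ => hr.elim) this))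
    · obtain ⟨k, hk⟩ := T.exists_descent_orb (T.hfix _ hn) hH
      have h1 := T.ncard_inv_mul_nJ hk
      have h2 := T.posSub_nonempty k
      have hn' : ((n * (T.nJ k)⁻¹ : R.NS) : G) ∈ T.P1 := mul_mem hn (inv_mem (T.nJ_mem k))
      obtain ⟨e1, he1, he1'⟩ := ih _ (by omega) (n * (T.nJ k)⁻¹) rfl hn'
      obtain ⟨e2, he2, he2'⟩ := hc k
      refine ⟨e1 + e2, by rw [mul_add]; omega, ?_⟩
      rw [pow_add, ← he1', ← he2', ← Nat.card_prod]
      obtain ⟨a, ha⟩ := R.isMon_nsPerm (T.nJ k)⁻¹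
      have hconj : ∀ x ∈ R.US (invSet (R.nsPerm (n * (T.nJ k)⁻¹))),
          (T.nJ k : G)⁻¹ * x * (T.nJ k : G) ∈ R.US (invSet (R.nsPerm n) \ posSub D X T.orb k) := by
        intro x hx
        have h3 := Rel.IsMon.conj_mem_US R ha (T := invSet (R.nsPerm n) \ posSub D X T.orb k) (fun r hr => by
          rw [T.inv_mul_nJ hk] at hr
          obtain ⟨s, hs, rfl⟩ := hr
          rwa [map_inv, Equiv.Perm.inv_def, Equiv.symm_apply_apply]) hx
        rwa [Subgroup.coe_inv, inv_inv] at h3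
      have hmem : ∀ x : ↥(T.WS (R.nsPerm (n * (T.nJ k)⁻¹))) × ↥(T.P1 ⊓ R.US (posSub D X T.orb k)),
          (T.nJ k : G)⁻¹ * (x.1 : G) * (T.nJ k : G) * (x.2 : G) ∈ T.WS (R.nsPerm n) := by
        intro x
        obtain ⟨hx1, hx1'⟩ := Subgroup.mem_inf.1 x.1.2
        obtain ⟨hx2, hx2'⟩ := Subgroup.mem_inf.1 x.2.2
        exact Subgroup.mem_inf.2 ⟨mul_mem (mul_mem (mul_mem (inv_mem (T.nJ_mem k)) hx1) (T.nJ_mem k)) hx2,
          mul_mem (R.US_mono Set.sdiff_subset (hconj _ hx1')) (R.US_mono hk hx2')⟩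
      let f : ↥(T.WS (R.nsPerm (n * (T.nJ k)⁻¹))) × ↥(T.P1 ⊓ R.US (posSub D X T.orb k)) → ↥(T.WS (R.nsPerm n)) :=
        fun x => ⟨_, hmem x⟩
      suffices hb : Function.Bijective f from (Nat.card_congr (Equiv.ofBijective f hb)).symm
      refine ⟨?_, ?_⟩
      · intro x y e
        have e' : (T.nJ k : G)⁻¹ * (x.1 : G) * (T.nJ k : G) * (x.2 : G) =
            (T.nJ k : G)⁻¹ * (y.1 : G) * (T.nJ k : G) * (y.2 : G) := congrArg Subtype.val e
        have hkeep : ∀ z : ↥(T.WS (R.nsPerm (n * (T.nJ k)⁻¹))),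
            (T.nJ k : G)⁻¹ * (z : G) * (T.nJ k : G) ∈ R.US (keepSet (R.nsPerm (T.nJ k))) := fun z =>
          R.US_mono (S := invSet (R.nsPerm n) \ posSub D X T.orb k) (T := keepSet (R.nsPerm (T.nJ k)))
            (fun r hr => ⟨hr.1.1, (T.nJ_pos hr.1.1 hr.2).1⟩) (hconj _ (Subgroup.mem_inf.1 z.2).2)
        have hinv : ∀ z : ↥(T.P1 ⊓ R.US (posSub D X T.orb k)), (z : G) ∈ R.US (invSet (R.nsPerm (T.nJ k))) :=
          fun z => by rw [T.nJ_inv]; exact (Subgroup.mem_inf.1 z.2).2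
        have h3 : ((T.nJ k : G)⁻¹ * (y.1 : G) * (T.nJ k : G))⁻¹ * ((T.nJ k : G)⁻¹ * (x.1 : G) * (T.nJ k : G)) =
            (y.2 : G) * (x.2 : G)⁻¹ := by
          rw [eq_mul_inv_iff_mul_eq, mul_assoc, e', inv_mul_cancel_left]
        have h4 := R.keep_inf_inv (T.nJ k) (mul_mem (inv_mem (hkeep y.1)) (hkeep x.1))
          (h3 ▸ mul_mem (hinv y.2) (inv_mem (hinv x.2)))
        have h5 : (y.2 : G) = x.2 := mul_inv_eq_one.1 (h3.symm.trans h4)
        rw [inv_mul_eq_one] at h4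
        refine Prod.ext (Subtype.ext ?_) (Subtype.ext h5.symm)
        exact (mul_left_cancel (mul_right_cancel h4)).symm
      · rintro ⟨u, hu⟩
        obtain ⟨hu1, hu2⟩ := Subgroup.mem_inf.1 hu
        obtain ⟨p, hp, m, hm, rfl, hσp, hσm⟩ :=
          T.fixed_factor (T.hfix _ (T.nJ_mem k)) (R.US_mono (Rel.invSet_subset _) hu2) (T.hfix _ hu1)
        rw [T.nJ_inv] at hm
        have hp1 : p ∈ T.P1 := T.mem_P1_of_fixed_UP (R.US_mono (Rel.keepSet_subset _) hp) hσp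
        have hm1 : m ∈ T.P1 := T.hA k m hm hσm
        obtain ⟨b, hb⟩ := R.isMon_nsPerm n
        have hnm : (n : G) * m * (n : G)⁻¹ ∈ R.UN :=
          Rel.IsMon.conj_mem_US R hb (T := negSet D) (fun r hr => (hk hr).2) hm
        have hc1 : (T.nJ k : G) * p * (T.nJ k : G)⁻¹ ∈ R.US (invSet (R.nsPerm (n * (T.nJ k)⁻¹))) := by
          refine R.mem_US_inv (R.conj_keep hp) ?_
          have e : ((n * (T.nJ k)⁻¹ : R.NS) : G) * ((T.nJ k : G) * p * (T.nJ k : G)⁻¹) *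
              ((n * (T.nJ k)⁻¹ : R.NS) : G)⁻¹ = ((n : G) * (p * m) * (n : G)⁻¹) * ((n : G) * m * (n : G)⁻¹)⁻¹ := by
            simp only [Subgroup.coe_mul, Subgroup.coe_inv]; group
          rw [e]
          exact mul_mem (R.conj_inv hu2) (inv_mem hnm)
        refine ⟨(⟨_, Subgroup.mem_inf.2 ⟨mul_mem (mul_mem (T.nJ_mem k) hp1) (inv_mem (T.nJ_mem k)), hc1⟩⟩,
          ⟨m, Subgroup.mem_inf.2 ⟨hm1, hm⟩⟩), Subtype.ext ?_⟩
        show (T.nJ k : G)⁻¹ * ((T.nJ k : G) * p * (T.nJ k : G)⁻¹) * (T.nJ k : G) * m = p * m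
        group

theorem mem_permW {σ : Equiv.Perm (Fin D.nroots)} :
    σ ∈ T.permW ↔ ∃ n : R.NS, (n : G) ∈ T.P1 ∧ R.nsPerm n = σ := Subgroup.mem_map

/-- the fixed unipotent part has `c ^ e` elements, `d * e` the number of positive roots -/
theorem card_U1 {c d : ℕ} (hd : 0 < d) (hc : T.ClassCard c d) :
    ∃ e, half D = d * e ∧ Nat.card ↥(T.P1 ⊓ R.UP) = c ^ e := by
  obtain ⟨n, hn, hn0⟩ := T.exists_n0
  obtain ⟨e, he, he'⟩ := T.card_WS hd hc n hn
  have hs : invSet (R.nsPerm n) = posSet D := by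
    ext r; exact ⟨fun h => h.1, fun h => ⟨h, hn0 r h⟩⟩
  rw [hs, R.ncard_posSet] at he
  refine ⟨e, he, ?_⟩
  rw [← he', WS, hs]
  rfl

/-- the order of the twisted group -/
theorem card_P1 [Finite G] [Fintype T.permW] :
    Nat.card ↥T.P1 = Nat.card ↥(T.P1 ⊓ R.UP) * Nat.card ↥(T.P1 ⊓ R.HS) *
      ∑ σ : T.permW, Nat.card ↥(T.WS (σ : Equiv.Perm (Fin D.nroots))) := by
  have hex : ∀ σ : T.permW, ∃ n : R.NS, (n : G) ∈ T.P1 ∧ R.nsPerm n = σ := fun σ => T.mem_permW.1 σ.2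
  choose rep hrep1 hrep2 using hex
  have hmem : ∀ x : (σ : T.permW) × ((↥(T.P1 ⊓ R.UP) × ↥(T.P1 ⊓ R.HS)) × ↥(T.WS (σ : Equiv.Perm (Fin D.nroots)))),
      (x.2.1.1 : G) * (x.2.1.2 : G) * (rep x.1 : G) * (x.2.2 : G) ∈ T.P1 := fun x =>
    mul_mem (mul_mem (mul_mem (Subgroup.mem_inf.1 x.2.1.1.2).1 (Subgroup.mem_inf.1 x.2.1.2.2).1) (hrep1 x.1))
      (Subgroup.mem_inf.1 x.2.2.2).1
  let f : ((σ : T.permW) × ((↥(T.P1 ⊓ R.UP) × ↥(T.P1 ⊓ R.HS)) × ↥(T.WS (σ : Equiv.Perm (Fin D.nroots))))) → ↥T.P1 :=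
    fun x => ⟨_, hmem x⟩
  suffices hb : Function.Bijective f by
    rw [← Nat.card_congr (Equiv.ofBijective f hb), Nat.card_sigma, Finset.mul_sum]
    exact Finset.sum_congr rfl fun σ _ => by rw [Nat.card_prod, Nat.card_prod]
  refine ⟨?_, ?_⟩
  · rintro ⟨σ, ⟨⟨v, hv⟩, ⟨h, hh⟩⟩, ⟨u, hu⟩⟩ ⟨σ', ⟨⟨v', hv'⟩, ⟨h', hh'⟩⟩, ⟨u', hu'⟩⟩ e
    have e' : v * h * (rep σ : G) * u = v' * h' * (rep σ' : G) * u' := congrArg Subtype.val e
    have hb : v * h ∈ R.BS := mul_mem (R.UP_le_BS (Subgroup.mem_inf.1 hv).2) (R.HS_le_BS (Subgroup.mem_inf.1 hh).2)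
    have hb' : v' * h' ∈ R.BS :=
      mul_mem (R.UP_le_BS (Subgroup.mem_inf.1 hv').2) (R.HS_le_BS (Subgroup.mem_inf.1 hh').2)
    have hu2 : u ∈ R.US (invSet (σ : Equiv.Perm (Fin D.nroots))) := (Subgroup.mem_inf.1 hu).2
    have hu2' : u' ∈ R.US (invSet (σ' : Equiv.Perm (Fin D.nroots))) := (Subgroup.mem_inf.1 hu').2
    have hw := R.bnu_weyl (n := rep σ) (n' := rep σ') hb hb' (R.US_mono (Rel.invSet_subset _) hu2)
      (R.US_mono (Rel.invSet_subset _) hu2') e'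
    have hw2 := R.nsPerm_of_mem_HS ((rep σ)⁻¹ * rep σ') hw
    rw [map_mul, map_inv, inv_mul_eq_one, hrep2, hrep2] at hw2
    obtain rfl : σ = σ' := Subtype.ext hw2
    rw [← hrep2] at hu2 hu2'
    obtain ⟨h1, rfl⟩ := R.bnu_unique hb hb' hu2 hu2' e'
    obtain ⟨rfl, rfl⟩ := R.UP_HS_unique (Subgroup.mem_inf.1 hv).2 (Subgroup.mem_inf.1 hv').2
      (Subgroup.mem_inf.1 hh).2 (Subgroup.mem_inf.1 hh').2 h1
    rfl
  · rintro ⟨g, hg⟩
    obtain ⟨v, hv, m, u, hu, rfl, hv1, hm1, hu1⟩ := T.P1_bnu hg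
    let σ : T.permW := ⟨R.nsPerm m, T.mem_permW.2 ⟨m, hm1, rfl⟩⟩
    have hh : ((m * (rep σ)⁻¹ : R.NS) : G) ∈ R.HS :=
      R.mem_HS_of_nsPerm (by rw [map_mul, map_inv, hrep2]; exact mul_inv_cancel _)
    refine ⟨⟨σ, (⟨v, Subgroup.mem_inf.2 ⟨hv1, hv⟩⟩, ⟨_, Subgroup.mem_inf.2 ⟨mul_mem hm1 (inv_mem (hrep1 σ)), hh⟩⟩),
      ⟨u, Subgroup.mem_inf.2 ⟨hu1, hu⟩⟩⟩, Subtype.ext ?_⟩
    show v * ((m * (rep σ)⁻¹ : R.NS) : G) * (rep σ : G) * u = v * m * u
    rw [Subgroup.coe_mul, Subgroup.coe_inv]; group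

/-- projection of the monomial elements on the twisted Weyl group -/
noncomputable def permHom : T.NP →* T.permW := R.nsPerm.subgroupMap T.NP

theorem permHom_surjective : Function.Surjective T.permHom := R.nsPerm.subgroupMap_surjective T.NP

theorem permHom_eq_one {x : T.NP} : T.permHom x = 1 ↔ ((x : R.NS) : G) ∈ R.HS :=
  ⟨fun h => R.mem_HS_of_nsPerm (congrArg Subtype.val h), fun h => Subtype.ext (R.nsPerm_of_mem_HS _ h)⟩

theorem permW_eq_closure : T.permW = Subgroup.closure (Set.range fun k => R.nsPerm (T.nJ k)) := by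
  refine le_antisymm ?_ ((Subgroup.closure_le _).2 ?_)
  · intro σ hσ
    obtain ⟨n, hn, rfl⟩ := T.mem_permW.1 hσ
    clear hσ
    induction hN : (invSet (R.nsPerm n)).ncard using Nat.strong_induction_on generalizing n with
    | _ N ih =>
      by_cases hH : (n : G) ∈ R.HS
      · rw [R.nsPerm_of_mem_HS n hH]; exact one_mem _
      · obtain ⟨k, hk⟩ := T.exists_descent_orb (T.hfix _ hn) hH
        have h1 := T.ncard_inv_mul_nJ hk
        have h2 := T.posSub_nonempty k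
        have h3 := ih _ (by omega) (n * (T.nJ k)⁻¹) (mul_mem hn (inv_mem (T.nJ_mem k))) rfl
        rw [map_mul, map_inv] at h3
        have hk1 : R.nsPerm (T.nJ k) ∈ Subgroup.closure (Set.range fun k => R.nsPerm (T.nJ k)) :=
          Subgroup.subset_closure ⟨k, rfl⟩
        have h4 := mul_mem h3 hk1
        rwa [inv_mul_cancel_right] at h4
  · rintro _ ⟨k, rfl⟩
    exact T.mem_permW.2 ⟨T.nJ k, T.nJ_mem k, rfl⟩

end TwG

end CfsgLib.Lie.Chev
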