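/-
Checked enumerations of twisted Weyl groups by inversion count.
-/
import Cfsg.Agent.Lib.Lie.Twisted.Count
import Cfsg.Agent.Lib.Lie.Rel.Coxeter
import Cfsg.Agent.Lib.Lie.Rel.PolyCheck

set_option autoImplicit false

namespace CfsgLib.Lie.Chev

open Cfsg.Lie (ChevalleyDatum)

/-- a list of small numbers packed in one number -/
def encKey : List ℕ → ℕ
  | [] => 0
  | a :: as => a + 128 * encKey as

/-- unpacking -/
def decKey : ℕ → ℕ → List ℕ
  | 0, _ => []
  | n + 1, m => m % 128 :: decKey n (m / 128)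

theorem decKey_encKey : ∀ l : List ℕ, (∀ a ∈ l, a < 128) → decKey l.length (encKey l) = l
  | [], _ => rfl
  | a :: as, h => by
    have ha := h a List.mem_cons_self
    simp only [List.length_cons, encKey, decKey]
    rw [Nat.add_mul_mod_self_left, Nat.mod_eq_of_lt ha, Nat.add_mul_div_left _ _ (by norm_num : 0 < 128),
      Nat.div_eq_of_lt ha, zero_add, decKey_encKey as fun b hb => h b (List.mem_cons_of_mem _ hb)]

/-- sum of the coefficients of a root -/
def totCoef (D : ChevalleyDatum) (X : Aux) (s : ℕ) : ℤ := ((List.range D.rank).map fun j => X.coef j s).sum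

/-- sign test for the image of `r` under the linear map with the given images of the simple roots -/
def imgNeg (D : ChevalleyDatum) (X : Aux) (hts : List ℤ) (r : ℕ) : Bool :=
  decide (((List.range D.rank).map fun i => X.coef i r * hts.getD i 0).sum < 0)

/-- number of positive roots made negative -/
def invCount (D : ChevalleyDatum) (X : Aux) (v : List ℕ) : ℕ :=
  ((List.range' (half D) (half D)).filter (imgNeg D X (v.map (totCoef D X)))).length

/-- apply a word to all entries of a packed state -/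
def actKey (D : ChevalleyDatum) (X : Aux) (w : List ℕ) (key : ℕ) : ℕ :=
  encKey ((decKey D.rank key).map (wordAct X w))

/-- the packed state of the identity -/
def idKey (D : ChevalleyDatum) : ℕ := encKey ((List.range D.rank).map fun i => D.simple i)

/-- the word inverts exactly the positive roots of the orbit class `k` -/
def chkOrbWord (D : ChevalleyDatum) (X : Aux) (orbL : List ℕ) (k : ℕ) (w : List ℕ) : Bool :=
  (w.all fun i => Nat.blt i D.rank) &&
    (List.range' (half D) (half D)).all fun r =>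
      Nat.blt (wordAct X w r) (half D) ==
        (List.range D.rank).all fun i => Nat.beq (orbL.getD i 0) k || decide (X.coef i r = 0)

/-- words for the generators -/
def chkOrbWords (D : ChevalleyDatum) (X : Aux) (orbL : List ℕ) (ws : List (List ℕ)) : Bool :=
  (List.range ws.length).all fun k => chkOrbWord D X orbL k (ws.getD k [])

/-- one layer of an enumeration -/
def chkLayer (D : ChevalleyDatum) (X : Aux) (ws : List (List ℕ)) (d δ : ℕ) (L : List (ℕ × List ℕ))
    (e : ℕ) (ks : List ℕ) : Bool :=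
  decide ks.Nodup && ks.all fun key =>
    Nat.beq (invCount D X (decKey D.rank key)) (d * e) &&
    (ws.all fun w => ((L.filter fun p => Nat.ble p.1 (e + δ) && Nat.ble e (p.1 + δ)).any fun p =>
      p.2.contains (actKey D X w key))) &&
    (Nat.beq key (idKey D) || ws.any fun w => Nat.beq (actKey D X w (actKey D X w key)) key &&
      (L.filter fun p => Nat.blt p.1 e && Nat.ble e (p.1 + δ)).any fun p => p.2.contains (actKey D X w key))

/-- the enumeration certificate -/
def chkEnum (D : ChevalleyDatum) (X : Aux) (ws : List (List ℕ)) (d δ : ℕ) (L : List (ℕ × List ℕ)) : Bool :=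
  Nat.ble D.nroots 128 && decide (L.map Prod.fst).Nodup && (L.any fun p => p.2.contains (idKey D)) &&
    L.all fun p => chkLayer D X ws d δ L p.1 p.2

/-- coefficient list of `a * q ^ e` -/
def monoP (e : ℕ) (a : ℤ) : List ℤ := List.replicate e 0 ++ [a]

theorem horner_monoP (q : ℤ) (a : ℤ) : ∀ e, horner q (monoP e a) = a * q ^ e
  | 0 => by simp [monoP, horner]
  | e + 1 => by
    rw [monoP, List.replicate_succ, List.cons_append, horner]
    rw [show List.replicate e 0 ++ [a] = monoP e a from rfl, horner_monoP q a e]; ring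

/-- the length polynomial of an enumeration -/
def layerPoly : List (ℕ × List ℕ) → List ℤ
  | [] => []
  | p :: L => padd (monoP p.1 (Int.ofNat p.2.length)) (layerPoly L)

theorem horner_layerPoly (q : ℤ) : ∀ L, horner q (layerPoly L) =
    ((L.map fun p : ℕ × List ℕ => (p.2.length : ℤ) * q ^ p.1).sum)
  | [] => by simp [layerPoly, horner]
  | p :: L => by
    rw [layerPoly, horner_padd, horner_monoP, horner_layerPoly q L, List.map_cons, List.sum_cons]
    rfl

theorem list_sum_range_eq {M : Type*} [AddCommMonoid M] (f : ℕ → M) (n : ℕ) :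
    ((List.range n).map f).sum = ∑ i : Fin n, f i := by
  rw [← List.map_coe_finRange_eq_range, List.map_map, Fin.sum_univ_def]
  rfl

namespace Rel

variable {D : ChevalleyDatum} {X : Aux} {F : Type*} [Field F] {G : Type*} [Group G] (R : Rel D X F G)
include R

theorem totCoef_neg_iff (r : Fin D.nroots) : totCoef D X r < 0 ↔ ¬ half D ≤ (r : ℕ) := by
  have key : ∀ s : Fin D.nroots, half D ≤ (s : ℕ) → 0 < totCoef D X s := by
    intro s hs
    rw [totCoef, list_sum_range_eq]
    obtain ⟨j, hj⟩ := R.exists_coef_ne_zero s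
    exact Finset.sum_pos' (fun i _ => R.cert.coef_nonneg s.2 i.2 hs)
      ⟨j, Finset.mem_univ _, lt_of_le_of_ne (R.cert.coef_nonneg s.2 j.2 hs) (Ne.symm hj)⟩
  refine ⟨fun h hr => absurd (key r hr) (by omega), fun h => ?_⟩
  have h1 := key _ ((R.negF_pos_iff r).2 h)
  rw [totCoef, list_sum_range_eq] at h1
  rw [totCoef, list_sum_range_eq]
  have e : ∑ j : Fin D.rank, X.coef j (R.negF r : ℕ) = -∑ j : Fin D.rank, X.coef j (r : ℕ) := by
    rw [← Finset.sum_neg_distrib]
    exact Finset.sum_congr rfl fun j _ => R.cert.coef_neg r.2 j.2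
  omega

theorem totCoef_nsPerm (n : R.NS) (r : Fin D.nroots) :
    totCoef D X (R.nsPerm n r : ℕ) = ∑ i : Fin D.rank, X.coef i (r : ℕ) * totCoef D X (R.nsPerm n (R.sroot i) : ℕ) := by
  simp only [totCoef, list_sum_range_eq, Finset.mul_sum]
  rw [Finset.sum_comm]
  exact Finset.sum_congr rfl fun j _ => R.isLin_nsPerm n r j

/-- packed state of a permutation -/
def keyOf (σ : Equiv.Perm (Fin D.nroots)) : ℕ :=
  encKey ((List.finRange D.rank).map fun i => (σ (R.sroot i) : ℕ))

theorem decKey_keyOf (hn : D.nroots ≤ 128) (σ : Equiv.Perm (Fin D.nroots)) :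
    decKey D.rank (R.keyOf σ) = (List.finRange D.rank).map fun i => (σ (R.sroot i) : ℕ) := by
  have h := decKey_encKey ((List.finRange D.rank).map fun i => (σ (R.sroot i) : ℕ)) (fun a ha => by
    obtain ⟨i, _, rfl⟩ := List.mem_map.1 ha
    exact lt_of_lt_of_le (σ (R.sroot i)).2 hn)
  rwa [List.length_map, List.length_finRange] at h

theorem keyOf_inj (hn : D.nroots ≤ 128) {n m : R.NS} (h : R.keyOf (R.nsPerm n) = R.keyOf (R.nsPerm m)) :
    R.nsPerm n = R.nsPerm m := by
  have h1 := (R.decKey_keyOf hn _).symm.trans ((congrArg (decKey D.rank) h).trans (R.decKey_keyOf hn _))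
  have h2 : ∀ i, R.nsPerm n (R.sroot i) = R.nsPerm m (R.sroot i) := fun i =>
    Fin.ext (List.map_inj_left.1 h1 i (List.mem_finRange i))
  have h3 := R.nsPerm_of_mem_HS (m⁻¹ * n) (R.nsPerm_eq_one_of_pos _ fun i => by
    rw [map_mul, map_inv, Equiv.Perm.mul_apply, h2, Equiv.Perm.inv_def, Equiv.symm_apply_apply]
    exact R.sroot_pos i)
  rw [map_mul, map_inv, inv_mul_eq_one] at h3
  exact h3.symm

theorem invCount_keyOf (hn : D.nroots ≤ 128) (n : R.NS) :
    invCount D X (decKey D.rank (R.keyOf (R.nsPerm n))) = (invSet (R.nsPerm n)).ncard := by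
  classical
  rw [R.decKey_keyOf hn]
  have key : ∀ r : Fin D.nroots, imgNeg D X (((List.finRange D.rank).map fun i =>
      (R.nsPerm n (R.sroot i) : ℕ)).map (totCoef D X)) r = decide (¬ half D ≤ (R.nsPerm n r : ℕ)) := by
    intro r
    simp only [imgNeg, list_sum_range_eq, decide_eq_decide, ← R.totCoef_neg_iff, R.totCoef_nsPerm n r]
    refine Iff.of_eq (congrArg (· < 0) (Finset.sum_congr rfl fun i _ => ?_))
    simp [List.getD_eq_getElem?_getD]
  unfold invCount
  have hN := R.cert.nroots_eq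
  have hnd : (List.range' (half D) (half D)).Nodup := List.nodup_range'
  rw [← List.toFinset_card_of_nodup (hnd.filter _), ← Set.ncard_coe_finset,
    ← Set.ncard_image_of_injective (invSet (R.nsPerm n)) Fin.val_injective]
  congr 1
  ext x
  simp only [List.coe_toFinset, Set.mem_ofPred_eq, List.mem_filter, List.mem_range'_1, Set.mem_image]
  constructor
  · rintro ⟨⟨h1, h2⟩, h3⟩
    rw [key ⟨x, by omega⟩, decide_eq_true_iff] at h3
    exact ⟨⟨x, by omega⟩, ⟨h1, h3⟩, rfl⟩
  · rintro ⟨r, hr, rfl⟩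
    refine ⟨⟨hr.1, by have := r.2; omega⟩, ?_⟩
    rw [key r, decide_eq_true_iff]
    exact hr.2

theorem exists_word_perm (w : List ℕ) (hw : ∀ i ∈ w, i < D.rank) :
    ∃ n : R.NS, ∀ s : Fin D.nroots, (R.nsPerm n s : ℕ) = wordAct X w s := by
  obtain ⟨l, rfl⟩ : ∃ l : List (Fin D.rank), l.map (fun i : Fin D.rank => (i : ℕ)) = w :=
    ⟨w.pmap (fun i h => (⟨i, h⟩ : Fin D.rank)) hw, by rw [List.map_pmap, List.pmap_eq_map, List.map_id']⟩
  obtain ⟨n, hn⟩ := R.qmk_surjective (CfsgLib.Lie.Exchange.wprod R.qgen l)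
  exact ⟨n, fun s => by rw [← R.qact_qmk, hn, R.qact_wprod_apply]⟩

end Rel

namespace TwG

variable {D : ChevalleyDatum} {X : Aux} {F : Type*} [Field F] {G : Type*} [Group G] {R : Rel D X F G} (T : TwG R)
include T

/-- the orbit numbering agrees with a list -/
def OrbList (orbL : List ℕ) : Prop := ∀ i : Fin D.rank, orbL.getD (i : ℕ) 0 = (T.orb i : ℕ)

variable {orbL : List ℕ} {ws : List (List ℕ)}
  (ho : T.OrbList orbL) (hlen : ws.length = T.κ) (hw : chkOrbWords D X orbL ws = true)
include ho hlen hw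

theorem nJ_apply (k : Fin T.κ) (s : Fin D.nroots) :
    (R.nsPerm (T.nJ k) s : ℕ) = wordAct X (ws.getD (k : ℕ) []) s := by
  simp only [chkOrbWords, chkOrbWord, List.all_eq_true, List.mem_range, Bool.and_eq_true, nat_blt_iff,
    List.mem_range'_1, beq_iff_eq] at hw
  obtain ⟨h1, h2⟩ := hw k (by rw [hlen]; exact k.2)
  obtain ⟨n, hn⟩ := R.exists_word_perm _ h1
  have hinv : invSet (R.nsPerm n) = invSet (R.nsPerm (T.nJ k)) := by
    rw [T.nJ_inv]
    ext r
    have hN := R.cert.nroots_eq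
    have hr2 := r.2
    constructor
    · rintro ⟨hr, hneg⟩
      refine ⟨hr, fun i hi hik => ?_⟩
      have h3 := h2 r ⟨hr, by omega⟩
      rw [← hn, nat_blt_iff.2 (not_le.1 hneg)] at h3
      have h4 := List.all_eq_true.1 h3.symm i (List.mem_range.2 hi)
      rw [Bool.or_eq_true, nat_beq_iff, decide_eq_true_iff] at h4
      rcases h4 with h4 | h4
      · exact absurd ((T.mem_orbSet (i := ⟨i, hi⟩)).2 (Fin.ext (by rw [← ho ⟨i, hi⟩]; exact h4))) hik
      · exact h4
    · rintro ⟨hr, hsub⟩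
      refine ⟨hr, fun hp => ?_⟩
      have h3 := h2 r ⟨hr, by omega⟩
      rw [← hn, List.all_eq_true.2 (fun i hi => ?_), nat_blt_iff] at h3
      · omega
      · rw [Bool.or_eq_true, nat_beq_iff, decide_eq_true_iff]
        by_cases hc : X.coef i (r : ℕ) = 0
        · exact Or.inr hc
        · refine Or.inl ?_
          have h5 := T.orb_of_coef hsub (i := ⟨i, List.mem_range.1 hi⟩) hc
          rw [← h5]; exact ho ⟨i, List.mem_range.1 hi⟩
  rw [← R.nsPerm_eq_of_invSet hinv, hn]

theorem keyOf_nJ_mul (hn : D.nroots ≤ 128) (k : Fin T.κ) (σ : Equiv.Perm (Fin D.nroots)) :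
    R.keyOf (R.nsPerm (T.nJ k) * σ) = actKey D X (ws.getD (k : ℕ) []) (R.keyOf σ) := by
  rw [actKey, R.decKey_keyOf hn, List.map_map, Rel.keyOf]
  refine congrArg encKey (List.map_congr_left fun i _ => ?_)
  rw [Equiv.Perm.mul_apply, T.nJ_apply ho hlen hw, Function.comp_apply]

variable {d δ : ℕ} {L : List (ℕ × List ℕ)} (hE : chkEnum D X ws d δ L = true)
include hE

theorem enum_spec : D.nroots ≤ 128 ∧
    (∀ σ ∈ T.permW, ∃ p ∈ L, R.keyOf σ ∈ p.2) ∧
    (∀ p ∈ L, ∀ key ∈ p.2, ∃ σ ∈ T.permW, R.keyOf σ = key ∧ (invSet σ).ncard = d * p.1) ∧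
    (L.map Prod.fst).Nodup ∧ ∀ p ∈ L, p.2.Nodup := by
  simp only [chkEnum, chkLayer, Bool.and_eq_true, Nat.ble_eq, decide_eq_true_iff, List.any_eq_true,
    List.contains_iff_mem, List.all_eq_true, List.mem_filter, Bool.or_eq_true, nat_beq_iff, nat_blt_iff] at hE
  obtain ⟨⟨⟨hn, hnd⟩, p0, hp0, hid⟩, hall⟩ := hE
  have hid' : R.keyOf 1 = idKey D := by
    rw [idKey, Rel.keyOf, ← List.map_coe_finRange_eq_range, List.map_map]
    rfl
  refine ⟨hn, ?_, ?_, hnd, fun p hp => (hall p hp).1⟩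
  · intro σ hσ
    rw [T.permW_eq_closure] at hσ
    induction hσ using Subgroup.closure_induction_left with
    | one => exact ⟨p0, hp0, hid' ▸ hid⟩
    | mul_left x hx y _ ih =>
      obtain ⟨k, rfl⟩ := hx
      obtain ⟨p, hp, hk⟩ := ih
      obtain ⟨q, ⟨hq, _⟩, hq2⟩ := ((hall p hp).2 _ hk).1.2 (ws.getD (k : ℕ) [])
        (by rw [List.getD_eq_getElem _ _ (show (k : ℕ) < ws.length by rw [hlen]; exact k.2)]; exact List.getElem_mem _)
      exact ⟨q, hq, by rwa [T.keyOf_nJ_mul ho hlen hw hn]⟩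
    | inv_mul_cancel x hx y _ ih =>
      obtain ⟨k, rfl⟩ := hx
      have e : (R.nsPerm (T.nJ k))⁻¹ = R.nsPerm (T.nJ k) := by
        rw [inv_eq_iff_mul_eq_one, ← map_mul, R.nsPerm_of_mem_HS _ (T.nJ_sq k)]
      rw [e]
      obtain ⟨p, hp, hk⟩ := ih
      obtain ⟨q, ⟨hq, _⟩, hq2⟩ := ((hall p hp).2 _ hk).1.2 (ws.getD (k : ℕ) [])
        (by rw [List.getD_eq_getElem _ _ (show (k : ℕ) < ws.length by rw [hlen]; exact k.2)]; exact List.getElem_mem _)
      exact ⟨q, hq, by rwa [T.keyOf_nJ_mul ho hlen hw hn]⟩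
  · have key : ∀ e, ∀ p ∈ L, p.1 = e → ∀ key ∈ p.2, ∃ σ ∈ T.permW, R.keyOf σ = key := by
      intro e
      induction e using Nat.strong_induction_on with
      | _ e ih =>
        intro p hp he key hkey
        rcases ((hall p hp).2 key hkey).2 with h | ⟨w, hwm, hww, q, ⟨hq, hq2, -⟩, hqk⟩
        · exact ⟨1, one_mem _, hid'.trans h.symm⟩
        · obtain ⟨σ, hσ, hσk⟩ := ih q.1 (he ▸ hq2) q hq rfl _ hqk
          obtain ⟨j, hj, rfl⟩ := List.getElem_of_mem hwm
          refine ⟨R.nsPerm (T.nJ ⟨j, hlen ▸ hj⟩) * σ,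
            mul_mem (T.mem_permW.2 ⟨_, T.nJ_mem _, rfl⟩) hσ, ?_⟩
          rw [T.keyOf_nJ_mul ho hlen hw hn, hσk]
          show actKey D X (ws.getD j []) _ = key
          rw [List.getD_eq_getElem _ _ hj]
          exact hww
    intro p hp k hk
    obtain ⟨σ, hσ, rfl⟩ := key p.1 p hp rfl k hk
    refine ⟨σ, hσ, rfl, ?_⟩
    obtain ⟨n, _, rfl⟩ := T.mem_permW.1 hσ
    rw [← R.invCount_keyOf hn]
    exact ((hall p hp).2 _ hk).1.1

/-- a sum over the twisted Weyl group by inversion count -/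
theorem sum_permW [Fintype T.permW] {M : Type*} [AddCommMonoid M] (g : ℕ → M) :
    ∑ σ : T.permW, g (invSet (σ : Equiv.Perm (Fin D.nroots))).ncard =
      (L.map fun p => p.2.length • g (d * p.1)).sum := by
  classical
  obtain ⟨hn, h1, h2, h3, h4⟩ := T.enum_spec ho hlen hw hE
  have hinj : Function.Injective fun σ : T.permW => R.keyOf (σ : Equiv.Perm (Fin D.nroots)) := by
    rintro ⟨a, ha⟩ ⟨b, hb⟩ e
    obtain ⟨n, _, rfl⟩ := T.mem_permW.1 ha
    obtain ⟨m, _, rfl⟩ := T.mem_permW.1 hb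
    exact Subtype.ext (R.keyOf_inj hn e)
  have hsplit : ∑ σ : T.permW, g (invSet (σ : Equiv.Perm (Fin D.nroots))).ncard =
      ∑ p ∈ L.toFinset, ∑ σ ∈ Finset.univ.filter (fun σ : T.permW => R.keyOf (σ : Equiv.Perm (Fin D.nroots)) ∈ p.2),
        g (invSet (σ : Equiv.Perm (Fin D.nroots))).ncard := by
    rw [← Finset.sum_biUnion]
    · refine Finset.sum_congr (Finset.ext fun σ => ?_) fun _ _ => rfl
      simp only [Finset.mem_univ, Finset.mem_biUnion, List.mem_toFinset, Finset.mem_filter, true_and, true_iff]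
      exact h1 _ σ.2
    · intro p hp q hq hpq
      rw [Function.onFun, Finset.disjoint_left]
      intro σ hσp hσq
      simp only [Finset.mem_filter, Finset.mem_univ, true_and] at hσp hσq
      obtain ⟨τ, hτ, e1, e2⟩ := h2 p (List.mem_toFinset.1 hp) _ hσp
      obtain ⟨τ', hτ', e1', e2'⟩ := h2 q (List.mem_toFinset.1 hq) _ hσq
      have e3 : (⟨τ, hτ⟩ : T.permW) = ⟨τ', hτ'⟩ := hinj (e1.trans e1'.symm)
      obtain rfl : τ = τ' := congrArg Subtype.val e3
      have hd : d * p.1 = d * q.1 := e2.symm.trans e2'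
      rcases Nat.eq_zero_or_pos d with hd0 | hd0
      · exact hpq (absurd hd0 (by
          intro h0
          subst h0
          obtain ⟨k⟩ : Nonempty (Fin T.κ) := ⟨T.orb ⟨0, R.cert.rank_pos⟩⟩
          obtain ⟨a, ha⟩ := h1 _ (T.mem_permW.2 ⟨T.nJ k, T.nJ_mem k, rfl⟩)
          obtain ⟨τ, hτ, e4, e5⟩ := h2 a ha.1 _ ha.2
          obtain ⟨n, _, rfl⟩ := T.mem_permW.1 hτ
          rw [R.keyOf_inj hn e4, T.nJ_inv, zero_mul] at e5
          exact (T.posSub_nonempty k).ne' e5))
      · exact hpq (List.inj_on_of_nodup_map h3 (List.mem_toFinset.1 hp) (List.mem_toFinset.1 hq)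
          (Nat.eq_of_mul_eq_mul_left hd0 hd))
  rw [hsplit, ← List.sum_toFinset _ (List.Nodup.of_map _ h3)]
  refine Finset.sum_congr rfl fun p hp => ?_
  rw [List.mem_toFinset] at hp
  have hconst : ∀ σ ∈ Finset.univ.filter (fun σ : T.permW => R.keyOf (σ : Equiv.Perm (Fin D.nroots)) ∈ p.2),
      g (invSet (σ : Equiv.Perm (Fin D.nroots))).ncard = g (d * p.1) := by
    intro σ hσ
    obtain ⟨τ, hτ, e, e'⟩ := h2 p hp _ (Finset.mem_filter.1 hσ).2
    rw [← hinj (a₁ := ⟨τ, hτ⟩) (a₂ := σ) e, e']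
  rw [Finset.sum_congr rfl hconst, Finset.sum_const]
  congr 1
  rw [← List.toFinset_card_of_nodup (h4 p hp), ← Finset.card_image_of_injective _ hinj]
  congr 1
  ext x
  simp only [Finset.mem_image, Finset.mem_filter, Finset.mem_univ, true_and, List.mem_toFinset]
  constructor
  · rintro ⟨σ, hσ, rfl⟩; exact hσ
  · intro hx
    obtain ⟨τ, hτ, rfl, _⟩ := h2 p hp x hx
    exact ⟨⟨τ, hτ⟩, hx, rfl⟩

/-- the number of elements of the twisted Weyl group -/
theorem card_permW {N : ℕ} (hN : (L.map fun p => p.2.length).sum = N) : Nat.card ↥T.permW = N := by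
  classical
  let _ : Fintype T.permW := Fintype.ofFinite _
  have h := T.sum_permW ho hlen hw hE (fun _ => (1 : ℕ))
  simp only [Finset.sum_const, Finset.card_univ, smul_eq_mul, mul_one] at h
  rw [Nat.card_eq_fintype_card, h, hN]

/-- the order of the twisted group from the enumeration -/
theorem card_P1_enum [Finite G] {c : ℕ} (hd : 0 < d) (hc : T.ClassCard c d) {e0 : ℕ} (he0 : half D = d * e0) :
    (Nat.card ↥T.P1 : ℤ) = (c : ℤ) ^ e0 * (Nat.card ↥(T.P1 ⊓ R.HS) : ℤ) * horner (c : ℤ) (layerPoly L) := by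
  classical
  let _ : Fintype T.permW := Fintype.ofFinite _
  obtain ⟨e, he, hU⟩ := T.card_U1 hd hc
  have he' : e0 = e := Nat.eq_of_mul_eq_mul_left hd (he0.symm.trans he)
  have hW : ∀ σ : T.permW, Nat.card ↥(T.WS (σ : Equiv.Perm (Fin D.nroots))) =
      c ^ ((invSet (σ : Equiv.Perm (Fin D.nroots))).ncard / d) := by
    rintro ⟨σ, hσ⟩
    obtain ⟨n, hn, rfl⟩ := T.mem_permW.1 hσ
    obtain ⟨a, ha, ha'⟩ := T.card_WS hd hc n hn
    rw [ha', ha, Nat.mul_div_cancel_left _ hd]
  rw [T.card_P1, Finset.sum_congr rfl (fun σ _ => hW σ),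
    T.sum_permW ho hlen hw hE (fun j => c ^ (j / d)), hU, ← he', horner_layerPoly]
  push_cast
  rw [List.map_map]
  refine congrArg _ (congrArg List.sum (List.map_congr_left fun p _ => ?_))
  simp only [Function.comp_apply, Nat.mul_div_cancel_left _ hd, smul_eq_mul]
  push_cast
  rfl

end TwG

end CfsgLib.Lie.Chev
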