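/-
Normal forms of products over a list of roots, weights of torus elements, and small facts for the twisted instances.
-/
import Cfsg.Agent.Lib.Lie.Twisted.WeylEnum
import Cfsg.Agent.Lib.Lie.Rel.Torus

set_option autoImplicit false

namespace CfsgLib.Lie.Chev

open Cfsg.Lie (ChevalleyDatum)

/-- the positive roots inverted by the `k`-th class, in increasing order -/
def classList (D : ChevalleyDatum) (X : Aux) (orbL : List ℕ) (k : ℕ) : List ℕ :=
  (List.range' (half D) (half D)).filter fun r =>
    (List.range D.rank).all fun i => Nat.beq (orbL.getD i 0) k || decide (X.coef i r = 0)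

theorem prod_map_filter {M α : Type*} [Monoid M] (p : α → Bool) (f : α → M) :
    ∀ L : List α, (∀ a ∈ L, p a = false → f a = 1) → (L.map f).prod = ((L.filter p).map f).prod
  | [], _ => rfl
  | a :: L, h => by
    have ih := prod_map_filter p f L fun b hb => h b (List.mem_cons_of_mem _ hb)
    cases hp : p a
    · rw [List.filter_cons_of_neg (by simp [hp]), List.map_cons, List.prod_cons, h a List.mem_cons_self hp, one_mul, ih]
    · rw [List.filter_cons_of_pos hp, List.map_cons, List.map_cons, List.prod_cons, List.prod_cons, ih]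

namespace Rel

variable {D : ChevalleyDatum} {X : Aux} {F : Type*} [Field F] {G : Type*} [Group G] (R : Rel D X F G)
include R

/-- a supported ordered product is the product over the support -/
theorem oprod_filter (p : ℕ → Bool) (t : ℕ → F) (h : ∀ r, p r = false → t r = 0) :
    R.oprod (half D) (half D) t =
      (((List.range' (half D) (half D)).filter p).map fun r => R.xe r (t r)).prod :=
  prod_map_filter p _ _ fun r _ hr => by rw [h r hr, R.xe_zero]

/-- every element of an inverted set is an ordered product supported on it -/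
theorem exists_oprod_supported [Finite F] {S : Finset (Fin D.nroots)} (w : R.WQ) (hS : invSet (R.qact w) = ↑S)
    {g : G} (hg : g ∈ R.US ↑S) :
    ∃ t : S → F, g = R.oprod (half D) (half D)
      (fun r => if h : r < D.nroots then (if h' : (⟨r, h⟩ : Fin D.nroots) ∈ S then t ⟨_, h'⟩ else 0) else 0) := by
  classical
  let _ : Fintype F := Fintype.ofFinite F
  have := R.Finite_of_field
  have hn := R.cert.nroots_eq
  have hsub : ↑S ⊆ posSet D := fun r hr => (hS.symm ▸ hr : r ∈ invSet (R.qact w)).1
  have hcard : Nat.card ↥(R.US ↑S) = Nat.card (S → F) := by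
    rw [← hS, R.card_US_inv, Nat.card_fun, Nat.card_eq_fintype_card (α := ↥S), Fintype.card_coe,
      Nat.card_coe_set_eq, hS, Set.ncard_coe_finset]
  let φ : (S → F) → ↥(R.US ↑S) := fun t => ⟨R.oprod (half D) (half D)
    (fun r => if h : r < D.nroots then (if h' : (⟨r, h⟩ : Fin D.nroots) ∈ S then t ⟨_, h'⟩ else 0) else 0), by
      unfold oprod
      refine list_prod_mem fun x hx => ?_
      obtain ⟨r, hr, rfl⟩ := List.mem_map.1 hx
      by_cases h : r < D.nroots
      · by_cases h' : (⟨r, h⟩ : Fin D.nroots) ∈ S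
        · exact R.xe_mem_US (r := ⟨r, h⟩) h' _
        · simp [h, h', R.xe_zero]
      · rw [R.xe_oob r _ h]; exact one_mem _⟩
  have hinj : Function.Injective φ := by
    intro t t' e
    funext ⟨r, hr⟩
    have := R.oprod_inj (half D) (half D) _ _ le_rfl (by omega) (congrArg R.θ (congrArg Subtype.val e)) r
      (hsub hr) (by have := r.2; omega)
    simpa [hr] using this
  obtain ⟨t, ht⟩ := ((Nat.bijective_iff_injective_and_card φ).2 ⟨hinj, hcard.symm⟩).2 ⟨g, hg⟩
  exact ⟨t, (congrArg Subtype.val ht).symm⟩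

/-- elements of a class as products over its list of roots -/
theorem exists_class_prod [Finite F] {κ : ℕ} (orb : Fin D.rank → Fin κ) (k : Fin κ) {orbL : List ℕ} {w : List ℕ}
    (ho : ∀ i : Fin D.rank, orbL.getD (i : ℕ) 0 = (orb i : ℕ)) (hw : chkOrbWord D X orbL k w = true) {g : G}
    (hg : g ∈ R.US (posSub D X orb k)) :
    ∃ t : ℕ → F, g = ((classList D X orbL k).map fun r => R.xe r (t r)).prod := by
  classical
  simp only [chkOrbWord, List.all_eq_true, Bool.and_eq_true, nat_blt_iff, List.mem_range'_1, beq_iff_eq] at hw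
  obtain ⟨n, hn⟩ := R.exists_word_perm w hw.1
  have hN := R.cert.nroots_eq
  have hp : ∀ r : Fin D.nroots, half D ≤ (r : ℕ) →
      (r ∈ posSub D X orb k ↔
        ((List.range D.rank).all fun i => Nat.beq (orbL.getD i 0) k || decide (X.coef i r = 0)) = true) := by
    intro r hr
    simp only [List.all_eq_true, List.mem_range, Bool.or_eq_true, nat_beq_iff, decide_eq_true_iff]
    constructor
    · intro h i hi
      by_cases hik : orb ⟨i, hi⟩ = k
      · exact Or.inl (by rw [← hik]; exact ho ⟨i, hi⟩)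
      · exact Or.inr (h.2 i hi fun ⟨j, hj, e⟩ => hik (by rw [← e]; exact congrArg orb (Fin.ext hj.symm)))
    · intro h
      refine ⟨hr, fun i hi hik => (h i hi).resolve_left fun e => hik ⟨⟨i, hi⟩, rfl, Fin.ext ?_⟩⟩
      rw [← ho ⟨i, hi⟩]; exact e
  have hinv : invSet (R.qact (R.qmk n)) = ↑((posSub D X orb k).toFinset) := by
    rw [R.qact_qmk, Set.coe_toFinset]
    ext r
    constructor
    · intro h
      rw [hp r h.1, ← hw.2 r ⟨h.1, by have := r.2; omega⟩, ← hn r, nat_blt_iff]
      exact not_le.1 h.2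
    · intro h
      refine ⟨h.1, ?_⟩
      have h2 := (hp r h.1).1 h
      rw [← hw.2 r ⟨h.1, by have := r.2; omega⟩, ← hn r, nat_blt_iff] at h2
      omega
  obtain ⟨t, rfl⟩ := R.exists_oprod_supported (R.qmk n) hinv (by rwa [Set.coe_toFinset])
  refine ⟨fun r => if h : r < D.nroots then
    (if h' : (⟨r, h⟩ : Fin D.nroots) ∈ (posSub D X orb k).toFinset then t ⟨_, h'⟩ else 0) else 0, ?_⟩
  rw [classList, ← prod_map_filter]
  · rfl
  · intro r hr hf
    rw [List.mem_range'_1] at hr
    have hr2 : r < D.nroots := by omega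
    show R.xe r (dite _ _ _) = 1
    rw [dif_pos hr2, dif_neg, R.xe_zero]
    rw [Set.mem_toFinset, hp ⟨r, hr2⟩ hr.1, hf]
    exact Bool.false_ne_true

/-- uniqueness of the coefficients of a product over a class list -/
theorem class_prod_inj {orbL : List ℕ} {k : ℕ} {t t' : ℕ → F}
    (h : ((classList D X orbL k).map fun r => R.xe r (t r)).prod =
      ((classList D X orbL k).map fun r => R.xe r (t' r)).prod) :
    ∀ r ∈ classList D X orbL k, t r = t' r := by
  classical
  have key : ∀ s : ℕ → F, R.oprod (half D) (half D) (fun r => if r ∈ classList D X orbL k then s r else 0) =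
      ((classList D X orbL k).map fun r => R.xe r (s r)).prod := by
    intro s
    rw [R.oprod_filter (fun r => (List.range D.rank).all fun i => Nat.beq (orbL.getD i 0) k || decide (X.coef i r = 0))]
    · exact congrArg List.prod (List.map_congr_left fun r hr => by
        show R.xe r (if r ∈ classList D X orbL k then s r else 0) = _
        rw [if_pos (show r ∈ classList D X orbL k from hr)])
    · intro r hr
      refine if_neg fun hm => ?_
      rw [classList, List.mem_filter] at hm
      rw [hm.2] at hr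
      exact Bool.noConfusion hr
  rw [← key, ← key] at h
  intro r hr
  have hn := R.cert.nroots_eq
  have hr' := List.mem_range'_1.1 (List.mem_filter.1 hr).1
  have h2 := R.oprod_inj (half D) (half D) _ _ le_rfl (by omega) (congrArg R.θ h) r hr'.1 hr'.2
  simpa [hr] using h2

/-- a root element at a simple root outside the complementary normal subgroup -/
theorem xe_rest_eq_zero (i : Fin D.rank) {s : F} (h : R.xe (D.simple i) s ∈ R.US (R.restSet i)) : s = 0 := by
  by_contra hs
  have h1 := R.UP_le_BS (R.US_mono (R.restSet_subset i) (R.ne_conj_rest i h))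
  obtain ⟨a, ha⟩ := R.isMon_nsPerm (R.nS i)
  have h2 := (ha (R.sroot i)).2.2.2 s
  rw [R.nsPerm_nS, R.wperm_sroot] at h2
  have h3 : R.ne (D.simple i) 1 * R.xe (D.simple i) s * (R.ne (D.simple i) 1)⁻¹ =
      R.xe (R.negF (R.sroot i) : ℕ) (a (R.sroot i) * s) := h2
  rw [h3] at h1
  exact R.xe_not_BS (fun hp => (R.negF_pos_iff (R.sroot i)).1 hp (R.sroot_pos i)) (mul_ne_zero (ha (R.sroot i)).1 hs)
    h1 rfl

/-- weight of a torus element on a simple root from a fixed vector -/
theorem weight_simple_eq_one (i : Fin D.rank) {h : G} (hh : h ∈ R.HS) {a : Fin D.nroots → F} (ha : R.IsMon h 1 a)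
    {t : F} (ht : t ≠ 0) {v : G} (hv : v ∈ R.US (R.restSet i))
    (e : h * (R.xe (D.simple i) t * v) * h⁻¹ = R.xe (D.simple i) t * v) : a (R.sroot i) = 1 := by
  have h1 : h * R.xe (D.simple i) t * h⁻¹ = R.xe (D.simple i) (a (R.sroot i) * t) := by
    have := (ha (R.sroot i)).2.2.2 t
    rwa [Equiv.Perm.one_apply] at this
  have h2 : h * v * h⁻¹ ∈ R.US (R.restSet i) :=
    (Subgroup.mem_normalizer_iff.1 (R.HS_le_normalizer_US _ hh) v).1 hv
  have h3 : R.xe (D.simple i) (a (R.sroot i) * t) * (h * v * h⁻¹) = R.xe (D.simple i) t * v := by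
    rw [← h1]
    calc h * R.xe (D.simple i) t * h⁻¹ * (h * v * h⁻¹) = h * (R.xe (D.simple i) t * v) * h⁻¹ := by group
      _ = _ := e
  have h4 : R.xe (D.simple i) (-t + a (R.sroot i) * t) ∈ R.US (R.restSet i) := by
    rw [← R.xe_add', R.xe_neg]
    have : (R.xe (D.simple i) t)⁻¹ * R.xe (D.simple i) (a (R.sroot i) * t) = v * (h * v * h⁻¹)⁻¹ := by
      rw [eq_mul_inv_iff_mul_eq, mul_assoc, h3, inv_mul_cancel_left]
    rw [this]
    exact mul_mem hv (inv_mem h2)
  have h5 := R.xe_rest_eq_zero i h4
  exact mul_right_cancel₀ ht (by linear_combination h5)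

/-- torus elements with trivial weights on the simple roots act trivially -/
theorem θ_eq_one_of_simple {h : G} (hh : h ∈ R.HS) {a : Fin D.nroots → F} (ha : R.IsMon h 1 a)
    (h1 : ∀ i : Fin D.rank, a (R.sroot i) = 1) : R.θ h = 1 := by
  have hx : ∀ (i : Fin D.rank) (t : F), Commute h (R.xe (D.simple i) t) := by
    intro i t
    have := (ha (R.sroot i)).2.2.2 t
    rw [Equiv.Perm.one_apply, h1, one_mul] at this
    exact mul_inv_eq_iff_eq_mul.1 this
  have hy : ∀ (i : Fin D.rank) (t : F), Commute h (R.xe (D.neg (D.simple i)) t) := by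
    intro i t
    have := (ha (R.negF (R.sroot i))).2.2.2 t
    rw [Equiv.Perm.one_apply, (ha (R.sroot i)).2.1, h1, inv_one, one_mul] at this
    exact mul_inv_eq_iff_eq_mul.1 this
  refine R.θ_eq_one_of_char hh fun a' ha' r => ?_
  obtain ⟨g, hg, i, e⟩ := R.exists_conj_simple r
  obtain ⟨b, hb⟩ := R.exists_isMon g
  have hgc : Commute h (g : G) := by
    have hle : R.Nw ≤ Subgroup.centralizer {h} := by
      refine (Subgroup.closure_le _).2 ?_
      rintro _ ⟨j, rfl⟩
      rw [SetLike.mem_coe, Subgroup.mem_centralizer_singleton_iff]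
      show Commute _ h
      exact ((((hx j 1).mul_right (hy j _)).mul_right (hx j 1))).symm
    exact (Subgroup.mem_centralizer_singleton_iff.1 (hle hg) : Commute (g : G) h).symm
  have hr : Commute h (R.xe (r : ℕ) 1) := by
    have h2 := (hb (R.sroot i)).2.2.2 ((b (R.sroot i))⁻¹)
    rw [e, mul_inv_cancel₀ (hb (R.sroot i)).1] at h2
    rw [← h2]
    exact (hgc.mul_right (hx i _)).mul_right hgc.inv_right
  have h3 := (ha' r).2.2.2 1
  rw [Equiv.Perm.one_apply, hr.eq, mul_inv_cancel_right, mul_one] at h3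
  exact (R.xe_inj_param h3).symm

/-- a product with a negative simple root element not cancelling -/
theorem xe_neg_mul_ne_one (i : Fin D.rank) {c : F} (hc : c ≠ 0) {S : Set (Fin D.nroots)}
    (hS : ∀ r ∈ S, ¬ half D ≤ (R.wperm i r : ℕ)) {g : G} (hg : g ∈ R.US S) :
    R.xe (D.neg (D.simple i)) c * g ≠ 1 := by
  intro e
  obtain ⟨a, ha⟩ := R.isMon_nsPerm (R.nS i)
  have h1 : R.xe (D.neg (D.simple i)) (-c) = g := by rw [R.xe_neg]; exact (eq_inv_of_mul_eq_one_right e).symm
  have h2 : (R.nS i : G) * g * (R.nS i : G)⁻¹ ∈ R.UN :=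
    Rel.IsMon.conj_mem_US R ha (T := negSet D) (fun r hr => by rw [R.nsPerm_nS]; exact hS r hr) hg
  have h3 := (ha (R.negF (R.sroot i))).2.2.2 (-c)
  rw [R.nsPerm_nS] at h3
  have h4 : R.wperm i (R.negF (R.sroot i)) = R.sroot i := by
    rw [← R.wperm_sroot i, R.wperm_invol]
  rw [h4] at h3
  have h5 : (R.nS i : G) * R.xe (R.negF (R.sroot i) : ℕ) (-c) * (R.nS i : G)⁻¹ = (R.nS i : G) * g * (R.nS i : G)⁻¹ := by
    rw [← h1]; rfl
  rw [h3] at h5
  have h6 := R.BS_inf_UN (R.xe_pos_mem_BS (R.sroot_pos i) _) (h5 ▸ h2)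
  rw [← R.xe_zero] at h6
  exact (mul_ne_zero (ha (R.negF (R.sroot i))).1 (neg_ne_zero.2 hc)) (R.xe_inj_param h6)

end Rel

end CfsgLib.Lie.Chev
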