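/-
The (B, N)-pair of a twisted subgroup, its irreducibility and core.
-/
import Cfsg.Agent.Lib.Lie.Twisted.Group
import Cfsg.Prelude.Def_LieExceptional

set_option autoImplicit false

namespace CfsgLib.Lie.Chev

open Cfsg.Lie (ChevalleyDatum)

/-- transport of a (B, N)-pair along an isomorphism -/
def mapBNPair {G H : Type*} [Group G] [Group H] (e : G ≃* H) (P : Cfsg.BNPair G) : Cfsg.BNPair H where
  B := P.B.map e.toMonoidHom
  N := P.N.map e.toMonoidHom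
  S := e '' P.S
  sup_eq_top := by
    rw [← Subgroup.map_sup, P.sup_eq_top, Subgroup.map_top_of_surjective _ e.surjective]
  conj_mem := by
    rintro _ ⟨n, hn, rfl⟩ t ht
    rw [← Subgroup.map_inf _ _ _ e.injective] at ht
    obtain ⟨x, hx, rfl⟩ := ht
    exact ⟨n * x * n⁻¹, P.conj_mem n hn x hx, by simp⟩
  subset := by rintro _ ⟨s, hs, rfl⟩; exact ⟨s, P.subset hs, rfl⟩
  sq_mem := by rintro _ ⟨s, hs, rfl⟩; exact ⟨s * s, P.sq_mem s hs, by simp⟩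
  inj := by
    rintro _ ⟨s, hs, rfl⟩ _ ⟨s', hs', rfl⟩ h
    rw [P.inj s hs s' hs' ?_]
    obtain ⟨x, hx, he⟩ := h
    have : x = s⁻¹ * s' := e.injective (by simpa using he)
    exact this ▸ hx
  closure_sup := by
    rw [show e '' P.S = e.toMonoidHom '' P.S from rfl, ← MonoidHom.map_closure,
      ← Subgroup.map_inf _ _ _ e.injective, ← Subgroup.map_sup, P.closure_sup]
  mul_mem_union := by
    rintro _ ⟨s, hs, rfl⟩ _ ⟨n, hn, rfl⟩ _ ⟨b, hb, rfl⟩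
    rcases P.mul_mem_union s hs n hn b hb with h | h <;>
      obtain ⟨b₁, hb₁, b₂, hb₂, he⟩ := DoubleCoset.mem_doubleCoset.1 h
    · refine Or.inl (DoubleCoset.mem_doubleCoset.2 ⟨e b₁, ⟨b₁, hb₁, rfl⟩, e b₂, ⟨b₂, hb₂, rfl⟩, ?_⟩)
      simp only [MulEquiv.coe_toMonoidHom, ← map_mul, he]
    · refine Or.inr (DoubleCoset.mem_doubleCoset.2 ⟨e b₁, ⟨b₁, hb₁, rfl⟩, e b₂, ⟨b₂, hb₂, rfl⟩, ?_⟩)
      simp only [MulEquiv.coe_toMonoidHom, ← map_mul, he]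
  conj_ne := by
    rintro _ ⟨s, hs, rfl⟩ h
    refine P.conj_ne s hs ?_
    apply (Set.image_injective.2 e.injective)
    rw [Set.image_image]
    rw [Subgroup.coe_map, Set.image_image] at h
    simpa using h

namespace TwG

variable {D : ChevalleyDatum} {X : Aux} {F : Type*} [Field F] {G : Type*} [Group G] {R : Rel D X F G} (T : TwG R)

/-- a representative of the `k`-th generator of the Weyl group, as an element of the twisted group -/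
noncomputable def sJ (k : Fin T.κ) : T.P1 := ⟨T.nJ k, T.nJ_mem k⟩

include T

theorem sJ_mem_NS (k : Fin T.κ) : T.sJ k ∈ R.NS.subgroupOf T.P1 := (T.nJ k).2

theorem inf_eq : R.BS.subgroupOf T.P1 ⊓ R.NS.subgroupOf T.P1 = R.HS.subgroupOf T.P1 := by
  ext x
  simp only [Subgroup.mem_inf, Subgroup.mem_subgroupOf]
  rw [← R.BS_inf_NS, Subgroup.mem_inf]

theorem class_conj_mem {k : Fin T.κ} {n : R.NS} (hn : (n : G) ∈ T.P1) {m : G}
    (hm : m ∈ R.US (posSub D X T.orb k)) (hm1 : m ∈ T.P1)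
    (hpos : ∀ r ∈ posSub D X T.orb k, half D ≤ (R.nsPerm n r : ℕ)) :
    (n : G) * m * (n : G)⁻¹ ∈ R.UP ∧ (n : G) * m * (n : G)⁻¹ ∈ T.P1 := by
  obtain ⟨a, ha⟩ := R.isMon_nsPerm n
  exact ⟨Rel.IsMon.conj_mem_US R ha (T := posSet D) hpos hm, mul_mem (mul_mem hn hm1) (inv_mem hn)⟩

theorem conj_class_normal_form {k : Fin T.κ} {m : G} (hm : m ∈ R.US (posSub D X T.orb k)) (hm1 : m ∈ T.P1) :
    (T.nJ k : G) * m * (T.nJ k : G)⁻¹ = 1 ∨
      ∃ v ∈ R.BS, ∃ u ∈ R.US (posSub D X T.orb k), v ∈ T.P1 ∧ u ∈ T.P1 ∧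
        (T.nJ k : G) * m * (T.nJ k : G)⁻¹ = v * T.nJ k * u := by
  obtain ⟨a, ha⟩ := R.isMon_nsPerm (T.nJ k)
  have hyN : (T.nJ k : G) * m * (T.nJ k : G)⁻¹ ∈ R.US (negSub D X T.orb k) :=
    Rel.IsMon.conj_mem_US R ha (T := negSub D X T.orb k) (fun r hr => by
      refine ⟨((T.nJ_inv k).symm ▸ hr : r ∈ invSet _).2, ?_⟩
      have h := R.negF_mem_sub _ (T.nJ_posSub hr).2
      rwa [R.negF_negF] at h) hm
  obtain ⟨v, hv, μ, u, hu, e, hv1, hμ1, hu1⟩ := T.P1_bnu (mul_mem (mul_mem (T.nJ_mem k) hm1) (inv_mem (T.nJ_mem k)))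
  have hμP : (μ : G) ∈ R.PJ (orbSet T.orb k) := by
    have em : (μ : G) = v⁻¹ * ((T.nJ k : G) * m * (T.nJ k : G)⁻¹) * u⁻¹ := by rw [e]; group
    rw [em]
    exact mul_mem (mul_mem (inv_mem (Subgroup.mem_sup_left (R.UP_le_BS hv)))
      (mul_mem (mul_mem (T.nJ_PJ k) (T.posSub_le_PJ k hm)) (inv_mem (T.nJ_PJ k))))
      (inv_mem (Subgroup.mem_sup_left (R.UP_le_BS (R.US_mono (Rel.invSet_subset _) hu))))
  rcases T.perm_dichotomy k (T.hfix _ hμ1) hμP with hH | hinv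
  · left
    have hu0 : u = 1 := by
      refine Subgroup.mem_bot.1 ((R.US_le (H := ⊥) fun r hr _ => absurd ?_ hr.2) hu)
      rw [R.nsPerm_of_mem_HS μ hH, Equiv.Perm.one_apply]; exact hr.1
    refine R.BS_inf_UN ?_ (R.US_mono (fun r hr => hr.1) hyN)
    rw [e, hu0, mul_one]
    exact mul_mem (R.UP_le_BS hv) (R.HS_le_BS hH)
  · right
    have hh : ((μ * (T.nJ k)⁻¹ : R.NS) : G) ∈ R.HS := by
      refine R.nsPerm_eq_one_of_pos _ fun i => ?_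
      by_contra hneg
      have hh1 := T.inv_mul_nJ (n := μ) (k := k) (by rw [hinv])
      rw [hinv, Set.sdiff_self, Set.image_empty] at hh1
      have hmem : R.sroot i ∈ invSet (R.nsPerm (μ * (T.nJ k)⁻¹)) := ⟨R.sroot_pos i, hneg⟩
      rw [hh1] at hmem
      exact hmem
    rw [hinv] at hu
    refine ⟨v * ((μ : G) * (T.nJ k : G)⁻¹), mul_mem (R.UP_le_BS hv) (R.HS_le_BS hh), u, hu,
      mul_mem hv1 (mul_mem hμ1 (inv_mem (T.nJ_mem k))), hu1, ?_⟩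
    rw [e]; group

theorem mul_mem_union (k : Fin T.κ) {n b : T.P1} (hn : n ∈ R.NS.subgroupOf T.P1) (hb : b ∈ R.BS.subgroupOf T.P1) :
    T.sJ k * b * n ∈ DoubleCoset.doubleCoset (T.sJ k * n) (R.BS.subgroupOf T.P1 : Set T.P1) (R.BS.subgroupOf T.P1)
      ∪ DoubleCoset.doubleCoset n (R.BS.subgroupOf T.P1 : Set T.P1) (R.BS.subgroupOf T.P1) := by
  have hsN := (T.nJ k).2
  obtain ⟨v, hv, h, hh, eb, hv1, hh1⟩ := T.exists_BS_factor hb b.2
  obtain ⟨p, hp, m, hm, ev, hσp, hσm⟩ := T.fixed_factor (T.hfix _ (T.nJ_mem k)) hv (T.hfix v hv1)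
  rw [T.nJ_inv k] at hm
  have hm1 : m ∈ T.P1 := T.hA k m hm hσm
  have hp1 : p ∈ T.P1 := T.mem_P1_of_fixed_UP (R.US_mono (Rel.keepSet_subset _) hp) hσp
  -- the elements of the twisted group involved
  let P : T.P1 := ⟨(T.nJ k : G) * p * (T.nJ k : G)⁻¹, mul_mem (mul_mem (T.nJ_mem k) hp1) (inv_mem (T.nJ_mem k))⟩
  have hP : P ∈ R.BS.subgroupOf T.P1 := R.UP_le_BS (R.conj_keep hp)
  let n' : R.NS := ⟨h * (n : G), mul_mem (R.HS_le_NS hh) hn⟩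
  have hn'1 : (n' : G) ∈ T.P1 := mul_mem hh1 n.2
  have hs2 : ((T.nJ k : G) * T.nJ k) ∈ R.HS := T.nJ_sq k
  have hsh : (T.nJ k : G) * h * (T.nJ k : G)⁻¹ ∈ R.HS := R.HS_conj hsN hh
  have ebn : (T.nJ k : G) * (b : G) * (n : G) =
      ((T.nJ k : G) * p * (T.nJ k : G)⁻¹) * ((T.nJ k : G) * m * (n' : G)) := by
    show _ = _ * ((T.nJ k : G) * m * (h * (n : G)))
    rw [show (b : G) = v * h from eb, ev]; group
  have hcase : ∀ i : Fin D.rank, T.orb i = k →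
      (half D ≤ (R.nsPerm n'⁻¹ (R.sroot i) : ℕ)) →
      T.sJ k * b * n ∈ DoubleCoset.doubleCoset (T.sJ k * n) (R.BS.subgroupOf T.P1 : Set T.P1)
        (R.BS.subgroupOf T.P1) := by
    intro i hik hi
    obtain ⟨c1, c2⟩ := T.class_conj_mem (n := n'⁻¹) (inv_mem hn'1) hm hm1
      (fun r hr => T.pos_posSub (T.hfix _ (inv_mem hn'1)) hi (hik.symm ▸ hr))
    refine DoubleCoset.mem_doubleCoset.2 ⟨P * ⟨(T.nJ k : G) * h * (T.nJ k : G)⁻¹,
      mul_mem (mul_mem (T.nJ_mem k) hh1) (inv_mem (T.nJ_mem k))⟩, mul_mem hP (R.HS_le_BS hsh),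
      ⟨(n'⁻¹ : R.NS) * m * ((n'⁻¹ : R.NS) : G)⁻¹, c2⟩, R.UP_le_BS c1, Subtype.ext ?_⟩
    show (T.nJ k : G) * (b : G) * (n : G) = _
    rw [ebn]
    show _ = (T.nJ k : G) * p * (T.nJ k : G)⁻¹ * ((T.nJ k : G) * h * (T.nJ k : G)⁻¹) * ((T.nJ k : G) * (n : G)) *
      (((h * (n : G))⁻¹) * m * ((h * (n : G))⁻¹)⁻¹)
    show _ * ((T.nJ k : G) * m * (h * (n : G))) = _
    group
  obtain ⟨i, hik⟩ := T.orb_surj k
  by_cases hi : half D ≤ (R.nsPerm n'⁻¹ (R.sroot i) : ℕ)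
  · exact Or.inl (hcase i hik hi)
  rcases T.conj_class_normal_form hm hm1 with hy | ⟨w, hw, u, hu, hw1, hu1, hy⟩
  · -- `m` is trivial
    refine Or.inl (DoubleCoset.mem_doubleCoset.2 ⟨P * ⟨(T.nJ k : G) * h * (T.nJ k : G)⁻¹,
      mul_mem (mul_mem (T.nJ_mem k) hh1) (inv_mem (T.nJ_mem k))⟩, mul_mem hP (R.HS_le_BS hsh),
      1, one_mem _, Subtype.ext ?_⟩)
    rw [mul_inv_eq_one, mul_eq_left] at hy
    show (T.nJ k : G) * (b : G) * (n : G) = _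
    rw [ebn, hy]
    show _ = (T.nJ k : G) * p * (T.nJ k : G)⁻¹ * ((T.nJ k : G) * h * (T.nJ k : G)⁻¹) * ((T.nJ k : G) * (n : G)) * 1
    show _ * ((T.nJ k : G) * 1 * (h * (n : G))) = _
    group
  · right
    let n'' : R.NS := T.nJ k * n'
    have hn''1 : (n'' : G) ∈ T.P1 := mul_mem (T.nJ_mem k) hn'1
    obtain ⟨c1, c2⟩ := T.class_conj_mem (n := n''⁻¹) (inv_mem hn''1) hu hu1 (fun r hr => by
      have h1 : R.nsPerm (T.nJ k)⁻¹ r = R.nsPerm (T.nJ k) r := by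
        rw [map_inv]
        exact (Equiv.symm_apply_eq _).2 (T.nJ_perm_invol k r).symm
      rw [show n''⁻¹ = n'⁻¹ * (T.nJ k)⁻¹ from mul_inv_rev _ _, map_mul, Equiv.Perm.mul_apply, h1]
      have h2 := T.neg_posSub (T.hfix _ (inv_mem hn'1)) hi (r := R.negF (R.nsPerm (T.nJ k) r))
        (by rw [hik]; exact T.nJ_posSub hr)
      rw [R.nsPerm_negF, R.negF_pos_iff, not_not] at h2
      exact h2)
    have hk : (T.nJ k : G) * (T.nJ k : G) * h ∈ R.HS := mul_mem hs2 hh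
    refine DoubleCoset.mem_doubleCoset.2 ⟨P * ⟨w, hw1⟩ * ⟨(T.nJ k : G) * T.nJ k * h,
      mul_mem (mul_mem (T.nJ_mem k) (T.nJ_mem k)) hh1⟩, mul_mem (mul_mem hP hw) (R.HS_le_BS hk),
      ⟨(n''⁻¹ : R.NS) * u * ((n''⁻¹ : R.NS) : G)⁻¹, c2⟩, R.UP_le_BS c1, Subtype.ext ?_⟩
    show (T.nJ k : G) * (b : G) * (n : G) = _
    rw [ebn]
    show _ = (T.nJ k : G) * p * (T.nJ k : G)⁻¹ * w * ((T.nJ k : G) * T.nJ k * h) * (n : G) *
      ((((T.nJ k : G) * (h * (n : G)))⁻¹) * u * (((T.nJ k : G) * (h * (n : G)))⁻¹)⁻¹)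
    show _ * ((T.nJ k : G) * m * (h * (n : G))) = _
    rw [show (T.nJ k : G) * m = ((T.nJ k : G) * m * (T.nJ k : G)⁻¹) * T.nJ k by group, hy]
    group

/-- the (B, N)-pair of the twisted group -/
noncomputable def bnPair1 : Cfsg.BNPair T.P1 where
  B := R.BS.subgroupOf T.P1
  N := R.NS.subgroupOf T.P1
  S := Set.range T.sJ
  sup_eq_top := by
    rw [eq_top_iff]
    intro g _
    obtain ⟨v, hv, m, u, hu, e, hv1, hm1, hu1⟩ := T.P1_bnu g.2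
    have eg : g = (⟨v, hv1⟩ : T.P1) * ⟨m, hm1⟩ * ⟨u, hu1⟩ := Subtype.ext e
    rw [eg]
    refine mul_mem (mul_mem (Subgroup.mem_sup_left (R.UP_le_BS hv)) (Subgroup.mem_sup_right m.2)) ?_
    exact Subgroup.mem_sup_left (R.UP_le_BS (R.US_mono (Rel.invSet_subset _) hu))
  conj_mem n hn t ht := by
    rw [T.inf_eq] at ht
    exact R.HS_le_BS (R.HS_conj hn ht)
  subset := by rintro _ ⟨k, rfl⟩; exact T.sJ_mem_NS k
  sq_mem := by rintro _ ⟨k, rfl⟩; exact R.HS_le_BS (T.nJ_sq k)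
  inj := by
    rintro _ ⟨k, rfl⟩ _ ⟨l, rfl⟩ h
    have h1 : (((T.nJ k)⁻¹ * T.nJ l : R.NS) : G) ∈ R.HS :=
      R.BS_inf_NS.le (Subgroup.mem_inf.2 ⟨h, SetLike.coe_mem _⟩)
    have h2 := R.nsPerm_of_mem_HS _ h1
    rw [map_mul, map_inv, inv_mul_eq_one] at h2
    obtain ⟨i, rfl⟩ := T.orb_surj k
    have h3 : R.sroot i ∈ posSub D X T.orb (T.orb i) :=
      ⟨R.sroot_pos i, R.sroot_mem_sub _ (T.mem_orbSet.2 rfl)⟩
    rw [← T.nJ_inv, h2, T.nJ_inv] at h3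
    rw [T.orb_of_coef h3.2 (i := i) (by rw [R.coef_sroot, if_pos rfl]; exact one_ne_zero)]
  closure_sup := by
    refine le_antisymm (sup_le ((Subgroup.closure_le _).2 (by rintro _ ⟨k, rfl⟩; exact T.sJ_mem_NS k)) inf_le_right)
      fun n hn => ?_
    have h := T.mem_closure_nJ ⟨n, hn⟩ n.2
    rw [T.inf_eq]
    have h2 : (Subgroup.closure (Set.range T.sJ) ⊔ R.HS.subgroupOf T.P1).map T.P1.subtype =
        Subgroup.closure (Set.range fun k => (T.nJ k : G)) ⊔ (R.HS ⊓ T.P1) := by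
      rw [Subgroup.map_sup, MonoidHom.map_closure, Subgroup.subgroupOf_map_subtype, ← Set.range_comp]
      rfl
    rw [← h2] at h
    obtain ⟨y, hy, e⟩ := h
    exact (Subtype.ext e : y = n) ▸ hy
  mul_mem_union := by
    rintro _ ⟨k, rfl⟩ n hn b hb
    exact T.mul_mem_union k hn hb
  conj_ne := by
    rintro _ ⟨k, rfl⟩ h
    obtain ⟨y, hy, hyN, hy1⟩ := T.hB k
    obtain ⟨a, ha⟩ := R.isMon_nsPerm (T.nJ k)
    have hu : (T.nJ k : G)⁻¹ * y * (T.nJ k : G) ∈ R.UP := by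
      have h1 := Rel.IsMon.conj_mem_US R (R.isMon_inv ha) (T := posSet D) (fun r (hr : r ∈ negSub D X T.orb k) => by
        show half D ≤ ((R.nsPerm (T.nJ k))⁻¹ r : ℕ)
        have e : (R.nsPerm (T.nJ k))⁻¹ r = R.nsPerm (T.nJ k) r :=
          (Equiv.symm_apply_eq _).2 (T.nJ_perm_invol k r).symm
        rw [e]
        have h2 : R.negF r ∈ posSub D X T.orb k := ⟨(R.negF_pos_iff r).2 hr.1, R.negF_mem_sub _ hr.2⟩
        have h3 : ¬ half D ≤ (R.nsPerm (T.nJ k) (R.negF r) : ℕ) := ((T.nJ_inv k).symm ▸ h2 : _ ∈ invSet _).2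
        rw [R.nsPerm_negF, R.negF_pos_iff, not_not] at h3
        exact h3) hyN
      rwa [inv_inv] at h1
    let x : T.P1 := ⟨(T.nJ k : G)⁻¹ * y * (T.nJ k : G), mul_mem (mul_mem (inv_mem (T.nJ_mem k)) hy) (T.nJ_mem k)⟩
    have h4 : T.sJ k * x * T.sJ k ∈ R.BS.subgroupOf T.P1 :=
      h.le ⟨x, R.UP_le_BS hu, rfl⟩
    have h5 : y * ((T.nJ k : G) * T.nJ k) ∈ R.BS := by
      have : y * ((T.nJ k : G) * T.nJ k) = (T.nJ k : G) * ((T.nJ k : G)⁻¹ * y * T.nJ k) * T.nJ k := by group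
      rw [this]; exact h4
    refine hy1 (R.BS_inf_UN ?_ (R.US_mono (fun r hr => hr.1) hyN))
    have := mul_mem h5 (inv_mem (R.HS_le_BS (T.nJ_sq k)))
    rwa [Subgroup.coe_mul, mul_inv_cancel_right] at this

end TwG

end CfsgLib.Lie.Chev
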