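/-
Core, irreducibility, perfectness and simplicity of twisted groups.
-/
import Cfsg.Agent.Lib.Lie.Twisted.BN
import Cfsg.Agent.Lib.Lie.Rel.Simple

set_option autoImplicit false

namespace CfsgLib.Lie.Chev

open Cfsg.Lie (ChevalleyDatum)

namespace TwG

variable {D : ChevalleyDatum} {X : Aux} {F : Type*} [Field F] {G : Type*} [Group G] {R : Rel D X F G} (T : TwG R)

/-- the torus acts faithfully on the orbit classes -/
def TorusFaithful : Prop :=
  ∀ h ∈ R.HS, h ∈ T.P1 → (∀ k, ∀ u ∈ R.US (posSub D X T.orb k), u ∈ T.P1 → h * u * h⁻¹ = u) → h = 1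

include T

theorem core_mem_HS {g : T.P1} (hg : g ∈ (R.BS.subgroupOf T.P1).normalCore) : (g : G) ∈ R.HS := by
  obtain ⟨n, hn, hn0⟩ := T.exists_n0
  obtain ⟨a, ha⟩ := R.isMon_nsPerm n
  have h1 : (g : G) ∈ R.BS := by
    have := hg 1
    rw [one_mul, inv_one, mul_one] at this
    exact this
  have h2 : (n : G)⁻¹ * g * (n : G) ∈ R.BS := by
    have := hg (⟨n, hn⟩⁻¹ : T.P1)
    rw [inv_inv] at this
    exact this
  obtain ⟨v, hv, h, hh, e⟩ := R.exists_of_mem_BS h2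
  refine R.BS_inf_UN_HS h1 ?_
  have eg : (g : G) = ((n : G) * v * (n : G)⁻¹) * ((n : G) * h * (n : G)⁻¹) := by
    rw [show ((n : G) * v * (n : G)⁻¹) * ((n : G) * h * (n : G)⁻¹) = (n : G) * (v * h) * (n : G)⁻¹ by group, ← e]
    group
  rw [eg]
  exact mul_mem (Subgroup.mem_sup_left (Rel.IsMon.conj_mem_US R ha (T := negSet D) (fun r hr => hn0 r hr) hv))
    (Subgroup.mem_sup_right (R.HS_conj n.2 hh))

theorem core_eq_bot (hC : T.TorusFaithful) : (R.BS.subgroupOf T.P1).normalCore = ⊥ := by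
  refine (Subgroup.eq_bot_iff_forall _).2 fun g hg => Subtype.ext ?_
  refine hC _ (T.core_mem_HS hg) g.2 fun k u hu hu1 => ?_
  have huP : u ∈ R.UP := R.US_mono (fun r hr => hr.1) hu
  have h1 : g * ⟨u, hu1⟩ * g⁻¹ * (⟨u, hu1⟩ : T.P1)⁻¹ ∈ (R.BS.subgroupOf T.P1).normalCore := by
    rw [mul_assoc g, mul_assoc g]
    exact mul_mem hg ((Subgroup.normalCore_normal _).conj_mem _ (inv_mem hg) _)
  have h2 : (g : G) * u * (g : G)⁻¹ * u⁻¹ ∈ R.HS := T.core_mem_HS h1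
  have h3 : (g : G) * u * (g : G)⁻¹ * u⁻¹ ∈ R.UP ⊓ R.HS := Subgroup.mem_inf.2
    ⟨mul_mem ((Subgroup.mem_normalizer_iff.1 (R.HS_le_normalizer_US _ (T.core_mem_HS hg)) u).1 huP) (inv_mem huP),
      h2⟩
  rw [R.UP_inf_HS, Subgroup.mem_bot] at h3
  exact mul_inv_eq_one.1 h3

theorem cartan_zero_of_commute {i j : Fin D.rank} (hne : T.orb i ≠ T.orb j)
    (hc : ∀ r, R.nsPerm (T.nJ (T.orb i)) (R.nsPerm (T.nJ (T.orb j)) r) =
      R.nsPerm (T.nJ (T.orb j)) (R.nsPerm (T.nJ (T.orb i)) r)) : D.cartan i (D.simple j) = 0 := by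
  by_contra hA
  have hij : i ≠ j := fun e => hne (by rw [e])
  have hsj : R.sroot j ∈ posSub D X T.orb (T.orb j) :=
    ⟨R.sroot_pos j, R.sroot_mem_sub _ (T.mem_orbSet.2 rfl)⟩
  have hsi : R.sroot i ∈ posSub D X T.orb (T.orb i) :=
    ⟨R.sroot_pos i, R.sroot_mem_sub _ (T.mem_orbSet.2 rfl)⟩
  have hnot : ∀ {k l : Fin T.κ} {r : Fin D.nroots}, k ≠ l → r ∈ posSub D X T.orb k → r ∉ posSub D X T.orb l := by
    intro k l r hkl hk hl
    obtain ⟨b, hb⟩ := R.exists_coef_ne_zero r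
    exact hkl ((T.orb_of_coef hk.2 hb).symm.trans (T.orb_of_coef hl.2 hb))
  -- the image of `p_j` stays in the class of `j`
  have hπj : R.nsPerm (T.nJ (T.orb i)) (R.sroot j) ∈ posSub D X T.orb (T.orb j) := by
    rw [← T.nJ_inv]
    refine ⟨(T.nJ_pos (R.sroot_pos j) (hnot (Ne.symm hne) hsj)).1, ?_⟩
    rw [← hc]
    have hs := T.nJ_posSub hsj
    have h1 := (T.nJ_pos hs.1 (hnot (Ne.symm hne) hs)).1
    rw [R.nsPerm_negF, R.negF_pos_iff] at h1
    exact h1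
  have hπi : R.negF (R.nsPerm (T.nJ (T.orb i)) (R.sroot i)) ∈ posSub D X T.orb (T.orb i) := T.nJ_posSub hsi
  obtain ⟨b, hb⟩ := R.exists_coef_ne_zero (R.negF (R.nsPerm (T.nJ (T.orb i)) (R.sroot i)))
  have hbi : T.orb b = T.orb i := T.orb_of_coef hπi.2 hb
  have hbneg : X.coef b (R.nsPerm (T.nJ (T.orb i)) (R.sroot i) : ℕ) < 0 := by
    have h1 := R.cert.coef_nonneg (R.negF (R.nsPerm (T.nJ (T.orb i)) (R.sroot i))).2 b.2 hπi.1
    rw [show (R.negF (R.nsPerm (T.nJ (T.orb i)) (R.sroot i)) : ℕ) =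
      D.neg (R.nsPerm (T.nJ (T.orb i)) (R.sroot i) : ℕ) from rfl,
      R.cert.coef_neg (R.nsPerm (T.nJ (T.orb i)) (R.sroot i)).2 b.2] at h1 hb
    omega
  have hbj : X.coef b (R.nsPerm (T.nJ (T.orb i)) (R.sroot j) : ℕ) = 0 := by
    by_contra h
    exact hne (hbi.symm.trans (T.orb_of_coef hπj.2 h))
  -- the root `p_j - A p_i`
  have hr := R.wperm_pos i (R.sroot j) (R.sroot_pos j) (fun e => hij (R.sroot_injective e).symm)
  have hcoef : ∀ a : Fin D.rank, X.coef a (R.wperm i (R.sroot j) : ℕ) =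
      (if a = j then 1 else 0) - if a = i then D.cartan i (D.simple j) else 0 := by
    intro a
    rw [R.wperm_apply, R.cert.coef_w i.2 (R.sroot j).2 a.2, R.coef_sroot]
    simp only [Fin.ext_iff]
    split_ifs <;> simp [Rel.sroot]
  have hAneg : 0 ≤ -D.cartan i (D.simple j) := by
    have := R.cert.coef_nonneg (R.wperm i (R.sroot j)).2 i.2 hr
    rw [hcoef, if_neg hij, if_pos rfl] at this
    omega
  have hnsub : R.wperm i (R.sroot j) ∉ posSub D X T.orb (T.orb i) := fun h => by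
    refine hne (T.orb_of_coef h.2 (i := j) ?_).symm
    rw [hcoef, if_pos rfl, if_neg (Ne.symm hij)]; norm_num
  have hpos := R.cert.coef_nonneg (R.nsPerm (T.nJ (T.orb i)) (R.wperm i (R.sroot j))).2 b.2
    (T.nJ_pos hr hnsub).1
  rw [R.isLin_nsPerm (T.nJ (T.orb i)) (R.wperm i (R.sroot j)) b,
    Finset.sum_eq_add j i (Ne.symm hij) (fun a _ ha => by rw [hcoef, if_neg ha.1, if_neg ha.2]; ring)
      (fun h => absurd (Finset.mem_univ _) h) (fun h => absurd (Finset.mem_univ _) h),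
    hcoef j, hcoef i, if_pos rfl, if_neg (Ne.symm hij), if_neg hij, if_pos rfl, hbj] at hpos
  simp only [mul_zero, zero_add, zero_sub] at hpos
  have hA' : 0 < -D.cartan i (D.simple j) := by omega
  nlinarith [mul_neg_of_pos_of_neg hA' hbneg]

theorem irreducible (hc : Rel.Connected D) : T.bnPair1.Irreducible := by
  intro J hJ ⟨a, ha⟩ ⟨b, hb⟩
  classical
  obtain ⟨i, hi, j, hj, hij⟩ : ∃ i : Fin D.rank, T.sJ (T.orb i) ∈ J ∧
      ∃ j : Fin D.rank, T.sJ (T.orb j) ∉ J ∧ (D.cartan i (D.simple j) ≠ 0 ∨ D.cartan j (D.simple i) ≠ 0) := by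
    obtain ⟨k₀, rfl⟩ := hJ ha
    obtain ⟨k₁, rfl⟩ := hb.1
    obtain ⟨i₀, rfl⟩ := T.orb_surj k₀
    obtain ⟨i₁, rfl⟩ := T.orb_surj k₁
    by_contra hcon
    have key := hc (fun k => ∃ h : k < D.rank, T.sJ (T.orb ⟨k, h⟩) ∈ J) fun k hk l hl hne => by
      constructor <;> rintro ⟨_, h⟩ <;> refine ⟨by assumption, ?_⟩ <;> by_contra h'
      · exact hcon ⟨⟨k, hk⟩, h, ⟨l, hl⟩, h', Or.inl hne⟩
      · exact hcon ⟨⟨l, hl⟩, h, ⟨k, hk⟩, h', Or.inr hne⟩
    obtain ⟨_, h⟩ := (key i₁ i₁.2).2 ((key i₀ i₀.2).1 ⟨i₀.2, ha⟩)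
    exact hb.2 h
  refine ⟨_, hi, _, ⟨⟨T.orb j, rfl⟩, hj⟩, ?_⟩
  have hne : T.orb i ≠ T.orb j := fun e => hj (e ▸ hi)
  intro hB
  have hB' : ((T.nJ (T.orb i) * T.nJ (T.orb j) * (T.nJ (T.orb i))⁻¹ * (T.nJ (T.orb j))⁻¹ : R.NS) : G) ∈ R.HS :=
    R.BS_inf_NS.le (Subgroup.mem_inf.2 ⟨hB, SetLike.coe_mem _⟩)
  have h2 := R.nsPerm_of_mem_HS _ hB'
  simp only [map_mul, map_inv] at h2
  rw [mul_inv_eq_one, mul_inv_eq_iff_eq_mul] at h2
  have hcomm : ∀ r, R.nsPerm (T.nJ (T.orb i)) (R.nsPerm (T.nJ (T.orb j)) r) =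
      R.nsPerm (T.nJ (T.orb j)) (R.nsPerm (T.nJ (T.orb i)) r) := fun r => Equiv.ext_iff.1 h2 r
  rcases hij with h | h
  · exact h (T.cartan_zero_of_commute hne hcomm)
  · exact h (T.cartan_zero_of_commute (Ne.symm hne) fun r => (hcomm r).symm)

theorem perfect_of (h : ∀ k, ∀ u ∈ R.US (posSub D X T.orb k), u ∈ T.P1 → u ∈ (commutator T.P1).map T.P1.subtype)
    (hgen : T.P1 ≤ Subgroup.closure {g | g ∈ T.P1 ∧ (g ∈ R.UP ∨ g ∈ R.UN)}) : commutator T.P1 = ⊤ := by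
  obtain ⟨n, hn, hn0⟩ := T.exists_n0
  obtain ⟨a, ha⟩ := R.isMon_nsPerm n
  have hconj : ∀ x ∈ T.P1, ∀ g ∈ (commutator T.P1).map T.P1.subtype,
      x * g * x⁻¹ ∈ (commutator T.P1).map T.P1.subtype := by
    rintro x hx _ ⟨y, hy, rfl⟩
    exact ⟨⟨x, hx⟩ * y * (⟨x, hx⟩ : T.P1)⁻¹, (commutator T.P1).normal_of_characteristic.conj_mem y hy _, rfl⟩
  have hUP : ∀ u ∈ T.P1, u ∈ R.UP → u ∈ (commutator T.P1).map T.P1.subtype := fun u hu huP =>
    T.fixed_UP_mem _ (fun k v hv hσ => h k v hv (T.hA k v hv hσ))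
      (fun k g hg => by simpa using hconj _ (inv_mem (T.nJ_mem k)) g hg) n (T.hfix _ hn) u huP (T.hfix u hu)
      (Rel.IsMon.conj_mem_US R ha (T := negSet D) (fun r hr => hn0 r hr) huP)
  have hle : T.P1 ≤ (commutator T.P1).map T.P1.subtype := by
    refine hgen.trans ((Subgroup.closure_le _).2 ?_)
    rintro g ⟨hg, hP | hN⟩
    · exact hUP g hg hP
    · have h1 : (n : G) * g * (n : G)⁻¹ ∈ R.UP :=
        Rel.IsMon.conj_mem_US R ha (T := posSet D) (fun r hr => by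
          have h := hn0 (R.negF r) ((R.negF_pos_iff r).2 hr)
          rw [R.nsPerm_negF, R.negF_pos_iff, not_not] at h
          exact h) hN
      have h2 := hconj _ (inv_mem hn) _ (hUP _ (mul_mem (mul_mem hn hg) (inv_mem hn)) h1)
      simpa [mul_assoc] using h2
  rw [eq_top_iff]
  intro g _
  obtain ⟨y, hy, e⟩ := hle g.2
  exact (Subtype.ext e : y = g) ▸ hy

theorem isSimple (hC : T.TorusFaithful) (hc : Rel.Connected D) (hp : commutator T.P1 = ⊤) :
    IsSimpleGroup T.P1 ∧ ¬ IsMulCommutative T.P1 := by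
  have hnt : Nontrivial T.P1 := by
    obtain ⟨y, hy, _, hy1⟩ := T.hB (T.orb ⟨0, R.cert.rank_pos⟩)
    exact ⟨⟨⟨y, hy⟩, 1, fun e => hy1 (congrArg Subtype.val e)⟩⟩
  have : Group.IsSolvable ↥R.BS := R.BS_isSolvable
  have : Group.IsSolvable ↥(R.BS.subgroupOf T.P1) :=
    Group.isSolvable_of_isSolvable_injective (f := T.P1.subtype.subgroupComap R.BS) fun a b e =>
      Subtype.ext (Subtype.ext (congrArg Subtype.val e :))
  refine ⟨⟨fun H hH => ?_⟩, fun hcomm => ?_⟩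
  · rcases CfsgLib.Lie.BN.normal_le_core_or_sup_eq_top T.bnPair1 (T.irreducible hc) H with h | h
    · left
      rw [eq_bot_iff]
      exact h.trans (T.core_eq_bot hC).le
    · right
      have hsurj : Function.Surjective ((QuotientGroup.mk' H).comp (R.BS.subgroupOf T.P1).subtype) := by
        intro q
        obtain ⟨g, rfl⟩ := QuotientGroup.mk'_surjective H q
        obtain ⟨x, hx, b, hb, rfl⟩ := Subgroup.mem_sup_of_normal_left.1
          (show g ∈ H ⊔ R.BS.subgroupOf T.P1 from h ▸ Subgroup.mem_top g)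
        refine ⟨⟨b, hb⟩, ?_⟩
        simp only [MonoidHom.comp_apply, map_mul]
        rw [show QuotientGroup.mk' H x = 1 from (QuotientGroup.eq_one_iff x).2 hx, one_mul]
        rfl
      have : Group.IsSolvable (T.P1 ⧸ H) := Group.isSolvable_of_surjective hsurj
      have hq : commutator (T.P1 ⧸ H) = ⊤ := by
        rw [eq_top_iff]
        refine le_trans ?_ (Subgroup.map_le_iff_le_comap.2 ?_ : (commutator T.P1).map (QuotientGroup.mk' H) ≤ _)
        · rw [hp, Subgroup.map_top_of_surjective _ (QuotientGroup.mk'_surjective H)]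
        · rw [commutator_def, Subgroup.commutator_le]
          intro a _ b _
          rw [Subgroup.mem_comap, map_commutatorElement]
          exact Subgroup.commutator_mem_commutator (Subgroup.mem_top _) (Subgroup.mem_top _)
      by_contra hne
      have : Nontrivial (T.P1 ⧸ H) := QuotientGroup.nontrivial_iff.2 hne
      exact (Group.IsSolvable.commutator_lt_top_of_nontrivial (T.P1 ⧸ H)).ne hq
  · have : commutator T.P1 = ⊥ := by
      rw [commutator_def, eq_bot_iff, Subgroup.commutator_le]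
      intro a _ b _
      rw [Subgroup.mem_bot, commutatorElement_eq_one_iff_mul_comm]
      exact hcomm.is_comm.comm a b
    exact top_ne_bot (hp.symm.trans this)

end TwG

end CfsgLib.Lie.Chev
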