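/-
Twisted subgroups of the Chevalley groups of the tabulated data, and translation of their invariants.
-/
import Cfsg.Agent.Lib.Lie.Twisted.Ord
import Cfsg.Agent.Lib.Lie.Twisted.Struct
import Cfsg.Agent.Lib.Lie.Rel.Twist
import Cfsg.Prelude.Def_LieTwisted

set_option autoImplicit false

namespace CfsgLib.Lie.Chev

open Cfsg.Lie (ChevalleyDatum)

/-- shape of twisting data: the root permutation preserves positivity, permutes the simple roots along `πL` -/
def chkTwShape (D : ChevalleyDatum) (T : List (ℕ × ℤ × ℕ)) (πL orbL : List ℕ) (κ : ℕ) : Bool :=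
  decide ((List.range D.nroots).map fun r => (twAt D T r).1).Nodup &&
  ((List.range D.nroots).all fun r => Nat.blt (twAt D T r).1 (half D) == Nat.blt r (half D)) &&
  ((List.range D.rank).all fun i => Nat.blt (πL.getD i 0) D.rank &&
      Nat.beq (twAt D T (D.simple i)).1 (D.simple (πL.getD i 0)) &&
      Nat.blt (orbL.getD i 0) κ && Nat.beq (orbL.getD (πL.getD i 0) 0) (orbL.getD i 0)) &&
  ((List.range D.rank).all fun i => (List.range D.rank).all fun j =>
      !Nat.beq (orbL.getD i 0) (orbL.getD j 0) ||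
        (List.range 4).any fun n => Nat.beq ((fun x => πL.getD x 0)^[n] i) j) &&
  (List.range κ).all fun k => (List.range D.rank).any fun i => Nat.beq (orbL.getD i 0) k

variable {D : ChevalleyDatum} {X : Aux} (C : Cert D X) {K : Type*} [Field K]

/-- the endomorphism induced by an endomorphism of the field -/
def powEnd (f : K →+* K) : ↥(D.group K) →* ↥(D.group K) where
  toFun g := ⟨glMap D f g, map_group_le D f ⟨g, g.2, rfl⟩⟩
  map_one' := Subtype.ext (map_one _)
  map_mul' a b := Subtype.ext (map_mul (glMap D f) (a : GL D.Idx K) b)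

theorem powEnd_gen (f : K →+* K) (r : ℕ) (t : K) : powEnd f (xG C K r t) = xG C K r (f t) := by
  refine Subtype.ext (Units.ext ?_)
  show (D.x K r t).map f = D.x K r (f t)
  exact x_map D f r t

/-- the product of a word of root elements -/
def wordG (w : List (ℕ × K)) : ↥(D.group K) := (w.map fun p => xG C K p.1 p.2).prod

theorem wordG_val (w : List (ℕ × K)) :
    ((wordG C w : GL D.Idx K) : Matrix D.Idx D.Idx K) = D.wordMat K w := xG_prod_val C K w

theorem genSubgroup_eq (S : Set (List (ℕ × K))) :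
    D.genSubgroup K S = (Subgroup.closure (wordG C '' S)).map (D.group K).subtype := by
  rw [MonoidHom.map_closure, ← Set.image_comp]
  unfold ChevalleyDatum.genSubgroup
  congr 1
  ext g
  constructor
  · rintro ⟨w, hw, e⟩; exact ⟨w, hw, Units.ext (e.trans (wordG_val C w).symm).symm⟩
  · rintro ⟨w, hw, rfl⟩; exact ⟨w, hw, wordG_val C w⟩

include C in
theorem genSubgroup_le (S : Set (List (ℕ × K))) : D.genSubgroup K S ≤ D.group K := by
  rw [genSubgroup_eq C]
  exact Subgroup.map_subtype_le _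

theorem genSubgroup_subgroupOf (S : Set (List (ℕ × K))) :
    (D.genSubgroup K S).subgroupOf (D.group K) = Subgroup.closure (wordG C '' S) := by
  rw [genSubgroup_eq C, subgroupOf_map C K]

theorem wordG_mem {S : Set (List (ℕ × K))} {w : List (ℕ × K)} (hw : w ∈ S) :
    wordG C w ∈ (D.genSubgroup K S).subgroupOf (D.group K) := by
  rw [genSubgroup_subgroupOf C]
  exact Subgroup.subset_closure ⟨w, hw, rfl⟩

variable {p : ℕ} {E : List ℕ} (hK : TwField K p E) {T : List (ℕ × ℤ × ℕ)} (hT : chkTw D p E T = true)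
  {πL orbL : List ℕ} {κ : ℕ} (hs : chkTwShape D T πL orbL κ = true)

include hT hs in
theorem twShape_spec :
    (∀ r s : Fin D.nroots, (twAt D T r).1 = (twAt D T s).1 → r = s) ∧
    (∀ r : Fin D.nroots, half D ≤ (twAt D T r).1 ↔ half D ≤ (r : ℕ)) ∧
    (∀ i : Fin D.rank, πL.getD (i : ℕ) 0 < D.rank ∧ (twAt D T (D.simple i)).1 = D.simple (πL.getD (i : ℕ) 0) ∧
      orbL.getD (i : ℕ) 0 < κ ∧ orbL.getD (πL.getD (i : ℕ) 0) 0 = orbL.getD (i : ℕ) 0) ∧
    (∀ i j : Fin D.rank, orbL.getD (i : ℕ) 0 = orbL.getD (j : ℕ) 0 →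
      ∃ n, (fun x => πL.getD x 0)^[n] (i : ℕ) = j) ∧
    ∀ k < κ, ∃ i : Fin D.rank, orbL.getD (i : ℕ) 0 = k := by
  simp only [chkTwShape, Bool.and_eq_true, decide_eq_true_iff, List.all_eq_true, List.mem_range, nat_blt_iff,
    nat_beq_iff, Bool.or_eq_true, Bool.not_eq_true', List.any_eq_true, beq_iff_eq] at hs
  obtain ⟨⟨⟨⟨h1, h2⟩, h3⟩, h4⟩, h5⟩ := hs
  refine ⟨fun r s e => Fin.ext (List.inj_on_of_nodup_map h1 (List.mem_range.2 r.2) (List.mem_range.2 s.2) e),
    fun r => ?_, fun i => ?_, fun i j e => ?_, fun k hk => ?_⟩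
  · have := h2 r r.2
    rw [Bool.eq_iff_iff, nat_blt_iff, nat_blt_iff] at this
    omega
  · obtain ⟨⟨⟨a, b⟩, c⟩, d⟩ := h3 i i.2; exact ⟨a, b, c, d⟩
  · rcases h4 i i.2 j j.2 with h | ⟨n, _, hn⟩
    · rw [nat_beq_iff.2 e] at h; exact Bool.noConfusion h
    · exact ⟨n, hn⟩
  · obtain ⟨i, hi, e⟩ := h5 k hk; exact ⟨⟨i, hi⟩, e⟩

variable (f : K →+* K) (σ : ↥(D.group K) →* ↥(D.group K))
  (hσ : ∀ (r : ℕ) (t : K), σ (xG C K r t) = xG C K (twAt D T r).1 (((twAt D T r).2.1 : K) * (f t) ^ (twAt D T r).2.2))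

/-- the root permutation of twisting data -/
noncomputable def twPerm : Equiv.Perm (Fin D.nroots) :=
  Equiv.ofBijective (fun r => (⟨(twAt D T r).1, (twAt_props hT r.2).1⟩ : Fin D.nroots))
    (Finite.injective_iff_bijective.1 fun r s e => (twShape_spec hT hs).1 r s (congrArg Fin.val e))

/-- the permutation of the simple roots -/
noncomputable def twPi : Equiv.Perm (Fin D.rank) :=
  Equiv.ofBijective (fun i => (⟨πL.getD (i : ℕ) 0, ((twShape_spec hT hs).2.2.1 i).1⟩ : Fin D.rank))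
    (Finite.injective_iff_bijective.1 fun i j e => by
      obtain ⟨_, hi, _⟩ := (twShape_spec hT hs).2.2.1 i
      obtain ⟨_, hj, _⟩ := (twShape_spec hT hs).2.2.1 j
      rw [show πL.getD (i : ℕ) 0 = πL.getD (j : ℕ) 0 from congrArg Fin.val e, ← hj] at hi
      exact (chevRel C K).sroot_injective ((twShape_spec hT hs).1 ((chevRel C K).sroot i) ((chevRel C K).sroot j) hi))

include hK hT hs hσ in
/-- the twisting endomorphism as abstract data -/
noncomputable def mkTw : Tw (chevRel C K) where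
  σ := σ
  ρ := twPerm hT hs
  f r t := ((twAt D T r).2.1 : K) * (f t) ^ (twAt D T r).2.2
  σ_xe r t := hσ r t
  pos := (twShape_spec hT hs).2.1
  negF r := Fin.ext (by
    show (twAt D T (D.neg r)).1 = D.neg (twAt D T r).1
    rw [(twAt_props hT r.2).2.2.2.2])
  f_ne r t ht := by
    obtain ⟨_, hε, _, _, _⟩ := twAt_props hT r.2
    refine mul_ne_zero ?_ (pow_ne_zero _ ((map_ne_zero f).2 ht))
    rcases hε with h | h <;> simp [h]
  f_neg r c hc := by
    obtain ⟨_, hε, he, he0, h4⟩ := twAt_props hT r.2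
    show ((twAt D T (D.neg r)).2.1 : K) * (f (-c⁻¹)) ^ (twAt D T (D.neg r)).2.2 = _
    rw [h4]
    show ((twAt D T r).2.1 : K) * (f (-c⁻¹)) ^ (twAt D T r).2.2 = -(((twAt D T r).2.1 : K) * (f c) ^ (twAt D T r).2.2)⁻¹
    rw [map_neg, map_inv₀, hK.neg_pow' he he0, inv_pow, mul_inv]
    rcases hε with h | h <;> simp [h]
  π := twPi (K := K) C hT hs
  simple i := Fin.ext ((twShape_spec hT hs).2.2.1 i).2.1

include hK hT hs hσ in
/-- a twisted subgroup generated by words of root elements -/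
noncomputable def mkTwG (S : Set (List (ℕ × K))) (hd : Desc D X)
    (hfix : ∀ w ∈ S, σ (wordG C w) = wordG C w)
    (hA : ∀ k : Fin κ, ∀ u ∈ (chevRel C K).US (posSub D X
        (fun i : Fin D.rank => (⟨orbL.getD (i : ℕ) 0, ((twShape_spec hT hs).2.2.1 i).2.2.1⟩ : Fin κ)) k),
      σ u = u → u ∈ (D.genSubgroup K S).subgroupOf (D.group K))
    (hB : ∀ k : Fin κ, ∃ u ∈ (D.genSubgroup K S).subgroupOf (D.group K), u ∈ (chevRel C K).US (negSub D X
        (fun i : Fin D.rank => (⟨orbL.getD (i : ℕ) 0, ((twShape_spec hT hs).2.2.1 i).2.2.1⟩ : Fin κ)) k) ∧ u ≠ 1) :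
    TwG (chevRel C K) where
  toTw := mkTw C hK hT hs f σ hσ
  P1 := (D.genSubgroup K S).subgroupOf (D.group K)
  κ := κ
  orb i := ⟨orbL.getD (i : ℕ) 0, ((twShape_spec hT hs).2.2.1 i).2.2.1⟩
  orb_surj k := by
    obtain ⟨i, hi⟩ := (twShape_spec hT hs).2.2.2.2 k k.2
    exact ⟨i, Fin.ext hi⟩
  orb_π i := Fin.ext ((twShape_spec hT hs).2.2.1 i).2.2.2
  orb_trans i j e := by
    obtain ⟨n, hn⟩ := (twShape_spec hT hs).2.2.2.1 i j (congrArg Fin.val e)
    refine ⟨n, Fin.ext (hn ▸ ?_)⟩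
    clear hn e
    induction n with
    | zero => rfl
    | succ n ih =>
      rw [Function.iterate_succ_apply', Function.iterate_succ_apply']
      exact congrArg (fun x => πL.getD x 0) ih
  desc := hd
  hfix g hg := by
    rw [genSubgroup_subgroupOf C] at hg
    have hle : Subgroup.closure (wordG C '' S) ≤ σ.eqLocus (MonoidHom.id _) := by
      refine (Subgroup.closure_le _).2 ?_
      rintro _ ⟨w, hw, rfl⟩
      exact hfix w hw
    exact hle hg
  hA := hA
  hB := hB

/-! ### Translations -/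

section Transfer

variable {H : Subgroup (GL D.Idx K)} (hH : H ≤ D.group K)
include hH

omit C in
theorem card_subgroupOf_group : Nat.card ↥H = Nat.card ↥(H.subgroupOf (D.group K)) :=
  (Nat.card_congr (Subgroup.subgroupOfEquivOfLe hH).toEquiv).symm

omit C in
theorem card_map_inf (S : Subgroup ↥(D.group K)) :
    Nat.card ↥(S.map (D.group K).subtype ⊓ H) = Nat.card ↥(H.subgroupOf (D.group K) ⊓ S) := by
  have e : S.map (D.group K).subtype ⊓ H = (H.subgroupOf (D.group K) ⊓ S).map (D.group K).subtype := by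
    rw [Subgroup.map_inf _ _ _ Subtype.val_injective, Subgroup.subgroupOf_map_subtype, inf_of_le_left hH, inf_comm]
  rw [e, Subgroup.card_map_of_injective Subtype.val_injective]

omit C in
theorem subgroupOf_map_inf (S : Subgroup ↥(D.group K)) :
    (S.map (D.group K).subtype ⊓ H).subgroupOf H =
      (S.subgroupOf (H.subgroupOf (D.group K))).map (Subgroup.subgroupOfEquivOfLe hH).toMonoidHom := by
  ext x
  constructor
  · rintro ⟨⟨y, hy, e⟩, -⟩
    refine ⟨⟨y, ?_⟩, hy, Subtype.ext e⟩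
    show ((y : ↥(D.group K)) : GL D.Idx K) ∈ H
    rw [show ((y : ↥(D.group K)) : GL D.Idx K) = x from e]
    exact x.2
  · rintro ⟨⟨y, hy⟩, hy', rfl⟩
    exact ⟨⟨y, hy', rfl⟩, hy⟩

omit C hH in
theorem normalCore_map_equiv {A B : Type*} [Group A] [Group B] (e : A ≃* B) {S : Subgroup A}
    (h : S.normalCore = ⊥) : (S.map e.toMonoidHom).normalCore = ⊥ := by
  refine (Subgroup.eq_bot_iff_forall _).2 fun b hb => ?_
  have h1 : e.symm b ∈ S.normalCore := by
    intro a
    obtain ⟨x, hx, ex⟩ := hb (e a)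
    have h2 : a * e.symm b * a⁻¹ = x := e.injective (by simp; exact ex.symm)
    rw [h2]; exact hx
  rw [h, Subgroup.mem_bot] at h1
  simpa using congrArg e h1

end Transfer

section Group

variable {tw : Subgroup (GL D.Idx K)} (hle : tw ≤ D.group K) (T : TwG (chevRel C K))
  (hP : T.P1 = tw.subgroupOf (D.group K))
include hle hP

theorem card_twisted : Nat.card ↥tw = Nat.card ↥T.P1 := by
  rw [hP]; exact card_subgroupOf_group hle

theorem card_twisted_unipotent :
    Nat.card ↥(D.posUnipotent K ⊓ tw) = Nat.card ↥(T.P1 ⊓ (chevRel C K).UP) := by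
  rw [posUnipotent_eq C K, card_map_inf hle, hP]

theorem card_twisted_diagonal :
    Nat.card ↥(D.diagonalSubgroup K ⊓ tw) = Nat.card ↥(T.P1 ⊓ (chevRel C K).HS) := by
  rw [diagonalSubgroup_eq C K, card_map_inf hle, hP]

theorem twisted_bnPair :
    ∃ P : Cfsg.BNPair ↥tw, P.B = (D.borelSubgroup K ⊓ tw).subgroupOf tw ∧
      P.N = (D.monomialSubgroup K ⊓ tw).subgroupOf tw := by
  have key : ∀ (S : Subgroup ↥(D.group K)) (h : T.P1 = tw.subgroupOf (D.group K)),
      (S.subgroupOf T.P1).map ((MulEquiv.subgroupCongr h).trans (Subgroup.subgroupOfEquivOfLe hle)).toMonoidHom =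
        (S.map (D.group K).subtype ⊓ tw).subgroupOf tw := by
    intro S h
    rw [subgroupOf_map_inf hle S]
    ext x
    constructor
    · rintro ⟨y, hy, rfl⟩; exact ⟨⟨y, h ▸ y.2⟩, hy, rfl⟩
    · rintro ⟨y, hy, rfl⟩; exact ⟨⟨y, h.symm ▸ y.2⟩, hy, rfl⟩
  refine ⟨mapBNPair ((MulEquiv.subgroupCongr hP).trans (Subgroup.subgroupOfEquivOfLe hle)) T.bnPair1, ?_, ?_⟩
  · rw [borelSubgroup_eq C K]; exact key _ hP
  · rw [monomialSubgroup_eq C K]; exact key _ hP

theorem twisted_core (hC : T.TorusFaithful) :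
    ((D.borelSubgroup K ⊓ tw).subgroupOf tw).normalCore = ⊥ := by
  have h1 := normalCore_map_equiv ((MulEquiv.subgroupCongr hP).trans (Subgroup.subgroupOfEquivOfLe hle))
    (T.core_eq_bot hC)
  rw [borelSubgroup_eq C K, subgroupOf_map_inf hle]
  refine Eq.trans (congrArg _ ?_) h1
  ext x
  constructor
  · rintro ⟨y, hy, rfl⟩; exact ⟨⟨y, hP.symm ▸ y.2⟩, hy, rfl⟩
  · rintro ⟨y, hy, rfl⟩; exact ⟨⟨y, hP ▸ y.2⟩, hy, rfl⟩

theorem twisted_perfect (hp : commutator T.P1 = ⊤) : commutator ↥tw = ⊤ := by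
  let e := (MulEquiv.subgroupCongr hP).trans (Subgroup.subgroupOfEquivOfLe hle)
  rw [commutator_def, ← Subgroup.map_top_of_surjective e.toMonoidHom e.surjective, ← Subgroup.map_commutator,
    ← commutator_def, hp]

theorem twisted_simple (hC : T.TorusFaithful) (hc : Rel.Connected D) (hp : commutator T.P1 = ⊤) :
    IsSimpleGroup ↥tw ∧ ¬ IsMulCommutative ↥tw := by
  let e := (MulEquiv.subgroupCongr hP).trans (Subgroup.subgroupOfEquivOfLe hle)
  obtain ⟨h1, h2⟩ := T.isSimple hC hc hp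
  have : Nontrivial ↥tw := e.toEquiv.symm.nontrivial
  refine ⟨IsSimpleGroup.isSimpleGroup_of_surjective e.toMonoidHom e.surjective, fun h => h2 ⟨⟨fun a b => ?_⟩⟩⟩
  exact e.injective (by rw [map_mul, map_mul]; exact h.is_comm.comm _ _)

/-- the monomial part maps onto the twisted Weyl group with the diagonal part as kernel -/
theorem twisted_weyl {W : Type*} [Group W] (ψ : ↥T.permW ≃* W) :
    ∃ φ : ↥(D.monomialSubgroup K ⊓ tw) →* W, Function.Surjective φ ∧
      φ.ker = (D.diagonalSubgroup K ⊓ tw).subgroupOf (D.monomialSubgroup K ⊓ tw) := by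
  have hg : ∀ x : ↥(D.monomialSubgroup K ⊓ tw), (x : GL D.Idx K) ∈ D.group K := fun x => hle x.2.2
  have hn : ∀ x : ↥(D.monomialSubgroup K ⊓ tw), (⟨x, hg x⟩ : ↥(D.group K)) ∈ (chevRel C K).NS := fun x => by
    rw [← monomial_subgroupOf C K]; exact x.2.1
  have hp : ∀ x : ↥(D.monomialSubgroup K ⊓ tw), (⟨_, hn x⟩ : ↥(chevRel C K).NS) ∈ T.NP := fun x => by
    show (⟨x, hg x⟩ : ↥(D.group K)) ∈ T.P1
    rw [hP]; exact x.2.2
  let ι : ↥(D.monomialSubgroup K ⊓ tw) →* ↥T.NP :=
    { toFun := fun x => ⟨_, hp x⟩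
      map_one' := rfl
      map_mul' := fun a b => rfl }
  refine ⟨(ψ.toMonoidHom.comp T.permHom).comp ι, ?_, ?_⟩
  · intro w
    obtain ⟨⟨⟨⟨g, hg'⟩, hn'⟩, hp'⟩, e⟩ := T.permHom_surjective (ψ.symm w)
    have h1 : g ∈ D.monomialSubgroup K := by rw [monomialSubgroup_eq C K]; exact ⟨⟨g, hg'⟩, hn', rfl⟩
    have h2 : g ∈ tw := by
      have h3 : (⟨g, hg'⟩ : ↥(D.group K)) ∈ T.P1 := hp'
      rw [hP] at h3
      exact h3
    refine ⟨⟨g, h1, h2⟩, ?_⟩
    show ψ (T.permHom _) = w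
    rw [show ι ⟨g, h1, h2⟩ = ⟨⟨⟨g, hg'⟩, hn'⟩, hp'⟩ from rfl, e, MulEquiv.apply_symm_apply]
  · ext x
    rw [MonoidHom.mem_ker, Subgroup.mem_subgroupOf, diagonalSubgroup_eq C K]
    show ψ (T.permHom (ι x)) = 1 ↔ _
    rw [EmbeddingLike.map_eq_one_iff, T.permHom_eq_one]
    constructor
    · intro h; exact ⟨⟨_, h, rfl⟩, x.2.2⟩
    · rintro ⟨⟨y, hy, e⟩, -⟩
      show (⟨x, hg x⟩ : ↥(D.group K)) ∈ (chevRel C K).HS
      rw [show (⟨x, hg x⟩ : ↥(D.group K)) = y from Subtype.ext e.symm]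
      exact hy

end Group

end CfsgLib.Lie.Chev
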