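/-
Commutation of root elements, tori and other tools for the twisted instances.
-/
import Cfsg.Agent.Lib.Lie.Twisted.Inst
import Cfsg.Agent.Lib.Lie.Twisted.Field

set_option autoImplicit false

namespace CfsgLib.Lie.Chev

open Cfsg.Lie (ChevalleyDatum)

/-- the commutator formula of two roots is empty -/
def chkNoTerms (D : ChevalleyDatum) (r s : ℕ) : Bool :=
  Nat.blt r D.nroots && Nat.blt s D.nroots && !Nat.beq s r && !Nat.beq s (D.neg r) && (D.commTerms r s).isEmpty

/-- a root is a negative root of a class -/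
def chkNegClass (D : ChevalleyDatum) (X : Aux) (orbL : List ℕ) (k r : ℕ) : Bool :=
  Nat.blt r (half D) && (List.range D.rank).all fun i => Nat.beq (orbL.getD i 0) k || decide (X.coef i r = 0)

/-- a root is a positive root different from a simple root -/
def chkRest (D : ChevalleyDatum) (i r : ℕ) : Bool := Nat.ble (half D) r && !Nat.beq r (D.simple i)

variable {D : ChevalleyDatum} {X : Aux} (C : Cert D X) {K : Type*} [Field K]

theorem xG_commute {r s : ℕ} (h : chkNoTerms D r s = true) (t u : K) : Commute (xG C K r t) (xG C K s u) := by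
  simp only [chkNoTerms, Bool.and_eq_true, nat_blt_iff, Bool.not_eq_true', List.isEmpty_iff] at h
  obtain ⟨⟨⟨⟨h1, h2⟩, h3⟩, h4⟩, h5⟩ := h
  rw [← Bool.not_eq_true, nat_beq_iff] at h3 h4
  have e : xG C K s u * xG C K r t = xG C K r t * xG C K s u *
      ((D.commWord K r s t u).map fun q => xG C K q.1 q.2).prod := (chevRel C K).xe_comm r s t u h1 h2 h3 h4
  rw [ChevalleyDatum.commWord, h5] at e
  simp only [List.map_nil, List.prod_nil, mul_one] at e
  exact e.symm

/-- the commutator formula as a swap -/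
theorem xG_swap {r s : ℕ} (hr : r < D.nroots) (hs : s < D.nroots) (h3 : s ≠ r) (h4 : s ≠ D.neg r)
    {L : List (ℕ × ℤ × ℕ × ℕ)} (hL : D.commTerms r s = L) (t u : K) :
    xG C K s u * xG C K r t = xG C K r t * xG C K s u *
      (L.map fun c => xG C K c.1 ((c.2.1 : K) * (-t) ^ c.2.2.1 * u ^ c.2.2.2)).prod := by
  have e : xG C K s u * xG C K r t = xG C K r t * xG C K s u *
      ((D.commWord K r s t u).map fun q => xG C K q.1 q.2).prod := (chevRel C K).xe_comm r s t u hr hs h3 h4
  rw [ChevalleyDatum.commWord, hL, List.map_map] at e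
  exact e

theorem xG_negClass_mem {κ : ℕ} {orb : Fin D.rank → Fin κ} {orbL : List ℕ}
    (ho : ∀ i : Fin D.rank, orbL.getD (i : ℕ) 0 = (orb i : ℕ)) {k : Fin κ} {r : ℕ}
    (h : chkNegClass D X orbL k r = true) (t : K) : xG C K r t ∈ (chevRel C K).US (negSub D X orb k) := by
  simp only [chkNegClass, Bool.and_eq_true, nat_blt_iff, List.all_eq_true, List.mem_range, Bool.or_eq_true,
    nat_beq_iff, decide_eq_true_iff] at h
  have hn := C.nroots_eq
  refine (chevRel C K).xe_mem_US (r := ⟨r, by omega⟩) (S := negSub D X orb k) ⟨not_le.2 h.1, fun i hi hik => ?_⟩ t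
  refine (h.2 i hi).resolve_left fun e => hik ⟨⟨i, hi⟩, rfl, Fin.ext ?_⟩
  rw [← ho ⟨i, hi⟩]; exact e

theorem xG_mem_rest (i : Fin D.rank) {r : ℕ} (hr : r < D.nroots) (h : chkRest D i r = true) (t : K) :
    xG C K r t ∈ (chevRel C K).US ((chevRel C K).restSet i) := by
  simp only [chkRest, Bool.and_eq_true, nat_ble_iff, Bool.not_eq_true'] at h
  refine (chevRel C K).xe_mem_US (r := ⟨r, hr⟩) (S := (chevRel C K).restSet i) ⟨h.1, fun e => ?_⟩ t
  have h2 := h.2
  rw [nat_beq_iff.2 (show r = D.simple i from congrArg Fin.val e)] at h2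
  exact Bool.noConfusion h2

theorem xG_pow_mul (r : ℕ) (a b : K) : xG C K r a * xG C K r b = xG C K r (a + b) := (chevRel C K).xe_add' r a b

theorem wordG_nil : wordG C ([] : List (ℕ × K)) = 1 := rfl

theorem wordG_cons (a : ℕ × K) (w : List (ℕ × K)) : wordG C (a :: w) = xG C K a.1 a.2 * wordG C w := by
  simp [wordG]

/-- two orthogonal roots -/
theorem ne_pair {a b : ℕ} (h1 : chkNoTerms D a b = true) (h2 : chkNoTerms D a (D.neg b) = true)
    (h3 : chkNoTerms D (D.neg a) b = true) (t s : K) :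
    (xG C K a t * xG C K b s) * (xG C K (D.neg a) (-t⁻¹) * xG C K (D.neg b) (-s⁻¹)) *
      (xG C K a t * xG C K b s) = (chevRel C K).ne a t * (chevRel C K).ne b s := by
  show _ = xG C K a t * xG C K (D.neg a) (-t⁻¹) * xG C K a t *
    (xG C K b s * xG C K (D.neg b) (-s⁻¹) * xG C K b s)
  rw [mul_assoc (xG C K a t) (xG C K b s), ← mul_assoc (xG C K b s) (xG C K (D.neg a) _),
    ← (xG_commute C h3 (-t⁻¹) s).eq]
  rw [mul_assoc (xG C K a t), mul_assoc (xG C K (D.neg a) _) (xG C K b s), mul_assoc (xG C K (D.neg a) _),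
    ← mul_assoc (xG C K b s * _) (xG C K a t),
    ← (((xG_commute C h1 t s).mul_right (xG_commute C h2 t (-s⁻¹)))).eq]
  group

/-- torus elements of two orthogonal roots -/
theorem he_pair {a b : ℕ} (h1 : chkNoTerms D a b = true) (h2 : chkNoTerms D a (D.neg b) = true)
    (h3 : chkNoTerms D (D.neg a) b = true) (h4 : chkNoTerms D (D.neg a) (D.neg b) = true) (t s : K) :
    ((chevRel C K).ne a t * (chevRel C K).ne b s) * ((chevRel C K).ne a (-1) * (chevRel C K).ne b (-1)) =
      (chevRel C K).he a t * (chevRel C K).he b s := by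
  have hc : ∀ u v : K, Commute ((chevRel C K).ne a u) ((chevRel C K).ne b v) := fun u v => by
    have e1 : ∀ u', Commute (xG C K a u') (xG C K b v * xG C K (D.neg b) (-v⁻¹) * xG C K b v) := fun u' =>
      ((xG_commute C h1 u' v).mul_right (xG_commute C h2 u' _)).mul_right (xG_commute C h1 u' v)
    have e2 : ∀ u', Commute (xG C K (D.neg a) u') (xG C K b v * xG C K (D.neg b) (-v⁻¹) * xG C K b v) := fun u' =>
      ((xG_commute C h3 u' v).mul_right (xG_commute C h4 u' _)).mul_right (xG_commute C h3 u' v)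
    exact ((e1 u).mul_left (e2 _)).mul_left (e1 u)
  show _ = (chevRel C K).ne a t * (chevRel C K).ne a (-1) * ((chevRel C K).ne b s * (chevRel C K).ne b (-1))
  rw [mul_assoc ((chevRel C K).ne a t), ← mul_assoc ((chevRel C K).ne b s), ← (hc (-1) s).eq]
  group

theorem torusHom_val (c : Fin D.rank → Kˣ) :
    (((chevRel C K).torusHom c : (chevRel C K).HS) : ↥(D.group K)) =
      ((List.finRange D.rank).map fun i : Fin D.rank => (chevRel C K).he (D.simple (i : ℕ)) (c i : K)).prod := by
  let _ := (chevRel C K).hsCommGroup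
  show (((∏ i, (chevRel C K).heHom i (c i)) : (chevRel C K).HS) : ↥(D.group K)) = _
  rw [Fin.prod_univ_def]
  refine (map_list_prod (chevRel C K).HS.subtype _).trans ?_
  rw [List.map_map]
  rfl

variable {p : ℕ} {E : List ℕ} (hK : TwField K p E) {T : List (ℕ × ℤ × ℕ)} (hT : chkTw D p E T = true)
  {πL orbL : List ℕ} {κ : ℕ} (hs : chkTwShape D T πL orbL κ = true) (f : K →+* K)
  (σ : ↥(D.group K) →* ↥(D.group K))
  (hσ : ∀ (r : ℕ) (t : K), σ (xG C K r t) = xG C K (twAt D T r).1 (((twAt D T r).2.1 : K) * (f t) ^ (twAt D T r).2.2))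

include hK hT hs hσ in
/-- action on torus elements -/
theorem σ_torusHom (hsign : ∀ i : Fin D.rank, (twAt D T (D.simple i)).2.1 = 1) (c c' : Fin D.rank → Kˣ)
    (hc : ∀ i : Fin D.rank, ∀ j : Fin D.rank, (j : ℕ) = πL.getD (i : ℕ) 0 →
      (c' j : K) = (f (c i)) ^ (twAt D T (D.simple i)).2.2) :
    σ (((chevRel C K).torusHom c : (chevRel C K).HS) : ↥(D.group K)) = (chevRel C K).torusHom c' := by
  let T0 := mkTw C hK hT hs f σ hσ
  let _ := (chevRel C K).hsCommGroup
  let σH : ↥(chevRel C K).HS →* ↥(chevRel C K).HS :=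
    { toFun := fun h => ⟨σ h, T0.σ_mem_HS h.2⟩
      map_one' := Subtype.ext (map_one σ)
      map_mul' := fun a b => Subtype.ext (map_mul σ _ _) }
  suffices e : σH ((chevRel C K).torusHom c) = (chevRel C K).torusHom c' from congrArg Subtype.val e
  show σH (∏ i, (chevRel C K).heHom i (c i)) = ∏ i, (chevRel C K).heHom i (c' i)
  rw [map_prod]
  conv_rhs => rw [← Equiv.prod_comp T0.π]
  refine Finset.prod_congr rfl fun i _ => Subtype.ext ?_
  show σ ((chevRel C K).ne (D.simple i) (c i : K) * (chevRel C K).ne (D.simple i) (-1)) =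
    (chevRel C K).ne (D.simple (T0.π i)) (c' (T0.π i) : K) * (chevRel C K).ne (D.simple (T0.π i)) (-1)
  have h1 : σ ((chevRel C K).ne (D.simple i) (c i : K)) =
      (chevRel C K).ne (D.simple (T0.π i)) (c' (T0.π i) : K) := by
    have := T0.σ_ne ((chevRel C K).sroot i) (c i).ne_zero
    rw [T0.simple] at this
    refine this.trans (congrArg ((chevRel C K).ne _) ?_)
    show ((twAt D T (D.simple i)).2.1 : K) * (f (c i : K)) ^ (twAt D T (D.simple i)).2.2 = _
    rw [hsign, Int.cast_one, one_mul, hc i (T0.π i) rfl]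
  have h2 : σ ((chevRel C K).ne (D.simple i) (-1)) = (chevRel C K).ne (D.simple (T0.π i)) (-1) := by
    have := T0.σ_ne ((chevRel C K).sroot i) (c := (-1 : K)) (by norm_num)
    rw [T0.simple] at this
    refine this.trans (congrArg ((chevRel C K).ne _) ?_)
    show ((twAt D T (D.simple i)).2.1 : K) * (f (-1 : K)) ^ (twAt D T (D.simple i)).2.2 = _
    obtain ⟨_, _, he, he0, _⟩ := twAt_props hT (C.simple_lt i.2)
    rw [hsign, Int.cast_one, one_mul, map_neg, map_one, hK.neg_pow' he he0, one_pow]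
  rw [map_mul, h1, h2]

/-- criterion for faithfulness of the torus on the orbit classes -/
theorem torusFaithful_of (T : TwG (chevRel C K))
    (h : ∀ i : Fin D.rank, ∃ t : K, t ≠ 0 ∧ ∃ v ∈ (chevRel C K).US ((chevRel C K).restSet i),
      xG C K (D.simple i) t * v ∈ (chevRel C K).US (posSub D X T.orb (T.orb i)) ∧
      xG C K (D.simple i) t * v ∈ T.P1) : T.TorusFaithful := by
  intro g hg hg1 hc
  obtain ⟨a, ha⟩ := (chevRel C K).isMon_of_mem_HS hg
  refine chevRel_injective C K ?_
  rw [map_one]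
  refine (chevRel C K).θ_eq_one_of_simple hg ha fun i => ?_
  obtain ⟨t, ht, v, hv, h1, h2⟩ := h i
  exact (chevRel C K).weight_simple_eq_one i hg ha ht hv (hc (T.orb i) _ h1 h2)

theorem xG_pos_mem {r : ℕ} (hr : half D ≤ r) (hr' : r < D.nroots) (t : K) : xG C K r t ∈ (chevRel C K).UP :=
  (chevRel C K).xe_mem_US (r := ⟨r, hr'⟩) (S := posSet D) hr t

theorem xG_neg_mem {r : ℕ} (hr : r < half D) (t : K) : xG C K r t ∈ (chevRel C K).UN := by
  have hn := C.nroots_eq
  exact (chevRel C K).xe_mem_US (r := ⟨r, by omega⟩) (S := negSet D) (not_le.2 hr) t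

/-- generation by unipotent elements -/
theorem gen_unipotent (S : Set (List (ℕ × K)))
    (h : ∀ w ∈ S, (∀ x ∈ w, half D ≤ x.1 ∧ x.1 < D.nroots) ∨ ∀ x ∈ w, x.1 < half D) :
    (D.genSubgroup K S).subgroupOf (D.group K) ≤ Subgroup.closure {g |
      g ∈ (D.genSubgroup K S).subgroupOf (D.group K) ∧ (g ∈ (chevRel C K).UP ∨ g ∈ (chevRel C K).UN)} := by
  intro g hg
  rw [genSubgroup_subgroupOf C] at hg
  refine (Subgroup.closure_le _).2 ?_ hg
  rintro _ ⟨w, hw, rfl⟩
  refine Subgroup.subset_closure ⟨wordG_mem C hw, (h w hw).imp (fun h' => ?_) fun h' => ?_⟩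
  · exact list_prod_mem fun x hx => by
      obtain ⟨y, hy, rfl⟩ := List.mem_map.1 hx
      exact xG_pos_mem C (h' y hy).1 (h' y hy).2 _
  · exact list_prod_mem fun x hx => by
      obtain ⟨y, hy, rfl⟩ := List.mem_map.1 hx
      exact xG_neg_mem C (h' y hy) _

end CfsgLib.Lie.Chev
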