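/-
Fixed elements of orbit classes consisting of one, two or three commuting roots.
-/
import Cfsg.Agent.Lib.Lie.Twisted.Tools

set_option autoImplicit false

namespace CfsgLib.Lie.Chev

open Cfsg.Lie (ChevalleyDatum)

variable {D : ChevalleyDatum} {X : Aux} (C : Cert D X) {K : Type*} [Field K]

/-- nontriviality of a root element -/
theorem xG_ne_one {r : ℕ} (hr : r < D.nroots) : xG C K r (1 : K) ≠ 1 := fun e =>
  one_ne_zero ((chevRel C K).xe_inj_param (r := ⟨r, hr⟩) (t := (1 : K)) (t' := 0)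
    (e.trans ((chevRel C K).xe_zero r).symm))

/-- membership of a root element in a root subgroup -/
theorem xG_mem_US {S : Set (Fin D.nroots)} (r : Fin D.nroots) (hr : r ∈ S) {b : ℕ} (e : (r : ℕ) = b) (t : K) :
    xG C K b t ∈ (chevRel C K).US S := by
  subst e
  exact (chevRel C K).xe_mem_US hr t

theorem noTerms_ne {r s : ℕ} (h : chkNoTerms D r s = true) : s ≠ r := fun e => by
  simp only [chkNoTerms, Bool.and_eq_true, Bool.not_eq_true'] at h
  have h2 := h.1.1.2
  rw [nat_beq_iff.2 e] at h2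
  exact Bool.noConfusion h2

/-- nontriviality of a negative simple root element times others -/
theorem xG_neg_ne_one (i : Fin D.rank) {a : ℕ} (ha : D.neg (D.simple i) = a) {S : Set (Fin D.nroots)}
    (hS : ∀ r ∈ S, ¬ half D ≤ ((chevRel C K).wperm i r : ℕ)) {g : ↥(D.group K)}
    (hg : g ∈ (chevRel C K).US S) : xG C K a 1 * g ≠ 1 := by
  subst ha
  exact (chevRel C K).xe_neg_mul_ne_one i (c := (1 : K)) one_ne_zero hS hg

theorem wperm_neg (i : Fin D.rank) {b : ℕ} (hb : b < D.nroots) (hw : X.w i b < half D) :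
    ¬ half D ≤ ((chevRel C K).wperm i ⟨b, hb⟩ : ℕ) := by
  rw [(chevRel C K).wperm_apply]
  exact not_le.2 hw

/-- nontriviality of a product of two negative root elements -/
theorem xG_pair_ne_one (i : Fin D.rank) {a b : ℕ} (ha : D.neg (D.simple i) = a) (hb : b < D.nroots)
    (hw : X.w i b < half D) (s : K) : xG C K a 1 * xG C K b s ≠ 1 := by
  have hg : xG C K b s ∈ (chevRel C K).US ({⟨b, hb⟩} : Set (Fin D.nroots)) :=
    xG_mem_US C ⟨b, hb⟩ (Set.mem_singleton _) rfl s
  have hS : ∀ r ∈ ({⟨b, hb⟩} : Set (Fin D.nroots)), ¬ half D ≤ ((chevRel C K).wperm i r : ℕ) := by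
    intro r hr
    obtain rfl := Set.mem_singleton_iff.1 hr
    exact wperm_neg C i hb hw
  exact xG_neg_ne_one C i ha hS hg

/-- nontriviality of a product of three negative root elements -/
theorem xG_triple_ne_one (i : Fin D.rank) {a b c : ℕ} (ha : D.neg (D.simple i) = a) (hb : b < D.nroots)
    (hc : c < D.nroots) (hwb : X.w i b < half D) (hwc : X.w i c < half D) (s u : K) :
    xG C K a 1 * (xG C K b s * xG C K c u) ≠ 1 := by
  have hg : xG C K b s * xG C K c u ∈ (chevRel C K).US ({⟨b, hb⟩, ⟨c, hc⟩} : Set (Fin D.nroots)) :=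
    mul_mem (xG_mem_US C ⟨b, hb⟩ (Set.mem_insert _ _) rfl s)
      (xG_mem_US C ⟨c, hc⟩ (Set.mem_insert_of_mem _ (Set.mem_singleton _)) rfl u)
  have hS : ∀ r ∈ ({⟨b, hb⟩, ⟨c, hc⟩} : Set (Fin D.nroots)), ¬ half D ≤ ((chevRel C K).wperm i r : ℕ) := by
    intro r hr
    rcases hr with rfl | rfl
    · exact wperm_neg C i hb hwb
    · exact wperm_neg C i hc hwc
  exact xG_neg_ne_one C i ha hS hg

variable {κ : ℕ} {orb : Fin D.rank → Fin κ} {orbL : List ℕ}
  (ho : ∀ i : Fin D.rank, orbL.getD (i : ℕ) 0 = (orb i : ℕ)) (k : Fin κ)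
include C ho

theorem classList_lt {r : ℕ} (hr : r ∈ classList D X orbL k) : half D ≤ r ∧ r < D.nroots := by
  rw [classList, List.mem_filter, List.mem_range'_1] at hr
  have := C.nroots_eq
  omega

theorem xG_class_mem {r : ℕ} (hr : r ∈ classList D X orbL k) (t : K) :
    xG C K r t ∈ (chevRel C K).US (posSub D X orb k) := by
  obtain ⟨h1, h2⟩ := classList_lt C ho k hr
  rw [classList, List.mem_filter] at hr
  refine (chevRel C K).xe_mem_US (r := ⟨r, h2⟩) (S := posSub D X orb k) ⟨h1, fun i hi hik => ?_⟩ t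
  have h := List.all_eq_true.1 hr.2 i (List.mem_range.2 hi)
  rw [Bool.or_eq_true, nat_beq_iff, decide_eq_true_iff] at h
  exact h.resolve_left fun e => hik ⟨⟨i, hi⟩, rfl, Fin.ext ((ho ⟨i, hi⟩).symm.trans e)⟩

omit C in
theorem class_ncard (C : Cert D X) : (posSub D X orb k).ncard = (classList D X orbL k).length := by
  classical
  have hnd : (classList D X orbL k).Nodup := List.Nodup.filter _ List.nodup_range'
  rw [← List.toFinset_card_of_nodup hnd, ← Set.ncard_coe_finset,
    ← Set.ncard_image_of_injective _ Fin.val_injective]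
  congr 1
  ext x
  simp only [classList, List.coe_toFinset, Set.mem_ofPred_eq, List.mem_filter, List.mem_range'_1, Set.mem_image,
    List.all_eq_true, List.mem_range, Bool.or_eq_true, nat_beq_iff, decide_eq_true_iff]
  have hn := C.nroots_eq
  constructor
  · rintro ⟨r, ⟨h1, h2⟩, rfl⟩
    refine ⟨⟨h1, by have := r.2; omega⟩, fun i hi => ?_⟩
    by_cases hik : orb ⟨i, hi⟩ = k
    · exact Or.inl ((ho ⟨i, hi⟩).trans (congrArg Fin.val hik))
    · exact Or.inr (h2 i hi fun ⟨j, hj, e⟩ => hik (by rw [← e]; exact congrArg orb (Fin.ext hj.symm)))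
  · rintro ⟨⟨h1, h2⟩, h3⟩
    exact ⟨⟨x, by omega⟩, ⟨h1, fun i hi hik => (h3 i hi).resolve_left fun e =>
      hik ⟨⟨i, hi⟩, rfl, Fin.ext ((ho ⟨i, hi⟩).symm.trans e)⟩⟩, rfl⟩

variable {σ : ↥(D.group K) →* ↥(D.group K)} {w : List ℕ} (hw : chkOrbWord D X orbL k w = true)

section Single

variable {r : ℕ} (hl : classList D X orbL k = [r]) {φ : K → K} (hσ : ∀ t, σ (xG C K r t) = xG C K r (φ t))
include hw hl hσ

theorem single_fixed [Finite K] {u : ↥(D.group K)} (hu : u ∈ (chevRel C K).US (posSub D X orb k))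
    (hfix : σ u = u) : ∃ t : K, φ t = t ∧ u = xG C K r t := by
  obtain ⟨t, rfl⟩ := (chevRel C K).exists_class_prod orb k ho hw hu
  rw [hl] at hfix ⊢
  simp only [List.map_cons, List.map_nil, List.prod_cons, List.prod_nil, mul_one] at hfix ⊢
  refine ⟨t r, ?_, rfl⟩
  have h : σ (xG C K r (t r)) = xG C K r (t r) := hfix
  rw [hσ] at h
  exact (chevRel C K).class_prod_inj (X := X) (orbL := orbL) (k := k) (t := fun _ => φ (t r)) (t' := t)
    (by rw [hl]; simp only [List.map_cons, List.map_nil, List.prod_cons, List.prod_nil, mul_one]; exact h) r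
    (by rw [hl]; exact List.mem_cons_self)

theorem single_card [Finite K] (P : Subgroup ↥(D.group K)) (hfixP : ∀ g ∈ P, σ g = g)
    (hP : ∀ t, φ t = t → xG C K r t ∈ P) :
    Nat.card ↥(P ⊓ (chevRel C K).US (posSub D X orb k)) = Nat.card {t : K // φ t = t} := by
  have hr : r ∈ classList D X orbL k := by rw [hl]; exact List.mem_cons_self
  refine (Nat.card_eq_of_bijective (fun t => (⟨xG C K r t.1, Subgroup.mem_inf.2 ⟨hP _ t.2,
    xG_class_mem C ho k hr _⟩⟩ : ↥(P ⊓ (chevRel C K).US (posSub D X orb k)))) ⟨fun s t e => ?_, fun u => ?_⟩).symm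
  · exact Subtype.ext ((chevRel C K).xe_inj_param (r := ⟨r, (classList_lt C ho k hr).2⟩) (congrArg Subtype.val e))
  · obtain ⟨t, ht, e⟩ := single_fixed C ho k hw hl hσ (Subgroup.mem_inf.1 u.2).2
      (hfixP _ (Subgroup.mem_inf.1 u.2).1)
    exact ⟨⟨t, ht⟩, Subtype.ext e.symm⟩

end Single

section Pair

variable {a b : ℕ} (hl : classList D X orbL k = [b, a]) (hab : a ≠ b) (hc : chkNoTerms D a b = true) {φ ψ : K → K}
  (hσa : ∀ t, σ (xG C K a t) = xG C K b (φ t)) (hσb : ∀ t, σ (xG C K b t) = xG C K a (ψ t))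
include hw hl hab hc hσa hσb

theorem pair_fixed [Finite K] {u : ↥(D.group K)} (hu : u ∈ (chevRel C K).US (posSub D X orb k))
    (hfix : σ u = u) : ∃ t : K, ψ (φ t) = t ∧ u = xG C K a t * xG C K b (φ t) := by
  obtain ⟨t, rfl⟩ := (chevRel C K).exists_class_prod orb k ho hw hu
  rw [hl] at hfix ⊢
  simp only [List.map_cons, List.map_nil, List.prod_cons, List.prod_nil, mul_one] at hfix ⊢
  have h : σ (xG C K b (t b) * xG C K a (t a)) = xG C K b (t b) * xG C K a (t a) := hfix
  rw [map_mul, hσa, hσb, (xG_commute C hc _ _).eq] at h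
  have h2 := (chevRel C K).class_prod_inj (X := X) (orbL := orbL) (k := k)
    (t := fun r => if r = b then φ (t a) else ψ (t b)) (t' := t)
    (by rw [hl]; simp only [List.map_cons, List.map_nil, List.prod_cons, List.prod_nil, mul_one, if_neg hab, if_true]
        exact h)
  have hb : φ (t a) = t b := by simpa using h2 b (by rw [hl]; simp)
  have ha : ψ (t b) = t a := by simpa [hab] using h2 a (by rw [hl]; simp)
  refine ⟨t a, by rw [hb, ha], ?_⟩
  rw [hb]
  exact (xG_commute C hc (t a) (t b)).symm.eq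

theorem pair_card [Finite K] (P : Subgroup ↥(D.group K)) (hfixP : ∀ g ∈ P, σ g = g)
    (hP : ∀ t, ψ (φ t) = t → xG C K a t * xG C K b (φ t) ∈ P) :
    Nat.card ↥(P ⊓ (chevRel C K).US (posSub D X orb k)) = Nat.card {t : K // ψ (φ t) = t} := by
  have hra : a ∈ classList D X orbL k := by rw [hl]; simp
  have hrb : b ∈ classList D X orbL k := by rw [hl]; simp
  have hmem : ∀ t : {t : K // ψ (φ t) = t},
      xG C K a t.1 * xG C K b (φ t.1) ∈ P ⊓ (chevRel C K).US (posSub D X orb k) := fun t =>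
    Subgroup.mem_inf.2 ⟨hP _ t.2, mul_mem (xG_class_mem C ho k hra _) (xG_class_mem C ho k hrb _)⟩
  have hinj : ∀ s t : K, xG C K a s * xG C K b (φ s) = xG C K a t * xG C K b (φ t) → s = t := by
    intro s t h
    rw [(xG_commute C hc s _).eq, (xG_commute C hc t _).eq] at h
    have := (chevRel C K).class_prod_inj (X := X) (orbL := orbL) (k := k)
      (t := fun r => if r = b then φ s else s) (t' := fun r => if r = b then φ t else t)
      (by rw [hl]; simp only [List.map_cons, List.map_nil, List.prod_cons, List.prod_nil, mul_one, if_neg hab,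
            if_true]
          exact h) a hra
    rwa [if_neg hab, if_neg hab] at this
  symm
  refine Nat.card_eq_of_bijective
    (fun t => (⟨_, hmem t⟩ : ↥(P ⊓ (chevRel C K).US (posSub D X orb k)))) ⟨?_, ?_⟩
  · intro s t e
    exact Subtype.ext (hinj _ _ (congrArg Subtype.val e))
  · intro u
    obtain ⟨t, ht, e⟩ := pair_fixed C ho k hw hl hab hc hσa hσb (Subgroup.mem_inf.1 u.2).2
      (hfixP _ (Subgroup.mem_inf.1 u.2).1)
    exact ⟨⟨t, ht⟩, Subtype.ext e.symm⟩

end Pair

section Triple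

variable {a b c : ℕ} {l : List ℕ} (hl : classList D X orbL k = l) (hperm : l.Perm [a, b, c])
  (hab : chkNoTerms D a b = true) (hac : chkNoTerms D a c = true) (hbc : chkNoTerms D b c = true) {φ ψ χ : K → K}
  (hσa : ∀ t, σ (xG C K a t) = xG C K b (φ t)) (hσb : ∀ t, σ (xG C K b t) = xG C K c (ψ t))
  (hσc : ∀ t, σ (xG C K c t) = xG C K a (χ t))
include hl hperm hab hac hbc

theorem triple_prod (t : ℕ → K) : ((classList D X orbL k).map fun r => xG C K r (t r)).prod =
    xG C K a (t a) * (xG C K b (t b) * xG C K c (t c)) := by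
  have key : ((l.map fun r => xG C K r (t r))).prod = ([a, b, c].map fun r => xG C K r (t r)).prod := by
    refine List.Perm.prod_eq' (List.Perm.map _ hperm) ?_
    rw [List.pairwise_map]
    have hp : [a, b, c].Pairwise fun x y => Commute (xG C K x (t x)) (xG C K y (t y)) := by
      simp [xG_commute C hab, xG_commute C hac, xG_commute C hbc]
    exact List.Pairwise.perm hp hperm.symm (fun h => h.symm)
  rw [hl, key]
  simp

include hw hσa hσb hσc

theorem triple_fixed [Finite K] {u : ↥(D.group K)} (hu : u ∈ (chevRel C K).US (posSub D X orb k))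
    (hfix : σ u = u) :
    ∃ t : K, χ (ψ (φ t)) = t ∧ u = xG C K a t * (xG C K b (φ t) * xG C K c (ψ (φ t))) := by
  obtain ⟨t, rfl⟩ := (chevRel C K).exists_class_prod orb k ho hw hu
  have e0 := triple_prod C ho k hl hperm hab hac hbc (K := K) t
  have h : σ (((classList D X orbL k).map fun r => xG C K r (t r)).prod) =
      ((classList D X orbL k).map fun r => xG C K r (t r)).prod := hfix
  have hne : b ≠ a ∧ c ≠ a ∧ c ≠ b := ⟨noTerms_ne hab, noTerms_ne hac, noTerms_ne hbc⟩
  have e1 := triple_prod C ho k hl hperm hab hac hbc (K := K)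
    (fun r => if r = a then χ (t c) else if r = b then φ (t a) else ψ (t b))
  simp only [if_true, if_neg hne.1, if_neg hne.2.1, if_neg hne.2.2] at e1
  rw [e0, map_mul, map_mul, hσa, hσb, hσc, ← mul_assoc,
    (((xG_commute C hab (χ (t c)) (φ (t a))).symm.mul_left (xG_commute C hac (χ (t c)) (ψ (t b))).symm)).eq,
    ← e1, ← e0] at h
  have h2 := (chevRel C K).class_prod_inj (X := X) (orbL := orbL) (k := k) h
  have hmem : ∀ r ∈ [a, b, c], r ∈ classList D X orbL k := fun r hr => by rw [hl]; exact hperm.mem_iff.2 hr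
  have ha : χ (t c) = t a := by simpa using h2 a (hmem a (by simp))
  have hb : φ (t a) = t b := by simpa [hne.1] using h2 b (hmem b (by simp))
  have hc' : ψ (t b) = t c := by simpa [hne.2.1, hne.2.2] using h2 c (hmem c (by simp))
  refine ⟨t a, by rw [hb, hc', ha], ?_⟩
  rw [hb, hc']
  exact e0

theorem triple_card [Finite K] (P : Subgroup ↥(D.group K)) (hfixP : ∀ g ∈ P, σ g = g)
    (hP : ∀ t, χ (ψ (φ t)) = t → xG C K a t * (xG C K b (φ t) * xG C K c (ψ (φ t))) ∈ P) :
    Nat.card ↥(P ⊓ (chevRel C K).US (posSub D X orb k)) = Nat.card {t : K // χ (ψ (φ t)) = t} := by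
  have hmem0 : ∀ r ∈ [a, b, c], r ∈ classList D X orbL k := fun r hr => by rw [hl]; exact hperm.mem_iff.2 hr
  have ha : a ∈ classList D X orbL k := hmem0 a List.mem_cons_self
  have hb : b ∈ classList D X orbL k := hmem0 b (List.mem_cons_of_mem _ List.mem_cons_self)
  have hc' : c ∈ classList D X orbL k :=
    hmem0 c (List.mem_cons_of_mem _ (List.mem_cons_of_mem _ List.mem_cons_self))
  have hmem : ∀ t : {t : K // χ (ψ (φ t)) = t},
      xG C K a t.1 * (xG C K b (φ t.1) * xG C K c (ψ (φ t.1))) ∈ P ⊓ (chevRel C K).US (posSub D X orb k) := fun t =>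
    Subgroup.mem_inf.2 ⟨hP _ t.2, mul_mem (xG_class_mem C ho k ha _)
      (mul_mem (xG_class_mem C ho k hb _) (xG_class_mem C ho k hc' _))⟩
  have hne : b ≠ a ∧ c ≠ a ∧ c ≠ b := ⟨noTerms_ne hab, noTerms_ne hac, noTerms_ne hbc⟩
  have hinj : ∀ s t : K, xG C K a s * (xG C K b (φ s) * xG C K c (ψ (φ s))) =
      xG C K a t * (xG C K b (φ t) * xG C K c (ψ (φ t))) → s = t := by
    intro s t h
    have es := triple_prod C ho k hl hperm hab hac hbc (K := K)
      (fun r => if r = a then s else if r = b then φ s else ψ (φ s))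
    have et := triple_prod C ho k hl hperm hab hac hbc (K := K)
      (fun r => if r = a then t else if r = b then φ t else ψ (φ t))
    simp only [if_true, if_neg hne.1, if_neg hne.2.1, if_neg hne.2.2] at es et
    have h2 := (chevRel C K).class_prod_inj (X := X) (orbL := orbL) (k := k) (es.trans (h.trans et.symm)) a ha
    rwa [if_pos rfl, if_pos rfl] at h2
  symm
  refine Nat.card_eq_of_bijective
    (fun t => (⟨_, hmem t⟩ : ↥(P ⊓ (chevRel C K).US (posSub D X orb k)))) ⟨?_, ?_⟩
  · intro s t e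
    exact Subtype.ext (hinj _ _ (congrArg Subtype.val e))
  · intro u
    obtain ⟨t, ht, e⟩ := triple_fixed C ho k hw hl hperm hab hac hbc hσa hσb hσc (Subgroup.mem_inf.1 u.2).2
      (hfixP _ (Subgroup.mem_inf.1 u.2).1)
    exact ⟨⟨t, ht⟩, Subtype.ext e.symm⟩

end Triple

end CfsgLib.Lie.Chev
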