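/-
Identification of twisted Weyl groups with finite Coxeter and dihedral groups.
-/
import Cfsg.Agent.Lib.Lie.Twisted.WeylEnum
import Cfsg.Agent.Lib.Lie.Rel.WeylData

set_option autoImplicit false

namespace CfsgLib.Lie.Chev

open Cfsg.Lie (ChevalleyDatum)

/-- the product of two words has a power equal to the identity -/
def chkRelW (D : ChevalleyDatum) (X : Aux) (w : List ℕ) (m : ℕ) : Bool :=
  (List.range D.nroots).all fun s => Nat.beq (wordPow X w m s) s

theorem wordAct_append (X : Aux) : ∀ (a b : List ℕ) (s : ℕ), wordAct X (a ++ b) s = wordAct X a (wordAct X b s)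
  | [], _, _ => rfl
  | i :: a, b, s => by simp only [List.cons_append, wordAct, wordAct_append X a b s]

namespace TwG

variable {D : ChevalleyDatum} {X : Aux} {F : Type*} [Field F] {G : Type*} [Group G] {R : Rel D X F G} (T : TwG R)
include T

/-- the `k`-th generator of the twisted Weyl group -/
noncomputable def wgen (k : Fin T.κ) : T.permW :=
  ⟨R.nsPerm (T.nJ k), T.mem_permW.2 ⟨T.nJ k, T.nJ_mem k, rfl⟩⟩

theorem closure_wgen : Subgroup.closure (Set.range T.wgen) = ⊤ := by
  refine (Subgroup.map_injective T.permW.subtype_injective) ?_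
  rw [MonoidHom.map_closure, ← Set.range_comp, ← MonoidHom.range_eq_map, Subgroup.range_subtype]
  exact T.permW_eq_closure.symm

theorem wgen_sq (k : Fin T.κ) : T.wgen k * T.wgen k = 1 := by
  refine Subtype.ext ?_
  show R.nsPerm (T.nJ k) * R.nsPerm (T.nJ k) = 1
  rw [← map_mul, R.nsPerm_of_mem_HS _ (T.nJ_sq k)]

variable {orbL : List ℕ} {ws : List (List ℕ)}
  (ho : T.OrbList orbL) (hlen : ws.length = T.κ) (hw : chkOrbWords D X orbL ws = true)
include ho hlen hw

theorem wgen_pair_pow (i j : Fin T.κ) {m : ℕ}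
    (h : chkRelW D X (ws.getD (i : ℕ) [] ++ ws.getD (j : ℕ) []) m = true) : (T.wgen i * T.wgen j) ^ m = 1 := by
  simp only [chkRelW, List.all_eq_true, List.mem_range, nat_beq_iff] at h
  have key : ∀ (n : ℕ) (s : Fin D.nroots), ((((T.wgen i * T.wgen j) ^ n : T.permW) : Equiv.Perm (Fin D.nroots)) s : ℕ) =
      wordPow X (ws.getD (i : ℕ) [] ++ ws.getD (j : ℕ) []) n s := by
    intro n
    induction n with
    | zero => intro s; rw [pow_zero]; rfl
    | succ n ih =>
      intro s
      rw [pow_succ', wordPow, wordAct_append, Subgroup.coe_mul, Equiv.Perm.mul_apply, Subgroup.coe_mul,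
        Equiv.Perm.mul_apply]
      show (R.nsPerm (T.nJ i) _ : ℕ) = _
      rw [T.nJ_apply ho hlen hw]
      refine congrArg _ ?_
      show (R.nsPerm (T.nJ j) _ : ℕ) = _
      rw [T.nJ_apply ho hlen hw, ih]
  refine Subtype.ext (Equiv.ext fun s => Fin.ext ?_)
  rw [key]
  exact h s s.2

/-- the twisted Weyl group is the Coxeter group of a matrix with the same relations and order -/
theorem exists_coxeter_iso (M : CoxeterMatrix (Fin T.κ))
    (hM : ∀ i j : Fin T.κ, chkRelW D X (ws.getD (i : ℕ) [] ++ ws.getD (j : ℕ) []) (M i j) = true)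
    {N : ℕ} (hN : 0 < N) (h1 : Nat.card M.Group = N) (h2 : Nat.card ↥T.permW = N) :
    Nonempty (↥T.permW ≃* M.Group) := by
  have hlift : CoxeterMatrix.IsLiftable M T.wgen := fun i j => T.wgen_pair_pow ho hlen hw i j (hM i j)
  let φ : M.Group →* T.permW := M.toCoxeterSystem.lift ⟨T.wgen, hlift⟩
  have hsurj : Function.Surjective φ := by
    rw [← MonoidHom.range_eq_top, ← top_le_iff, ← T.closure_wgen, Subgroup.closure_le]
    rintro _ ⟨k, rfl⟩
    exact ⟨M.toCoxeterSystem.simple k, M.toCoxeterSystem.lift_apply_simple hlift k⟩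
  have : Finite M.Group := Nat.finite_of_card_ne_zero (h1 ▸ hN.ne')
  exact ⟨(MulEquiv.ofBijective φ (hsurj.bijective_of_nat_card_le (h1.trans h2.symm).le)).symm⟩

end TwG

end CfsgLib.Lie.Chev
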