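/-
The triality twisted groups of type D4.
-/
import Cfsg.Agent.Lib.Lie.Twisted.Classes
import Cfsg.Agent.Lib.Lie.Twisted.WeylTables
import Cfsg.Agent.Lib.Lie.Twisted.WeylIso
import Cfsg.Agent.Lib.Lie.Rel.TwistTables
import Cfsg.Agent.Lib.Lie.Rel.OrderData

set_option autoImplicit false

namespace CfsgLib.Lie.Chev.TwGroups

open Cfsg.Lie

/-- the action on the simple roots -/
def piD4 : List ℕ := [2, 1, 3, 0]

theorem shapeD4 : chkTwShape chevD4 twTD4 piD4 orbLD4 2 = true := by decide +kernel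

theorem descD4 : Desc chevD4 auxD4 := desc_of_chk (by decide +kernel)

theorem connD4 : Rel.Connected chevD4 := connected_of_chk (by decide +kernel)

theorem twAtD4 :
    (twAt chevD4 twTD4 18 = (13, 1, 1) ∧ twAt chevD4 twTD4 13 = (12, 1, 1) ∧ twAt chevD4 twTD4 12 = (18, 1, 1) ∧
      twAt chevD4 twTD4 14 = (14, 1, 1)) ∧
    (twAt chevD4 twTD4 5 = (10, 1, 1) ∧ twAt chevD4 twTD4 10 = (11, 1, 1) ∧ twAt chevD4 twTD4 11 = (5, 1, 1) ∧
      twAt chevD4 twTD4 9 = (9, 1, 1)) := by decide +kernel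

theorem signD4 : ∀ i : Fin chevD4.rank, (twAt chevD4 twTD4 (chevD4.simple i)).2 = (1, 1) := by decide +kernel

theorem classD4 : classList chevD4 auxD4 orbLD4 0 = [12, 13, 18] ∧ classList chevD4 auxD4 orbLD4 1 = [14] := by
  decide +kernel

theorem wordD4 : ∀ k : Fin 2, chkOrbWord chevD4 auxD4 orbLD4 k (wordsTD4.getD k []) = true := by decide +kernel

theorem commD4 :
    (chkNoTerms chevD4 18 13 = true ∧ chkNoTerms chevD4 18 12 = true ∧ chkNoTerms chevD4 13 12 = true) ∧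
    (chkNoTerms chevD4 5 10 = true ∧ chkNoTerms chevD4 5 11 = true ∧ chkNoTerms chevD4 10 11 = true) ∧
    (chkNoTerms chevD4 18 10 = true ∧ chkNoTerms chevD4 5 13 = true) ∧
    (chkNoTerms chevD4 18 11 = true ∧ chkNoTerms chevD4 5 12 = true) ∧
    (chkNoTerms chevD4 13 11 = true ∧ chkNoTerms chevD4 10 12 = true) := by decide +kernel

theorem negD4 :
    (chevD4.neg 18 = 5 ∧ chevD4.neg 13 = 10 ∧ chevD4.neg 12 = 11 ∧ chevD4.neg 14 = 9) ∧
    (chkNegClass chevD4 auxD4 orbLD4 0 5 = true ∧ chkNegClass chevD4 auxD4 orbLD4 0 10 = true ∧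
      chkNegClass chevD4 auxD4 orbLD4 0 11 = true ∧ chkNegClass chevD4 auxD4 orbLD4 1 9 = true) ∧
    (auxD4.w 0 10 < half chevD4 ∧ auxD4.w 0 11 < half chevD4) ∧
    (5 < chevD4.nroots ∧ 9 < chevD4.nroots ∧ 10 < chevD4.nroots ∧ 11 < chevD4.nroots) ∧
    (chevD4.simple 0 = 18 ∧ chevD4.simple 1 = 14 ∧ chevD4.simple 2 = 13 ∧ chevD4.simple 3 = 12) ∧
    (chkRest chevD4 0 13 = true ∧ chkRest chevD4 0 12 = true ∧ chkRest chevD4 2 12 = true ∧
      chkRest chevD4 2 18 = true ∧ chkRest chevD4 3 18 = true ∧ chkRest chevD4 3 13 = true) := by decide +kernel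

variable {K : Type*} [Field K] [Fintype K] {q : ℕ} (hq : IsPrimePow q) (hK : Fintype.card K = q ^ 3)

theorem three_pos' : 0 < 3 := Nat.succ_pos 2

/-- the `q`-th power endomorphism -/
noncomputable def frD4 : K →+* K := (exists_powHom hq three_pos' hK).choose

theorem frD4_apply (x : K) : frD4 hq hK x = x ^ q := (exists_powHom hq three_pos' hK).choose_spec x

include hK in
theorem pow_qqq (t : K) : ((t ^ q) ^ q) ^ q = t := by
  rw [← pow_mul, ← pow_mul, show q * (q * q) = q ^ 3 by ring]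
  exact pow_q_card hK t

include hq hK in
theorem neg_pow_D4 (t : K) : (-t) ^ q = -(t ^ q) := by
  rw [← frD4_apply hq hK, ← frD4_apply hq hK, map_neg]

/-- the twisting endomorphism -/
noncomputable def σD4 : ↥(chevD4.group K) →* ↥(chevD4.group K) :=
  (twEnd certD4 (twField_one K) twOkD4 twPerD4 witD4 connD4).comp (powEnd (frD4 hq hK))

theorem σD4_gen (r : ℕ) (t : K) : σD4 hq hK (xG certD4 K r t) =
    xG certD4 K (twAt chevD4 twTD4 r).1
      (((twAt chevD4 twTD4 r).2.1 : K) * (frD4 hq hK t) ^ (twAt chevD4 twTD4 r).2.2) := by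
  rw [σD4, MonoidHom.comp_apply, powEnd_gen, twEnd_gen]
  rfl

theorem σD4_simple {r r' : ℕ} (h : twAt chevD4 twTD4 r = (r', 1, 1)) (t : K) :
    σD4 hq hK (xG certD4 K r t) = xG certD4 K r' (t ^ q) := by
  rw [σD4_gen, h, frD4_apply]
  simp

theorem σD4_signed {r r' : ℕ} (h : twAt chevD4 twTD4 r = (r', -1, 1)) (t : K) :
    σD4 hq hK (xG certD4 K r t) = xG certD4 K r' (-(t ^ q)) := by
  rw [σD4_gen, h, frD4_apply]
  simp

/-- the orbit map -/
def orbD4 (i : Fin chevD4.rank) : Fin 2 :=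
  ⟨orbLD4.getD (i : ℕ) 0, ((twShape_spec twOkD4 shapeD4).2.2.1 i).2.2.1⟩

theorem orbD4_ho (i : Fin chevD4.rank) : orbLD4.getD (i : ℕ) 0 = (orbD4 i : ℕ) := rfl

theorem wordD4_single_mem {r : ℕ} (hr : r ∈ [d4p2, d4m2]) {t : K} (ht : t ^ q = t) :
    xG certD4 K r t ∈ (twistedD4 K q).subgroupOf (chevD4.group K) := by
  have h : wordG certD4 [(r, t)] ∈ (twistedD4 K q).subgroupOf (chevD4.group K) :=
    wordG_mem certD4 (Or.inl ⟨t, ht, r, hr, rfl⟩)
  simpa only [wordG_cons, wordG_nil, mul_one] using h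

theorem wordD4_triple_mem {a b c : ℕ} (h : (a, b, c) ∈ [(d4p1, d4p3, d4p4), (d4m1, d4m3, d4m4)]) (t : K) :
    xG certD4 K a t * (xG certD4 K b (t ^ q) * xG certD4 K c ((t ^ q) ^ q)) ∈
      (twistedD4 K q).subgroupOf (chevD4.group K) := by
  rw [← pow_mul t q q, ← sq]
  have h' : wordG certD4 [(a, t), (b, t ^ q), (c, t ^ (q ^ 2))] ∈ (twistedD4 K q).subgroupOf (chevD4.group K) :=
    wordG_mem certD4 (Or.inr ⟨t, (a, b, c), h, rfl⟩)
  simpa only [wordG_cons, wordG_nil, mul_one] using h'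

theorem fixD4 (w : List (ℕ × K)) (hw : w ∈ d4Words K q) : σD4 hq hK (wordG certD4 w) = wordG certD4 w := by
  obtain ⟨⟨a1, a2, a3, a4⟩, ⟨b1, b2, b3, b4⟩⟩ := twAtD4
  obtain ⟨⟨c1, c2, c3⟩, ⟨e1, e2, e3⟩, -, -, -⟩ := commD4
  have key : ∀ a b c : ℕ, twAt chevD4 twTD4 a = (b, 1, 1) → twAt chevD4 twTD4 b = (c, 1, 1) →
      twAt chevD4 twTD4 c = (a, 1, 1) → chkNoTerms chevD4 a b = true → chkNoTerms chevD4 a c = true →
      ∀ t : K, σD4 hq hK (wordG certD4 [(a, t), (b, t ^ q), (c, t ^ (q ^ 2))]) =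
        wordG certD4 [(a, t), (b, t ^ q), (c, t ^ (q ^ 2))] := by
    intro a b c h1 h2 h3 hab hac t
    simp only [wordG_cons, wordG_nil, mul_one, map_mul]
    rw [σD4_simple hq hK h1, σD4_simple hq hK h2, σD4_simple hq hK h3, sq, pow_mul, pow_qqq hK, ← mul_assoc,
      ((xG_commute certD4 hab t (t ^ q)).symm.mul_left (xG_commute certD4 hac t ((t ^ q) ^ q)).symm).eq]
  rcases hw with ⟨t, ht, r, hr, rfl⟩ | ⟨t, rs, hrs, rfl⟩
  · simp only [wordG_cons, wordG_nil, mul_one]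
    simp only [List.mem_cons, List.not_mem_nil, or_false, d4p2, d4m2] at hr
    rcases hr with rfl | rfl
    · rw [σD4_simple hq hK a4, ht]
    · rw [σD4_simple hq hK b4, ht]
  · simp only [List.mem_cons, List.not_mem_nil, or_false, d4p1, d4p3, d4p4, d4m1, d4m3, d4m4] at hrs
    rcases hrs with rfl | rfl
    · exact key 18 13 12 a1 a2 a3 c1 c2 t
    · exact key 5 10 11 b1 b2 b3 e1 e2 t

theorem permD4 : [12, 13, 18].Perm [18, 13, 12] := by decide

theorem hAD4 (k : Fin 2) (u : ↥(chevD4.group K)) (hu : u ∈ (chevRel certD4 K).US (posSub chevD4 auxD4 orbD4 k))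
    (hσ : σD4 hq hK u = u) : u ∈ (twistedD4 K q).subgroupOf (chevD4.group K) := by
  obtain ⟨⟨a1, a2, a3, a4⟩, -⟩ := twAtD4
  obtain ⟨l0, l1⟩ := classD4
  obtain ⟨⟨c1, c2, c3⟩, -⟩ := commD4
  fin_cases k
  · obtain ⟨t, -, rfl⟩ := triple_fixed certD4 orbD4_ho 0 (wordD4 0) l0 permD4 c1 c2 c3 (σD4_simple hq hK a1)
      (σD4_simple hq hK a2) (σD4_simple hq hK a3) hu hσ
    exact wordD4_triple_mem (by decide) t
  · obtain ⟨t, ht, rfl⟩ := single_fixed certD4 orbD4_ho 1 (wordD4 1) l1 (σD4_simple hq hK a4) hu hσ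
    exact wordD4_single_mem (by decide) ht

include hq in
theorem hBD4 (k : Fin 2) : ∃ u ∈ (twistedD4 K q).subgroupOf (chevD4.group K),
    u ∈ (chevRel certD4 K).US (negSub chevD4 auxD4 orbD4 k) ∧ u ≠ 1 := by
  obtain ⟨⟨n18, -, -, -⟩, ⟨k5, k10, k11, k9⟩, ⟨w10, w11⟩, ⟨g5, g9, g10, g11⟩, ⟨s0, -, -, -⟩, -⟩ := negD4
  fin_cases k
  · exact ⟨_, wordD4_triple_mem (a := 5) (b := 10) (c := 11) (by decide) 1,
      mul_mem (xG_negClass_mem certD4 orbD4_ho (k := 0) k5 _) (mul_mem (xG_negClass_mem certD4 orbD4_ho (k := 0) k10 _)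
        (xG_negClass_mem certD4 orbD4_ho (k := 0) k11 _)),
      xG_triple_ne_one certD4 ⟨0, by decide +kernel⟩ (a := 5)
        ((congrArg chevD4.neg s0).trans n18) g10 g11 w10 w11 _ _⟩
  · exact ⟨_, wordD4_single_mem (r := 9) (by decide) (one_pow q), xG_negClass_mem certD4 orbD4_ho (k := 1) k9 _,
      xG_ne_one certD4 g9⟩

/-- the triality twisted group as data -/
noncomputable def twD4 : TwG (chevRel certD4 K) :=
  mkTwG certD4 (twField_one K) twOkD4 shapeD4 (frD4 hq hK) (σD4 hq hK) (σD4_gen hq hK) (d4Words K q) descD4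
    (fixD4 hq hK) (hAD4 hq hK) (hBD4 hq)

theorem twD4_P1 : (twD4 hq hK).P1 = (twistedD4 K q).subgroupOf (chevD4.group K) := rfl

omit [Fintype K] in
theorem twD4_le : twistedD4 K q ≤ chevD4.group K := genSubgroup_le certD4 _

theorem classCardD4 : (twD4 hq hK).ClassCard q 1 := by
  obtain ⟨⟨a1, a2, a3, a4⟩, -⟩ := twAtD4
  obtain ⟨l0, l1⟩ := classD4
  obtain ⟨⟨c1, c2, c3⟩, -⟩ := commD4
  have hf := (twD4 hq hK).hfix
  intro k
  change Fin 2 at k
  fin_cases k
  · refine ⟨3, (class_ncard orbD4_ho 0 certD4).trans (by simp [l0]), ?_⟩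
    refine (triple_card certD4 orbD4_ho 0 (wordD4 0) l0 permD4 c1 c2 c3 (σD4_simple hq hK a1)
      (σD4_simple hq hK a2) (σD4_simple hq hK a3) (twD4 hq hK).P1 hf
      fun t _ => wordD4_triple_mem (by decide) t).trans ?_
    rw [Nat.card_congr (Equiv.subtypeUnivEquiv fun t => pow_qqq hK t), Nat.card_eq_fintype_card, hK]
  · refine ⟨1, (class_ncard orbD4_ho 1 certD4).trans (by simp [l1]), ?_⟩
    exact (single_card certD4 orbD4_ho 1 (wordD4 1) l1 (σD4_simple hq hK a4) (twD4 hq hK).P1 hf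
      fun t ht => wordD4_single_mem (by decide) ht).trans ((card_fixed hq.one_lt three_pos' hK).trans (pow_one q).symm)

theorem orbListD4 : (twD4 hq hK).OrbList orbLD4 := fun _ => rfl

theorem faithfulD4 : (twD4 hq hK).TorusFaithful := by
  obtain ⟨-, -, -, -, ⟨s0, s1, s2, s3⟩, ⟨r0, r0', r2, r2', r3, r3'⟩⟩ := negD4
  obtain ⟨l0, l1⟩ := classD4
  obtain ⟨⟨c1, c2, c3⟩, -⟩ := commD4
  obtain ⟨o0, o1, o2, o3⟩ : orbLD4.getD 0 0 = 0 ∧ orbLD4.getD 1 0 = 1 ∧ orbLD4.getD 2 0 = 0 ∧ orbLD4.getD 3 0 = 0 := by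
    decide
  refine torusFaithful_of certD4 (twD4 hq hK) fun i => ⟨1, one_ne_zero, ?_⟩
  have hmem : xG certD4 K 18 (1 : K) * (xG certD4 K 13 1 * xG certD4 K 12 1) ∈
      (twistedD4 K q).subgroupOf (chevD4.group K) := by
    simpa only [one_pow, d4p1, d4p3, d4p4] using
      wordD4_triple_mem (K := K) (q := q) (a := d4p1) (b := d4p3) (c := d4p4) (by decide) 1
  have triple : ∀ a b c : ℕ, chevD4.simple i = a → classList chevD4 auxD4 orbLD4 (orbD4 i) = [12, 13, 18] →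
      [12, 13, 18].Perm [a, b, c] → chkRest chevD4 i b = true → chkRest chevD4 i c = true →
      xG certD4 K a (1 : K) * (xG certD4 K b 1 * xG certD4 K c 1) =
        xG certD4 K 18 1 * (xG certD4 K 13 1 * xG certD4 K 12 1) →
      ∃ v ∈ (chevRel certD4 K).US ((chevRel certD4 K).restSet i),
        xG certD4 K (chevD4.simple i) 1 * v ∈ (chevRel certD4 K).US (posSub chevD4 auxD4 orbD4 (orbD4 i)) ∧
        xG certD4 K (chevD4.simple i) 1 * v ∈ (twistedD4 K q).subgroupOf (chevD4.group K) := by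
    intro a b c ha hl hp hb hc e
    have hm : ∀ r ∈ [a, b, c], r ∈ classList chevD4 auxD4 orbLD4 (orbD4 i) := fun r hr => by
      rw [hl]; exact hp.mem_iff.2 hr
    have hbm := hm b (List.mem_cons_of_mem _ List.mem_cons_self)
    have hcm := hm c (List.mem_cons_of_mem _ (List.mem_cons_of_mem _ List.mem_cons_self))
    refine ⟨xG certD4 K b 1 * xG certD4 K c 1,
      mul_mem (xG_mem_rest certD4 i (classList_lt certD4 orbD4_ho _ hbm).2 hb 1)
        (xG_mem_rest certD4 i (classList_lt certD4 orbD4_ho _ hcm).2 hc 1), ?_, ?_⟩ <;> rw [ha]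
    · exact mul_mem (xG_class_mem certD4 orbD4_ho _ (hm a List.mem_cons_self) 1)
        (mul_mem (xG_class_mem certD4 orbD4_ho _ hbm 1) (xG_class_mem certD4 orbD4_ho _ hcm 1))
    · rw [e]; exact hmem
  have h18 := xG_commute certD4 (K := K) c1 1 1
  have h1812 := xG_commute certD4 (K := K) c2 1 1
  have h1312 := xG_commute certD4 (K := K) c3 1 1
  obtain ⟨i, hi⟩ := i
  have hi4 : i < 4 := hi
  have ho := orbD4_ho ⟨i, hi⟩
  interval_cases i
  · exact triple 18 13 12 s0 (by rw [← ho, o0, l0]) (by decide) r0 r0' rfl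
  · have hm1 : 14 ∈ classList chevD4 auxD4 orbLD4 (orbD4 ⟨1, hi⟩) := by
      rw [← ho, o1, l1]; exact List.mem_cons_self
    refine ⟨1, one_mem _, ?_, ?_⟩ <;> rw [mul_one, s1]
    · exact xG_class_mem certD4 orbD4_ho _ hm1 1
    · exact wordD4_single_mem (by decide) (one_pow q)
  · exact triple 13 12 18 s2 (by rw [← ho, o2, l0]) (by decide) r2 r2' (by
      rw [← mul_assoc, ((h18.mul_right h1812)).eq])
  · exact triple 12 18 13 s3 (by rw [← ho, o3, l0]) (by decide) r3 r3' (by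
      rw [((h1812.symm.mul_right h1312.symm)).eq, mul_assoc])

theorem relsD4 : ∀ i j : Fin 2,
    chkRelW chevD4 auxD4 (wordsTD4.getD (i : ℕ) [] ++ wordsTD4.getD (j : ℕ) []) (CoxeterMatrix.G₂.M i j) = true := by
  decide +kernel

theorem weylD4 : Nonempty (↥(twD4 hq hK).permW ≃* CoxeterMatrix.G₂.Group) :=
  (twD4 hq hK).exists_coxeter_iso (orbListD4 hq hK) rfl wordsTD4_ok CoxeterMatrix.G₂ relsD4 (N := 12)
    (by norm_num)
    (card_coxeter certG2 CoxeterMatrix.G₂ coxG2 cmat_G2 (by decide +kernel))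
    ((twD4 hq hK).card_permW (orbListD4 hq hK) rfl wordsTD4_ok enumTD4_ok (by decide +kernel))

theorem card_D4_enum : (Nat.card ↥(twistedD4 K q) : ℤ) = (q : ℤ) ^ 12 *
    (Nat.card ↥((twD4 hq hK).P1 ⊓ (chevRel certD4 K).HS) : ℤ) * horner (q : ℤ) (layerPoly layersTD4) := by
  have := (chevRel certD4 K).Finite_of_field
  rw [card_twisted certD4 twD4_le (twD4 hq hK) (twD4_P1 hq hK)]
  exact (twD4 hq hK).card_P1_enum (orbListD4 hq hK) rfl wordsTD4_ok enumTD4_ok one_pos (classCardD4 hq hK)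
    (show half chevD4 = 1 * 12 by decide +kernel)

end CfsgLib.Lie.Chev.TwGroups
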