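/-
The twisted groups of type E6.
-/
import Cfsg.Agent.Lib.Lie.Twisted.Classes
import Cfsg.Agent.Lib.Lie.Twisted.WeylTables
import Cfsg.Agent.Lib.Lie.Rel.TwistTables
import Cfsg.Agent.Lib.Lie.Rel.OrderData

set_option autoImplicit false

namespace CfsgLib.Lie.Chev.TwGroups

open Cfsg.Lie

/-- the action on the simple roots -/
def piE6 : List ℕ := [5, 1, 4, 3, 2, 0]

theorem shapeE6 : chkTwShape chevE6 twTE6 piE6 orbLE6 4 = true := by decide +kernel

theorem descE6 : Desc chevE6 auxE6 := desc_of_chk (by decide +kernel)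

theorem connE6 : Rel.Connected chevE6 := connected_of_chk (by decide +kernel)

theorem twAtE6 :
    (twAt chevE6 twTE6 56 = (36, 1, 1) ∧ twAt chevE6 twTE6 36 = (56, 1, 1) ∧ twAt chevE6 twTE6 42 = (37, 1, 1) ∧
      twAt chevE6 twTE6 37 = (42, 1, 1) ∧ twAt chevE6 twTE6 46 = (46, 1, 1) ∧ twAt chevE6 twTE6 39 = (39, 1, 1)) ∧
    (twAt chevE6 twTE6 15 = (35, 1, 1) ∧ twAt chevE6 twTE6 35 = (15, 1, 1) ∧ twAt chevE6 twTE6 29 = (34, 1, 1) ∧
      twAt chevE6 twTE6 34 = (29, 1, 1) ∧ twAt chevE6 twTE6 25 = (25, 1, 1) ∧ twAt chevE6 twTE6 32 = (32, 1, 1)) := by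
  decide +kernel

theorem signE6 : ∀ i : Fin chevE6.rank, (twAt chevE6 twTE6 (chevE6.simple i)).2 = (1, 1) := by decide +kernel

theorem classE6 : classList chevE6 auxE6 orbLE6 0 = [46] ∧ classList chevE6 auxE6 orbLE6 1 = [39] ∧
    classList chevE6 auxE6 orbLE6 2 = [37, 42] ∧ classList chevE6 auxE6 orbLE6 3 = [36, 56] := by decide +kernel

theorem wordE6 : ∀ k : Fin 4, chkOrbWord chevE6 auxE6 orbLE6 k (wordsTE6.getD k []) = true := by decide +kernel

theorem commE6 :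
    (chkNoTerms chevE6 56 36 = true ∧ chkNoTerms chevE6 42 37 = true) ∧
    (chkNoTerms chevE6 15 35 = true ∧ chkNoTerms chevE6 29 34 = true) ∧
    (chkNoTerms chevE6 56 (chevE6.neg 36) = true ∧ chkNoTerms chevE6 (chevE6.neg 56) 36 = true) ∧
    (chkNoTerms chevE6 42 (chevE6.neg 37) = true ∧ chkNoTerms chevE6 (chevE6.neg 42) 37 = true) := by
  decide +kernel

variable {K : Type*} [Field K] [Fintype K] {q : ℕ} (hq : IsPrimePow q) (hK : Fintype.card K = q ^ 2)

/-- the `q`-th power endomorphism -/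
noncomputable def frE6 : K →+* K := (exists_powHom hq two_pos hK).choose

theorem frE6_apply (x : K) : frE6 hq hK x = x ^ q := (exists_powHom hq two_pos hK).choose_spec x

/-- the twisting endomorphism -/
noncomputable def σE6 : ↥(chevE6.group K) →* ↥(chevE6.group K) :=
  (twEnd certE6 (twField_one K) twOkE6 twPerE6 witE6 connE6).comp (powEnd (frE6 hq hK))

theorem σE6_gen (r : ℕ) (t : K) : σE6 hq hK (xG certE6 K r t) =
    xG certE6 K (twAt chevE6 twTE6 r).1
      (((twAt chevE6 twTE6 r).2.1 : K) * (frE6 hq hK t) ^ (twAt chevE6 twTE6 r).2.2) := by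
  rw [σE6, MonoidHom.comp_apply, powEnd_gen, twEnd_gen]
  rfl

theorem σE6_simple {r r' : ℕ} (h : twAt chevE6 twTE6 r = (r', 1, 1)) (t : K) :
    σE6 hq hK (xG certE6 K r t) = xG certE6 K r' (t ^ q) := by
  rw [σE6_gen, h, frE6_apply]
  simp

include hK in
theorem pow_qq (t : K) : (t ^ q) ^ q = t := by
  rw [← pow_mul, ← sq]; exact pow_q_card hK t

theorem fixE6 (w : List (ℕ × K)) (hw : w ∈ e6Words K q) : σE6 hq hK (wordG certE6 w) = wordG certE6 w := by
  rcases hw with ⟨t, ht, r, hr, rfl⟩ | ⟨t, rs, hrs, rfl⟩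
  · simp only [wordG_cons, wordG_nil, mul_one]
    obtain ⟨⟨_, _, _, _, a1, a2⟩, ⟨_, _, _, _, a3, a4⟩⟩ := twAtE6
    simp only [List.mem_cons, List.not_mem_nil, or_false, e6p2, e6m2, e6p4, e6m4] at hr
    rcases hr with rfl | rfl | rfl | rfl
    · rw [σE6_simple hq hK a1, ht]
    · rw [σE6_simple hq hK a3, ht]
    · rw [σE6_simple hq hK a2, ht]
    · rw [σE6_simple hq hK a4, ht]
  · simp only [wordG_cons, wordG_nil, mul_one, map_mul]
    obtain ⟨⟨a1, a2, a3, a4, _, _⟩, ⟨b1, b2, b3, b4, _, _⟩⟩ := twAtE6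
    simp only [List.mem_cons, List.not_mem_nil, or_false, e6p1, e6p3, e6p5, e6p6, e6m1, e6m3, e6m5, e6m6] at hrs
    obtain ⟨⟨c1, c2⟩, ⟨c3, c4⟩, -, -⟩ := commE6
    rcases hrs with rfl | rfl | rfl | rfl
    · rw [σE6_simple hq hK a1, σE6_simple hq hK a2, pow_qq hK]
      exact (xG_commute certE6 c1 _ _).symm.eq
    · rw [σE6_simple hq hK b1, σE6_simple hq hK b2, pow_qq hK]
      exact (xG_commute certE6 c3 _ _).symm.eq
    · rw [σE6_simple hq hK a3, σE6_simple hq hK a4, pow_qq hK]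
      exact (xG_commute certE6 c2 _ _).symm.eq
    · rw [σE6_simple hq hK b3, σE6_simple hq hK b4, pow_qq hK]
      exact (xG_commute certE6 c4 _ _).symm.eq

/-- the orbit map -/
def orbE6 (i : Fin chevE6.rank) : Fin 4 :=
  ⟨orbLE6.getD (i : ℕ) 0, ((twShape_spec twOkE6 shapeE6).2.2.1 i).2.2.1⟩

theorem orbE6_ho (i : Fin chevE6.rank) : orbLE6.getD (i : ℕ) 0 = (orbE6 i : ℕ) := rfl

theorem wordG_one_eq (r : ℕ) (t : K) : wordG certE6 [(r, t)] = xG certE6 K r t := by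
  simp only [wordG_cons, wordG_nil, mul_one]

theorem wordG_two_eq (a b : ℕ) (t u : K) : wordG certE6 [(a, t), (b, u)] = xG certE6 K a t * xG certE6 K b u := by
  simp only [wordG_cons, wordG_nil, mul_one]

theorem wordE6_single_mem {r : ℕ} (hr : r ∈ [e6p2, e6m2, e6p4, e6m4]) {t : K} (ht : t ^ q = t) :
    xG certE6 K r t ∈ (twistedE6 K q).subgroupOf (chevE6.group K) := by
  rw [← wordG_one_eq]
  exact wordG_mem certE6 (Or.inl ⟨t, ht, r, hr, rfl⟩)

theorem wordE6_pair_mem {a b : ℕ} (h : (a, b) ∈ [(e6p1, e6p6), (e6m1, e6m6), (e6p3, e6p5), (e6m3, e6m5)]) (t : K) :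
    xG certE6 K a t * xG certE6 K b (t ^ q) ∈ (twistedE6 K q).subgroupOf (chevE6.group K) := by
  rw [← wordG_two_eq]
  exact wordG_mem certE6 (Or.inr ⟨t, (a, b), h, rfl⟩)

theorem hAE6 (k : Fin 4) (u : ↥(chevE6.group K)) (hu : u ∈ (chevRel certE6 K).US (posSub chevE6 auxE6 orbE6 k))
    (hσ : σE6 hq hK u = u) : u ∈ (twistedE6 K q).subgroupOf (chevE6.group K) := by
  obtain ⟨⟨a1, a2, a3, a4, a5, a6⟩, -⟩ := twAtE6
  obtain ⟨l0, l1, l2, l3⟩ := classE6
  fin_cases k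
  · obtain ⟨t, ht, rfl⟩ :=
      single_fixed certE6 orbE6_ho 0 (wordE6 0) l0 (σE6_simple hq hK a5) hu hσ
    exact wordE6_single_mem (by decide) ht
  · obtain ⟨t, ht, rfl⟩ :=
      single_fixed certE6 orbE6_ho 1 (wordE6 1) l1 (σE6_simple hq hK a6) hu hσ
    exact wordE6_single_mem (by decide) ht
  · obtain ⟨t, ht, rfl⟩ := pair_fixed certE6 orbE6_ho 2 (wordE6 2) l2 (by decide) commE6.1.2
      (σE6_simple hq hK a3) (σE6_simple hq hK a4) hu hσ
    exact wordE6_pair_mem (by decide) t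
  · obtain ⟨t, ht, rfl⟩ := pair_fixed certE6 orbE6_ho 3 (wordE6 3) l3 (by decide) commE6.1.1
      (σE6_simple hq hK a1) (σE6_simple hq hK a2) hu hσ
    exact wordE6_pair_mem (by decide) t

theorem negE6 :
    (chkNegClass chevE6 auxE6 orbLE6 0 25 = true ∧ chkNegClass chevE6 auxE6 orbLE6 1 32 = true) ∧
    (chkNegClass chevE6 auxE6 orbLE6 2 29 = true ∧ chkNegClass chevE6 auxE6 orbLE6 2 34 = true) ∧
    (chkNegClass chevE6 auxE6 orbLE6 3 15 = true ∧ chkNegClass chevE6 auxE6 orbLE6 3 35 = true) ∧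
    (auxE6.w 0 35 < half chevE6 ∧ auxE6.w 2 34 < half chevE6) ∧
    (chevE6.neg (chevE6.simple 0) = 15 ∧ chevE6.neg (chevE6.simple 2) = 29) := by decide +kernel

theorem ltE6 : 25 < chevE6.nroots ∧ 32 < chevE6.nroots ∧ 34 < chevE6.nroots ∧ 35 < chevE6.nroots := by
  decide +kernel

include hq in
theorem hBE6 (k : Fin 4) : ∃ u ∈ (twistedE6 K q).subgroupOf (chevE6.group K),
    u ∈ (chevRel certE6 K).US (negSub chevE6 auxE6 orbE6 k) ∧ u ≠ 1 := by
  obtain ⟨⟨n0, n1⟩, ⟨n2, n2'⟩, ⟨n3, n3'⟩, ⟨w3, w2⟩, ⟨e0, e2⟩⟩ := negE6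
  obtain ⟨g0, g1, g2, g3⟩ := ltE6
  fin_cases k
  · exact ⟨_, wordE6_single_mem (r := 25) (by decide) (one_pow q), xG_negClass_mem certE6 orbE6_ho (k := 0) n0 _,
      xG_ne_one certE6 g0⟩
  · exact ⟨_, wordE6_single_mem (r := 32) (by decide) (one_pow q), xG_negClass_mem certE6 orbE6_ho (k := 1) n1 _,
      xG_ne_one certE6 g1⟩
  · exact ⟨_, wordE6_pair_mem (a := 29) (b := 34) (by decide) 1,
      mul_mem (xG_negClass_mem certE6 orbE6_ho (k := 2) n2 _) (xG_negClass_mem certE6 orbE6_ho (k := 2) n2' _),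
      xG_pair_ne_one certE6 ⟨2, by decide +kernel⟩ e2 g2 w2 _⟩
  · exact ⟨_, wordE6_pair_mem (a := 15) (b := 35) (by decide) 1,
      mul_mem (xG_negClass_mem certE6 orbE6_ho (k := 3) n3 _) (xG_negClass_mem certE6 orbE6_ho (k := 3) n3' _),
      xG_pair_ne_one certE6 ⟨0, by decide +kernel⟩ e0 g3 w3 _⟩

/-- the twisted group of type E6 as data -/
noncomputable def twE6 : TwG (chevRel certE6 K) :=
  mkTwG certE6 (twField_one K) twOkE6 shapeE6 (frE6 hq hK) (σE6 hq hK) (σE6_gen hq hK) (e6Words K q) descE6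
    (fixE6 hq hK) (hAE6 hq hK) (hBE6 hq)

theorem twE6_P1 : (twE6 hq hK).P1 = (twistedE6 K q).subgroupOf (chevE6.group K) := rfl

theorem twE6_le : twistedE6 K q ≤ chevE6.group K := genSubgroup_le certE6 _

theorem classCardE6 : (twE6 hq hK).ClassCard q 1 := by
  obtain ⟨⟨a1, a2, a3, a4, a5, a6⟩, -⟩ := twAtE6
  obtain ⟨l0, l1, l2, l3⟩ := classE6
  have hf := (twE6 hq hK).hfix
  have hall : Nat.card {t : K // (t ^ q) ^ q = t} = q ^ 2 := by
    rw [Nat.card_congr (Equiv.subtypeUnivEquiv fun t => pow_qq hK t), Nat.card_eq_fintype_card, hK]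
  intro k
  change Fin 4 at k
  fin_cases k
  · refine ⟨1, (class_ncard orbE6_ho 0 certE6).trans (by simp [l0]), ?_⟩
    refine (single_card certE6 orbE6_ho 0 (wordE6 0) l0 (σE6_simple hq hK a5) (twE6 hq hK).P1 hf
      fun t ht => wordE6_single_mem (by decide) ht).trans ((card_fixed hq.one_lt two_pos hK).trans (pow_one q).symm)
  · refine ⟨1, (class_ncard orbE6_ho 1 certE6).trans (by simp [l1]), ?_⟩
    refine (single_card certE6 orbE6_ho 1 (wordE6 1) l1 (σE6_simple hq hK a6) (twE6 hq hK).P1 hf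
      fun t ht => wordE6_single_mem (by decide) ht).trans ((card_fixed hq.one_lt two_pos hK).trans (pow_one q).symm)
  · refine ⟨2, (class_ncard orbE6_ho 2 certE6).trans (by simp [l2]), ?_⟩
    exact (pair_card certE6 orbE6_ho 2 (wordE6 2) l2 (by decide) commE6.1.2
      (σE6_simple hq hK a3) (σE6_simple hq hK a4) (twE6 hq hK).P1 hf
      fun t _ => wordE6_pair_mem (by decide) t).trans hall
  · refine ⟨2, (class_ncard orbE6_ho 3 certE6).trans (by simp [l3]), ?_⟩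
    exact (pair_card certE6 orbE6_ho 3 (wordE6 3) l3 (by decide) commE6.1.1
      (σE6_simple hq hK a1) (σE6_simple hq hK a2) (twE6 hq hK).P1 hf
      fun t _ => wordE6_pair_mem (by decide) t).trans hall

theorem restE6 : chkRest chevE6 0 36 = true ∧ chkRest chevE6 2 37 = true ∧ chkRest chevE6 4 42 = true ∧
    chkRest chevE6 5 56 = true := by decide +kernel

theorem simpleE6 : ((chevE6.simple 0 = 56 ∧ chevE6.simple 1 = 46 ∧ chevE6.simple 2 = 42) ∧
    (chevE6.simple 3 = 39 ∧ chevE6.simple 4 = 37 ∧ chevE6.simple 5 = 36)) ∧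
    orbLE6.getD 0 0 = 3 ∧ orbLE6.getD 1 0 = 0 ∧ orbLE6.getD 2 0 = 2 ∧ orbLE6.getD 3 0 = 1 ∧
    orbLE6.getD 4 0 = 2 ∧ orbLE6.getD 5 0 = 3 := by decide +kernel

theorem faithfulE6 : (twE6 hq hK).TorusFaithful := by
  obtain ⟨r0, r2, r4, r5⟩ := restE6
  obtain ⟨l0, l1, l2, l3⟩ := classE6
  obtain ⟨⟨⟨s0, s1, s2⟩, ⟨s3, s4, s5⟩⟩, o0, o1, o2, o3, o4, o5⟩ := simpleE6
  refine torusFaithful_of certE6 (twE6 hq hK) fun i => ⟨1, one_ne_zero, ?_⟩
  have single : ∀ r : ℕ, chevE6.simple i = r → classList chevE6 auxE6 orbLE6 (orbE6 i) = [r] →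
      r ∈ [e6p2, e6m2, e6p4, e6m4] →
      ∃ v ∈ (chevRel certE6 K).US ((chevRel certE6 K).restSet i),
        xG certE6 K (chevE6.simple i) 1 * v ∈ (chevRel certE6 K).US (posSub chevE6 auxE6 orbE6 (orbE6 i)) ∧
        xG certE6 K (chevE6.simple i) 1 * v ∈ (twistedE6 K q).subgroupOf (chevE6.group K) := by
    intro r hr hl hr'
    refine ⟨1, one_mem _, ?_, ?_⟩ <;> rw [mul_one, hr]
    · exact xG_class_mem certE6 orbE6_ho _ (by rw [hl]; exact List.mem_cons_self) 1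
    · exact wordE6_single_mem hr' (one_pow q)
  have pair : ∀ a b : ℕ, chevE6.simple i = a → a ∈ classList chevE6 auxE6 orbLE6 (orbE6 i) →
      b ∈ classList chevE6 auxE6 orbLE6 (orbE6 i) → chkRest chevE6 i b = true → chkNoTerms chevE6 a b = true →
      ((a, b) ∈ [(e6p1, e6p6), (e6m1, e6m6), (e6p3, e6p5), (e6m3, e6m5)] ∨
        (b, a) ∈ [(e6p1, e6p6), (e6m1, e6m6), (e6p3, e6p5), (e6m3, e6m5)]) →
      ∃ v ∈ (chevRel certE6 K).US ((chevRel certE6 K).restSet i),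
        xG certE6 K (chevE6.simple i) 1 * v ∈ (chevRel certE6 K).US (posSub chevE6 auxE6 orbE6 (orbE6 i)) ∧
        xG certE6 K (chevE6.simple i) 1 * v ∈ (twistedE6 K q).subgroupOf (chevE6.group K) := by
    intro a b ha hla hlb hrb hc hab
    refine ⟨xG certE6 K b 1, xG_mem_rest certE6 i (classList_lt certE6 orbE6_ho _ hlb).2 hrb 1, ?_, ?_⟩ <;> rw [ha]
    · exact mul_mem (xG_class_mem certE6 orbE6_ho _ hla 1) (xG_class_mem certE6 orbE6_ho _ hlb 1)
    · rcases hab with h | h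
      · simpa only [one_pow] using wordE6_pair_mem (K := K) (q := q) h 1
      · rw [(xG_commute certE6 hc _ _).eq]
        simpa only [one_pow] using wordE6_pair_mem (K := K) (q := q) h 1
  obtain ⟨i, hi⟩ := i
  have hi6 : i < 6 := hi
  have ho := orbE6_ho ⟨i, hi⟩
  interval_cases i
  · exact pair 56 36 s0 (by rw [← ho, o0, l3]; decide) (by rw [← ho, o0, l3]; decide) r0 commE6.1.1
      (Or.inl (by decide))
  · exact single 46 s1 (by rw [← ho, o1, l0]) (by decide)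
  · exact pair 42 37 s2 (by rw [← ho, o2, l2]; decide) (by rw [← ho, o2, l2]; decide) r2 commE6.1.2
      (Or.inl (by decide))
  · exact single 39 s3 (by rw [← ho, o3, l1]) (by decide)
  · exact pair 37 42 s4 (by rw [← ho, o4, l2]; decide) (by rw [← ho, o4, l2]; decide) r4 (by decide +kernel)
      (Or.inr (by decide))
  · exact pair 36 56 s5 (by rw [← ho, o5, l3]; decide) (by rw [← ho, o5, l3]; decide) r5 (by decide +kernel)
      (Or.inr (by decide))

theorem orbListE6 : (twE6 hq hK).OrbList orbLE6 := fun _ => rfl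

/-- the order as a polynomial expression -/
theorem card_E6_enum : (Nat.card ↥(twistedE6 K q) : ℤ) = (q : ℤ) ^ 36 *
    (Nat.card ↥((twE6 hq hK).P1 ⊓ (chevRel certE6 K).HS) : ℤ) * horner (q : ℤ) (layerPoly layersTE6) := by
  have := (chevRel certE6 K).Finite_of_field
  rw [card_twisted certE6 twE6_le (twE6 hq hK) (twE6_P1 hq hK)]
  exact (twE6 hq hK).card_P1_enum (orbListE6 hq hK) rfl wordsTE6_ok enumTE6_ok one_pos (classCardE6 hq hK)
    (show half chevE6 = 1 * 36 by decide +kernel)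

end CfsgLib.Lie.Chev.TwGroups
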