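/-
The twisted groups of type F4 in characteristic two.
-/
import Cfsg.Agent.Lib.Lie.Twisted.Classes
import Cfsg.Agent.Lib.Lie.Twisted.WeylTables
import Cfsg.Agent.Lib.Lie.Twisted.WeylIso
import Cfsg.Agent.Lib.Lie.Rel.TwistTables
import Cfsg.Agent.Lib.Lie.Rel.OrderData

set_option autoImplicit false

namespace CfsgLib.Lie.Chev.TwGroups

open Cfsg.Lie

/-- the action on the simple roots -/
def piF4 : List ℕ := [3, 2, 1, 0]

theorem shapeF4 : chkTwShape chevF4 twTF4 piF4 orbLF4 2 = true := by decide +kernel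

theorem descF4 : Desc chevF4 auxF4 := desc_of_chk (by decide +kernel)

theorem connF4 : Rel.Connected chevF4 := connected_of_chk (by decide +kernel)

theorem twAtF4 :
    (twAt chevF4 twTF4 33 = (24, 1, 2) ∧ twAt chevF4 twTF4 24 = (33, 1, 1) ∧
      twAt chevF4 twTF4 14 = (23, 1, 2) ∧ twAt chevF4 twTF4 23 = (14, 1, 1)) ∧
    (twAt chevF4 twTF4 27 = (25, 1, 2) ∧ twAt chevF4 twTF4 25 = (27, 1, 1) ∧
      twAt chevF4 twTF4 28 = (30, 1, 2) ∧ twAt chevF4 twTF4 30 = (28, 1, 1)) ∧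
    (twAt chevF4 twTF4 20 = (22, 1, 2) ∧ twAt chevF4 twTF4 22 = (20, 1, 1) ∧
      twAt chevF4 twTF4 19 = (17, 1, 2) ∧ twAt chevF4 twTF4 17 = (19, 1, 1)) := by decide +kernel

theorem classF4 : classList chevF4 auxF4 orbLF4 0 = [24, 33] ∧ classList chevF4 auxF4 orbLF4 1 = [25, 27, 28, 30] := by
  decide +kernel

theorem wordF4 : ∀ k : Fin 2, chkOrbWord chevF4 auxF4 orbLF4 k (wordsTF4.getD k []) = true := by decide +kernel

theorem commF4 :
    (chkNoTerms chevF4 33 24 = true ∧ chkNoTerms chevF4 14 23 = true ∧ chkNoTerms chevF4 33 23 = true ∧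
      chkNoTerms chevF4 14 24 = true) ∧
    (chkNoTerms chevF4 25 28 = true ∧ chkNoTerms chevF4 25 30 = true ∧ chkNoTerms chevF4 27 30 = true ∧
      chkNoTerms chevF4 28 30 = true) ∧
    (chkNoTerms chevF4 22 19 = true ∧ chkNoTerms chevF4 22 17 = true ∧ chkNoTerms chevF4 20 17 = true ∧
      chkNoTerms chevF4 19 17 = true) := by decide +kernel

theorem termsF4 :
    chevF4.commTerms 27 25 = [(28, -1, 1, 1), (30, -1, 2, 1)] ∧
    chevF4.commTerms 20 22 = [(19, 1, 1, 1), (17, -1, 2, 1)] ∧ chevF4.commTerms 27 28 = [(30, 2, 1, 1)] ∧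
    (25 ≠ 27 ∧ 25 ≠ chevF4.neg 27 ∧ 22 ≠ 20 ∧ 22 ≠ chevF4.neg 20 ∧ 28 ≠ 27 ∧ 28 ≠ chevF4.neg 27) ∧
    (∀ r ∈ [14, 17, 19, 20, 22, 23, 24, 25, 27, 28, 30, 33], r < chevF4.nroots) := by decide +kernel

theorem simpleF4 :
    (chevF4.simple 0 = 33 ∧ chevF4.simple 1 = 27 ∧ chevF4.simple 2 = 25 ∧ chevF4.simple 3 = 24) ∧
    (chevF4.neg 33 = 14 ∧ chevF4.neg 24 = 23 ∧ chevF4.neg 27 = 20) ∧
    (auxF4.w 0 23 < half chevF4 ∧ auxF4.w 1 22 < half chevF4 ∧ auxF4.w 1 19 < half chevF4) := by decide +kernel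

theorem restF4 :
    (chkRest chevF4 0 24 = true ∧ chkRest chevF4 3 33 = true) ∧
    (chkRest chevF4 1 25 = true ∧ chkRest chevF4 1 28 = true ∧ chkRest chevF4 1 30 = true) ∧
    (chkRest chevF4 2 27 = true ∧ chkRest chevF4 2 28 = true ∧ chkRest chevF4 2 30 = true) := by decide +kernel

theorem negClassF4 :
    (chkNegClass chevF4 auxF4 orbLF4 0 14 = true ∧ chkNegClass chevF4 auxF4 orbLF4 0 23 = true) ∧
    (chkNegClass chevF4 auxF4 orbLF4 1 20 = true ∧ chkNegClass chevF4 auxF4 orbLF4 1 22 = true ∧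
      chkNegClass chevF4 auxF4 orbLF4 1 19 = true ∧ chkNegClass chevF4 auxF4 orbLF4 1 17 = true) := by decide +kernel

variable {K : Type*} [Field K] [Fintype K] {m : ℕ} (hK : Fintype.card K = 2 ^ (2 * m + 1))
include hK

theorem charF4 : CharP K 2 := exists_char Nat.prime_two (Nat.succ_pos _) hK

theorem twFieldF4 : TwField K 2 [1, 2] :=
  have := charF4 hK
  twField_prime K 2 (perfect (Nat.succ_pos _) hK)

theorem two_eq_zero_F4 : (2 : K) = 0 := by exact_mod_cast (twFieldF4 hK).cast_zero 2 rfl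

theorem neg_F4 (x : K) : -x = x := by linear_combination (-x) * two_eq_zero_F4 hK

theorem add_self_F4 (x : K) : x + x = 0 := by linear_combination x * two_eq_zero_F4 hK

theorem exists_frF4 : ∃ f : K →+* K, ∀ x, f x = x ^ 2 ^ m :=
  have := charF4 hK
  ⟨iterateFrobenius K 2 m, fun _ => iterateFrobenius_def ..⟩

/-- the `2 ^ m`-th power endomorphism -/
noncomputable def frF4 : K →+* K := (exists_frF4 hK).choose

theorem frF4_apply (x : K) : frF4 hK x = x ^ 2 ^ m := (exists_frF4 hK).choose_spec x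

theorem add_powF4 (x y : K) : (x + y) ^ 2 ^ m = x ^ 2 ^ m + y ^ 2 ^ m := by
  simp only [← frF4_apply hK, map_add]

theorem add_sqF4 (x y : K) : (x + y) ^ (2 : ℕ) = x ^ (2 : ℕ) + y ^ (2 : ℕ) :=
  (twFieldF4 hK).add_pow 2 (by simp) x y

theorem pow_twF4 (t : K) : ((t ^ 2 ^ m) ^ 2 ^ m) ^ (2 : ℕ) = t := by
  rw [← pow_mul, ← pow_mul, show 2 ^ m * (2 ^ m * 2) = 2 ^ (2 * m + 1) by ring, ← hK]
  exact FiniteField.pow_card t

/-- the twisting endomorphism -/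
noncomputable def σF4 : ↥(chevF4.group K) →* ↥(chevF4.group K) :=
  (twEnd certF4 (twFieldF4 hK) twOkF4 twPerF4 witF4 connF4).comp (powEnd (frF4 hK))

theorem σF4_gen (r : ℕ) (t : K) : σF4 hK (xG certF4 K r t) =
    xG certF4 K (twAt chevF4 twTF4 r).1
      (((twAt chevF4 twTF4 r).2.1 : K) * (frF4 hK t) ^ (twAt chevF4 twTF4 r).2.2) := by
  rw [σF4, MonoidHom.comp_apply, powEnd_gen, twEnd_gen]
  rfl

theorem σF4_long {r r' : ℕ} (h : twAt chevF4 twTF4 r = (r', 1, 1)) (t : K) :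
    σF4 hK (xG certF4 K r t) = xG certF4 K r' (t ^ 2 ^ m) := by
  rw [σF4_gen, h, frF4_apply]
  simp

theorem σF4_short {r r' : ℕ} (h : twAt chevF4 twTF4 r = (r', 1, 2)) (t : K) :
    σF4 hK (xG certF4 K r t) = xG certF4 K r' ((t ^ 2 ^ m) ^ (2 : ℕ)) := by
  rw [σF4_gen, h, frF4_apply]
  simp

omit hK in
/-- the orbit map -/
def orbF4 (i : Fin chevF4.rank) : Fin 2 :=
  ⟨orbLF4.getD (i : ℕ) 0, ((twShape_spec twOkF4 shapeF4).2.2.1 i).2.2.1⟩

omit hK in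
theorem orbF4_ho (i : Fin chevF4.rank) : orbLF4.getD (i : ℕ) 0 = (orbF4 i : ℕ) := rfl

/-- a fixed element of the class of type B2 -/
noncomputable def xB2 (m a b c d : ℕ) (t u : K) : ↥(chevF4.group K) :=
  xG certF4 K a (t ^ 2 ^ m) * (xG certF4 K b t * (xG certF4 K c (t ^ 2 ^ m * t + u) * xG certF4 K d ((u ^ 2 ^ m) ^ (2 : ℕ))))

omit hK [Fintype K] in
theorem wordF4_pair_mem {a b : ℕ} (h : (a, b) ∈ [(f4p1, f4p4), (f4m1, f4m4)]) (t : K) :
    xG certF4 K a (t ^ 2 ^ m) * xG certF4 K b t ∈ (twistedF4 K (2 ^ m)).subgroupOf (chevF4.group K) := by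
  have hw : f4PairWord (2 ^ m) a b t ∈ f4Words K (2 ^ m) := by
    simp only [List.mem_cons, Prod.mk.injEq, List.not_mem_nil, or_false] at h
    rcases h with ⟨rfl, rfl⟩ | ⟨rfl, rfl⟩
    · exact Or.inl ⟨t, Or.inl rfl⟩
    · exact Or.inl ⟨t, Or.inr rfl⟩
  have h' : wordG certF4 (f4PairWord (2 ^ m) a b t) ∈ (twistedF4 K (2 ^ m)).subgroupOf (chevF4.group K) :=
    wordG_mem certF4 hw
  simpa only [f4PairWord, wordG_cons, wordG_nil, mul_one] using h'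

theorem wordF4_quad_mem {a b c d : ℕ} (h : (a, b, c, d) ∈ [(f4a, f4b, f4ab, f4aab), (f4ma, f4mb, f4mab, f4maab)])
    (t u : K) : xB2 m a b c d t u ∈ (twistedF4 K (2 ^ m)).subgroupOf (chevF4.group K) := by
  have hw : b2ClassWord (2 ^ m) a b c d t u ∈ f4Words K (2 ^ m) := by
    simp only [List.mem_cons, Prod.mk.injEq, List.not_mem_nil, or_false] at h
    rcases h with ⟨rfl, rfl, rfl, rfl⟩ | ⟨rfl, rfl, rfl, rfl⟩
    · exact Or.inr ⟨t, u, Or.inl rfl⟩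
    · exact Or.inr ⟨t, u, Or.inr rfl⟩
  have h' : wordG certF4 (b2ClassWord (2 ^ m) a b c d t u) ∈ (twistedF4 K (2 ^ m)).subgroupOf (chevF4.group K) :=
    wordG_mem certF4 hw
  simp only [b2ClassWord, wordG_cons, wordG_nil, mul_one] at h'
  rwa [pow_succ, mul_comm 2 (2 ^ m), pow_mul] at h'

theorem swapF4 {a b c d : ℕ} {N M : ℤ} (ha : a < chevF4.nroots) (hb : b < chevF4.nroots) (h1 : b ≠ a)
    (h2 : b ≠ chevF4.neg a) (hN : N = 1 ∨ N = -1) (hM : M = 1 ∨ M = -1)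
    (hL : chevF4.commTerms a b = [(c, N, 1, 1), (d, M, 2, 1)]) (p r : K) :
    xG certF4 K b r * xG certF4 K a p =
      xG certF4 K a p * xG certF4 K b r * (xG certF4 K c (p * r) * xG certF4 K d (p ^ (2 : ℕ) * r)) := by
  have hN' : (N : K) = 1 := by rcases hN with rfl | rfl <;> simp [neg_F4 hK]
  have hM' : (M : K) = 1 := by rcases hM with rfl | rfl <;> simp [neg_F4 hK]
  rw [xG_swap certF4 ha hb h1 h2 hL p r]
  simp only [List.map_cons, List.map_nil, List.prod_cons, List.prod_nil, mul_one, hN', hM', neg_F4 hK, pow_one, one_mul]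

theorem swap27_25 (p r : K) : xG certF4 K 25 r * xG certF4 K 27 p =
    xG certF4 K 27 p * xG certF4 K 25 r * (xG certF4 K 28 (p * r) * xG certF4 K 30 (p ^ (2 : ℕ) * r)) := by
  obtain ⟨t1, -, -, ⟨n1, n2, -⟩, hm⟩ := termsF4
  exact swapF4 hK (hm 27 (by decide)) (hm 25 (by decide)) n1 n2 (Or.inr rfl) (Or.inr rfl) t1 p r

theorem swap20_22 (p r : K) : xG certF4 K 22 r * xG certF4 K 20 p =
    xG certF4 K 20 p * xG certF4 K 22 r * (xG certF4 K 19 (p * r) * xG certF4 K 17 (p ^ (2 : ℕ) * r)) := by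
  obtain ⟨-, t1, -, ⟨-, -, n1, n2, -⟩, hm⟩ := termsF4
  exact swapF4 hK (hm 20 (by decide)) (hm 22 (by decide)) n1 n2 (Or.inl rfl) (Or.inr rfl) t1 p r

theorem σ_xB2 {a b c d : ℕ} (h1 : twAt chevF4 twTF4 a = (b, 1, 2)) (h2 : twAt chevF4 twTF4 b = (a, 1, 1))
    (h3 : twAt chevF4 twTF4 c = (d, 1, 2)) (h4 : twAt chevF4 twTF4 d = (c, 1, 1))
    (hcd : chkNoTerms chevF4 c d = true)
    (hs : ∀ p r : K, xG certF4 K b r * xG certF4 K a p =
      xG certF4 K a p * xG certF4 K b r * (xG certF4 K c (p * r) * xG certF4 K d (p ^ (2 : ℕ) * r)))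
    (t u : K) : σF4 hK (xB2 m a b c d t u) = xB2 m a b c d t u := by
  have hu : ((u ^ 2 ^ m) ^ (2 : ℕ)) ^ 2 ^ m = u := by
    rw [← pow_mul (u ^ 2 ^ m), mul_comm 2, pow_mul, pow_twF4 hK]
  have e3 : ((t ^ 2 ^ m * t + u) ^ 2 ^ m) ^ (2 : ℕ) =
      t * (t ^ 2 ^ m) ^ (2 : ℕ) + (u ^ 2 ^ m) ^ (2 : ℕ) := by
    rw [add_powF4 hK, add_sqF4 hK, mul_pow, mul_pow, pow_twF4 hK]
  simp only [xB2, map_mul, σF4_long hK h2, σF4_long hK h4, σF4_short hK h1, σF4_short hK h3]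
  rw [pow_twF4 hK, hu, e3, (xG_commute certF4 hcd u _).symm.eq, ← mul_assoc, hs, mul_assoc (xG certF4 K a _) _ _,
    mul_assoc (xG certF4 K a _), mul_assoc (xG certF4 K b t)]
  congr 2
  rw [(xG_commute certF4 hcd u _).symm.mul_mul_mul_comm, xG_pow_mul, xG_pow_mul]
  congr 2
  linear_combination add_self_F4 hK (t * (t ^ 2 ^ m) ^ (2 : ℕ))

theorem fixF4 (w : List (ℕ × K)) (hw : w ∈ f4Words K (2 ^ m)) : σF4 hK (wordG certF4 w) = wordG certF4 w := by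
  obtain ⟨⟨a1, a2, a3, a4⟩, ⟨b1, b2, b3, b4⟩, ⟨c1, c2, c3, c4⟩⟩ := twAtF4
  obtain ⟨⟨p1, p2, -, -⟩, ⟨-, -, -, q1⟩, ⟨-, -, -, q2⟩⟩ := commF4
  have key : ∀ a b : ℕ, twAt chevF4 twTF4 a = (b, 1, 2) → twAt chevF4 twTF4 b = (a, 1, 1) →
      chkNoTerms chevF4 a b = true → ∀ t : K,
      σF4 hK (wordG certF4 [(a, t ^ 2 ^ m), (b, t)]) = wordG certF4 [(a, t ^ 2 ^ m), (b, t)] := by
    intro a b h1 h2 hc t
    simp only [wordG_cons, wordG_nil, mul_one, map_mul]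
    rw [σF4_short hK h1, σF4_long hK h2, pow_twF4 hK, (xG_commute certF4 hc _ _).eq]
  rcases hw with ⟨t, rfl | rfl⟩ | ⟨t, u, rfl | rfl⟩
  · exact key 33 24 a1 a2 p1 t
  · exact key 14 23 a3 a4 p2 t
  · have := σ_xB2 hK b1 b2 b3 b4 q1 (swap27_25 hK) t u
    simp only [b2ClassWord, wordG_cons, wordG_nil, mul_one, f4a, f4b, f4ab, f4aab]
    rwa [pow_succ, mul_comm 2 (2 ^ m), pow_mul]
  · have := σ_xB2 hK c1 c2 c3 c4 q2 (swap20_22 hK) t u
    simp only [b2ClassWord, wordG_cons, wordG_nil, mul_one, f4ma, f4mb, f4mab, f4maab]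
    rwa [pow_succ, mul_comm 2 (2 ^ m), pow_mul]

/-- the product over the class of type B2 in increasing order of roots -/
theorem sortB2 (a b c d : K) :
    xG certF4 K 27 b * (xG certF4 K 25 a * (xG certF4 K 28 c * xG certF4 K 30 d)) =
      xG certF4 K 25 a * (xG certF4 K 27 b * (xG certF4 K 28 (c + b * a) * xG certF4 K 30 (d + b ^ (2 : ℕ) * a))) := by
  obtain ⟨-, ⟨-, -, -, q1⟩, -⟩ := commF4
  conv_rhs => rw [← mul_assoc, swap27_25 hK]
  rw [mul_assoc (xG certF4 K 27 b * xG certF4 K 25 a),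
    (xG_commute certF4 q1 _ _).symm.mul_mul_mul_comm, xG_pow_mul, xG_pow_mul, mul_assoc]
  congr 2
  congr 2
  · linear_combination -(add_self_F4 hK (b * a))
  · linear_combination -(add_self_F4 hK (b ^ (2 : ℕ) * a))

theorem xB2_sorted (t u : K) : xB2 m 27 25 28 30 t u =
    xG certF4 K 25 t * (xG certF4 K 27 (t ^ 2 ^ m) * (xG certF4 K 28 u *
      xG certF4 K 30 ((t ^ 2 ^ m) ^ (2 : ℕ) * t + (u ^ 2 ^ m) ^ (2 : ℕ)))) := by
  rw [xB2, sortB2 hK]
  congr 4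
  · linear_combination add_self_F4 hK (t ^ 2 ^ m * t)
  · ring

theorem classB2_fixed {g : ↥(chevF4.group K)}
    (hg : g ∈ (chevRel certF4 K).US (posSub chevF4 auxF4 orbF4 1)) (hfix : σF4 hK g = g) :
    ∃ t u : K, g = xB2 m 27 25 28 30 t u := by
  obtain ⟨-, l1⟩ := classF4
  obtain ⟨-, ⟨b1, b2, b3, b4⟩, -⟩ := twAtF4
  obtain ⟨-, ⟨-, -, -, q1⟩, -⟩ := commF4
  obtain ⟨s, rfl⟩ := (chevRel certF4 K).exists_class_prod orbF4 1 orbF4_ho (wordF4 1) hg
  have hl : classList chevF4 auxF4 orbLF4 (1 : Fin 2) = [25, 27, 28, 30] := l1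
  rw [hl] at hfix ⊢
  simp only [List.map_cons, List.map_nil, List.prod_cons, List.prod_nil, mul_one] at hfix ⊢
  have h : σF4 hK (xG certF4 K 25 (s 25) * (xG certF4 K 27 (s 27) * (xG certF4 K 28 (s 28) * xG certF4 K 30 (s 30)))) =
      xG certF4 K 25 (s 25) * (xG certF4 K 27 (s 27) * (xG certF4 K 28 (s 28) * xG certF4 K 30 (s 30))) := hfix
  simp only [map_mul, σF4_long hK b2, σF4_long hK b4, σF4_short hK b1, σF4_short hK b3] at h
  rw [(xG_commute certF4 q1 _ _).symm.eq, sortB2 hK] at h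
  obtain ⟨f, hf⟩ : ∃ f : ℕ → K, f = fun r => if r = 25 then (s 27 ^ 2 ^ m) ^ (2 : ℕ) else if r = 27 then s 25 ^ 2 ^ m
      else if r = 28 then s 30 ^ 2 ^ m + s 25 ^ 2 ^ m * (s 27 ^ 2 ^ m) ^ (2 : ℕ)
      else (s 28 ^ 2 ^ m) ^ (2 : ℕ) + (s 25 ^ 2 ^ m) ^ (2 : ℕ) * (s 27 ^ 2 ^ m) ^ (2 : ℕ) := ⟨_, rfl⟩
  have key := (chevRel certF4 K).class_prod_inj (X := auxF4) (orbL := orbLF4) (k := (1 : Fin 2)) (t := f) (t' := s) (by
    rw [hl, hf]
    simp only [List.map_cons, List.map_nil, List.prod_cons, List.prod_nil, mul_one]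
    exact h)
  have h25 : (s 27 ^ 2 ^ m) ^ (2 : ℕ) = s 25 := by simpa [hf] using key 25 (by rw [hl]; simp)
  have h27 : s 25 ^ 2 ^ m = s 27 := by simpa [hf] using key 27 (by rw [hl]; simp)
  have h30 := key 30 (by rw [hl]; simp)
  simp only [hf, show ¬ (30 = 25) by norm_num, show ¬ (30 = 27) by norm_num, show ¬ (30 = 28) by norm_num,
    if_false, h25] at h30
  refine ⟨s 25, s 28, ?_⟩
  rw [xB2_sorted hK, h27]
  show xG certF4 K 25 (s 25) * _ = _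
  congr 4
  rw [← h30, ← h27]
  exact congrArg (xG certF4 K 30) (by ring)

theorem xB2_mem_class (t u : K) :
    xB2 m 27 25 28 30 t u ∈ (chevRel certF4 K).US (posSub chevF4 auxF4 orbF4 1) := by
  obtain ⟨-, l1⟩ := classF4
  have hm : ∀ r ∈ [25, 27, 28, 30], r ∈ classList chevF4 auxF4 orbLF4 ((1 : Fin 2) : ℕ) := fun r hr => by
    rw [show ((1 : Fin 2) : ℕ) = 1 from rfl, l1]; exact hr
  exact mul_mem (xG_class_mem certF4 orbF4_ho 1 (hm 27 (by decide)) _)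
    (mul_mem (xG_class_mem certF4 orbF4_ho 1 (hm 25 (by decide)) _)
      (mul_mem (xG_class_mem certF4 orbF4_ho 1 (hm 28 (by decide)) _)
        (xG_class_mem certF4 orbF4_ho 1 (hm 30 (by decide)) _)))

theorem xB2_inj {t u t' u' : K} (h : xB2 m 27 25 28 30 t u = xB2 m 27 25 28 30 t' u') : t = t' ∧ u = u' := by
  obtain ⟨-, l1⟩ := classF4
  rw [xB2_sorted hK, xB2_sorted hK] at h
  obtain ⟨f, hf⟩ : ∃ f : K → K → ℕ → K, f = fun a c r => if r = 25 then a else if r = 27 then a ^ 2 ^ m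
      else if r = 28 then c else (a ^ 2 ^ m) ^ (2 : ℕ) * a + (c ^ 2 ^ m) ^ (2 : ℕ) := ⟨_, rfl⟩
  have key := (chevRel certF4 K).class_prod_inj (X := auxF4) (orbL := orbLF4) (k := 1) (t := f t u) (t' := f t' u') (by
    rw [l1, hf]
    simp only [List.map_cons, List.map_nil, List.prod_cons, List.prod_nil, mul_one]
    exact h)
  exact ⟨by simpa [hf] using key 25 (by rw [l1]; simp), by simpa [hf] using key 28 (by rw [l1]; simp)⟩

theorem hAF4 (k : Fin 2) (u : ↥(chevF4.group K)) (hu : u ∈ (chevRel certF4 K).US (posSub chevF4 auxF4 orbF4 k))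
    (hσ : σF4 hK u = u) : u ∈ (twistedF4 K (2 ^ m)).subgroupOf (chevF4.group K) := by
  obtain ⟨⟨a1, a2, -, -⟩, -, -⟩ := twAtF4
  obtain ⟨⟨p1, -, -, -⟩, -, -⟩ := commF4
  fin_cases k
  · obtain ⟨t, ht, rfl⟩ := pair_fixed certF4 orbF4_ho 0 (wordF4 0) classF4.1 (by decide) p1
      (σF4_short hK a1) (σF4_long hK a2) hu hσ
    have := wordF4_pair_mem (K := K) (m := m) (a := 33) (b := 24) (by decide) ((t ^ 2 ^ m) ^ (2 : ℕ))
    rwa [ht] at this
  · obtain ⟨t, v, rfl⟩ := classB2_fixed hK hu hσ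
    exact wordF4_quad_mem hK (by decide) t v

theorem hBF4 (k : Fin 2) : ∃ u ∈ (twistedF4 K (2 ^ m)).subgroupOf (chevF4.group K),
    u ∈ (chevRel certF4 K).US (negSub chevF4 auxF4 orbF4 k) ∧ u ≠ 1 := by
  obtain ⟨⟨k14, k23⟩, ⟨k20, k22, k19, k17⟩⟩ := negClassF4
  obtain ⟨⟨s0, s1, -, -⟩, ⟨n33, -, n27⟩, ⟨w23, w22, w19⟩⟩ := simpleF4
  obtain ⟨-, -, -, -, hm⟩ := termsF4
  fin_cases k
  · refine ⟨_, wordF4_pair_mem (m := m) (a := 14) (b := 23) (by decide) 1,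
      mul_mem (xG_negClass_mem certF4 orbF4_ho (k := 0) k14 _) (xG_negClass_mem certF4 orbF4_ho (k := 0) k23 _), ?_⟩
    rw [one_pow]
    exact xG_pair_ne_one certF4 ⟨0, by decide +kernel⟩ ((congrArg chevF4.neg s0).trans n33) (hm 23 (by decide)) w23 _
  · refine ⟨_, wordF4_quad_mem hK (a := 20) (b := 22) (c := 19) (d := 17) (by decide) 1 0,
      mul_mem (xG_negClass_mem certF4 orbF4_ho (k := 1) k20 _) (mul_mem (xG_negClass_mem certF4 orbF4_ho (k := 1) k22 _)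
        (mul_mem (xG_negClass_mem certF4 orbF4_ho (k := 1) k19 _) (xG_negClass_mem certF4 orbF4_ho (k := 1) k17 _))), ?_⟩
    rw [xB2, one_pow, zero_pow (Nat.two_pow_pos m).ne', zero_pow two_ne_zero,
      show xG certF4 K 17 (0 : K) = 1 from (chevRel certF4 K).xe_zero _, mul_one]
    exact xG_triple_ne_one certF4 ⟨1, by decide +kernel⟩ ((congrArg chevF4.neg s1).trans n27)
      (hm 22 (by decide)) (hm 19 (by decide)) w22 w19 _ _

/-- the twisted group as data -/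
noncomputable def twF4 : TwG (chevRel certF4 K) :=
  mkTwG certF4 (twFieldF4 hK) twOkF4 shapeF4 (frF4 hK) (σF4 hK) (σF4_gen hK) (f4Words K (2 ^ m)) descF4
    (fixF4 hK) (hAF4 hK) (hBF4 hK)

theorem twF4_P1 : (twF4 hK).P1 = (twistedF4 K (2 ^ m)).subgroupOf (chevF4.group K) := rfl

omit hK [Fintype K] in
theorem twF4_le : twistedF4 K (2 ^ m) ≤ chevF4.group K := genSubgroup_le certF4 _

theorem classCardF4 : (twF4 hK).ClassCard (2 ^ (2 * m + 1)) 2 := by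
  obtain ⟨⟨a1, a2, -, -⟩, -, -⟩ := twAtF4
  obtain ⟨⟨p1, -, -, -⟩, -, -⟩ := commF4
  obtain ⟨l0, l1⟩ := classF4
  have hf := (twF4 hK).hfix
  intro k
  change Fin 2 at k
  fin_cases k
  · refine ⟨1, (class_ncard orbF4_ho 0 certF4).trans (by simp [l0]), ?_⟩
    refine (pair_card certF4 orbF4_ho 0 (wordF4 0) l0 (by decide) p1 (σF4_short hK a1) (σF4_long hK a2)
      (twF4 hK).P1 hf fun t ht => by
        have := wordF4_pair_mem (K := K) (m := m) (a := 33) (b := 24) (by decide) ((t ^ 2 ^ m) ^ (2 : ℕ))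
        rwa [ht] at this).trans ?_
    have h1 : ∀ t : K, ((t ^ 2 ^ m) ^ (2 : ℕ)) ^ 2 ^ m = t := fun t => by
      rw [← pow_mul (t ^ 2 ^ m), mul_comm 2, pow_mul, pow_twF4 hK]
    rw [Nat.card_congr (Equiv.subtypeUnivEquiv h1), Nat.card_eq_fintype_card, hK, pow_one]
  · refine ⟨2, (class_ncard orbF4_ho 1 certF4).trans (by simp [l1]), ?_⟩
    refine (Nat.card_eq_of_bijective (fun x : K × K =>
      (⟨xB2 m 27 25 28 30 x.1 x.2, Subgroup.mem_inf.2 ⟨wordF4_quad_mem hK (by decide) _ _, xB2_mem_class hK _ _⟩⟩ :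
        ↥((twF4 hK).P1 ⊓ (chevRel certF4 K).US (posSub chevF4 auxF4 orbF4 1)))) ⟨?_, ?_⟩).symm.trans ?_
    · intro x y e
      exact Prod.ext_iff.2 (xB2_inj hK (congrArg Subtype.val e))
    · intro g
      obtain ⟨t, u, e⟩ := classB2_fixed hK (Subgroup.mem_inf.1 g.2).2 (hf _ (Subgroup.mem_inf.1 g.2).1)
      exact ⟨(t, u), Subtype.ext e.symm⟩
    · rw [Nat.card_prod, Nat.card_eq_fintype_card, hK, sq]

theorem orbListF4 : (twF4 hK).OrbList orbLF4 := fun _ => rfl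

theorem faithfulF4 : (twF4 hK).TorusFaithful := by
  obtain ⟨⟨s0, s1, s2, s3⟩, -, -⟩ := simpleF4
  obtain ⟨⟨r0, r3⟩, ⟨r1, r1', r1''⟩, ⟨r2, r2', r2''⟩⟩ := restF4
  obtain ⟨l0, l1⟩ := classF4
  obtain ⟨⟨p1, -, -, -⟩, -, -⟩ := commF4
  obtain ⟨o0, o1, o2, o3⟩ : orbLF4.getD 0 0 = 0 ∧ orbLF4.getD 1 0 = 1 ∧ orbLF4.getD 2 0 = 1 ∧ orbLF4.getD 3 0 = 0 := by
    decide
  refine torusFaithful_of certF4 (twF4 hK) fun i => ⟨1, one_ne_zero, ?_⟩
  obtain ⟨i, hi⟩ := i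
  have hi4 : i < 4 := hi
  have ho := orbF4_ho ⟨i, hi⟩
  have mem : ∀ (l : List ℕ), classList chevF4 auxF4 orbLF4 (orbF4 ⟨i, hi⟩) = l → ∀ r ∈ l, ∀ x : K,
      xG certF4 K r x ∈ (chevRel certF4 K).US (posSub chevF4 auxF4 orbF4 (orbF4 ⟨i, hi⟩)) ∧
      (chkRest chevF4 i r = true → xG certF4 K r x ∈ (chevRel certF4 K).US ((chevRel certF4 K).restSet ⟨i, hi⟩)) :=
    fun l hl r hr x => ⟨xG_class_mem certF4 orbF4_ho _ (hl ▸ hr) x, fun h =>
      xG_mem_rest certF4 ⟨i, hi⟩ (classList_lt certF4 orbF4_ho _ (hl ▸ hr)).2 h x⟩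
  interval_cases i
  · have hl := mem [24, 33] (by rw [← ho, o0, l0])
    refine ⟨xG certF4 K 24 (1 : K), (hl 24 (by simp) 1).2 r0, ?_, ?_⟩ <;> rw [s0]
    · exact mul_mem (hl 33 (by simp) 1).1 (hl 24 (by simp) 1).1
    · have := wordF4_pair_mem (K := K) (m := m) (a := 33) (b := 24) (by decide) 1
      rwa [one_pow] at this
  · have hl := mem [25, 27, 28, 30] (by rw [← ho, o1, l1])
    refine ⟨xG certF4 K 25 1 * (xG certF4 K 28 (1 * 1 + 0) * xG certF4 K 30 0),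
      mul_mem ((hl 25 (by simp) _).2 r1) (mul_mem ((hl 28 (by simp) _).2 r1') ((hl 30 (by simp) _).2 r1'')), ?_, ?_⟩ <;>
      rw [s1]
    · exact mul_mem (hl 27 (by simp) _).1
        (mul_mem (hl 25 (by simp) _).1 (mul_mem (hl 28 (by simp) _).1 (hl 30 (by simp) _).1))
    · have := wordF4_quad_mem hK (a := 27) (b := 25) (c := 28) (d := 30) (by decide) 1 0
      rwa [xB2, one_pow, zero_pow (Nat.two_pow_pos m).ne', zero_pow two_ne_zero] at this
  · have hl := mem [25, 27, 28, 30] (by rw [← ho, o2, l1])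
    refine ⟨xG certF4 K 27 1 * (xG certF4 K 28 0 * xG certF4 K 30 (1 * 1 + 0)),
      mul_mem ((hl 27 (by simp) _).2 r2) (mul_mem ((hl 28 (by simp) _).2 r2') ((hl 30 (by simp) _).2 r2'')), ?_, ?_⟩ <;>
      rw [s2]
    · exact mul_mem (hl 25 (by simp) _).1
        (mul_mem (hl 27 (by simp) _).1 (mul_mem (hl 28 (by simp) _).1 (hl 30 (by simp) _).1))
    · have := wordF4_quad_mem hK (a := 27) (b := 25) (c := 28) (d := 30) (by decide) 1 0
      rwa [xB2_sorted hK, one_pow, zero_pow (Nat.two_pow_pos m).ne', zero_pow two_ne_zero, one_pow] at this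
  · have hl := mem [24, 33] (by rw [← ho, o3, l0])
    refine ⟨xG certF4 K 33 (1 : K), (hl 33 (by simp) 1).2 r3, ?_, ?_⟩ <;> rw [s3]
    · exact mul_mem (hl 24 (by simp) 1).1 (hl 33 (by simp) 1).1
    · have := wordF4_pair_mem (K := K) (m := m) (a := 33) (b := 24) (by decide) 1
      rwa [one_pow, (xG_commute certF4 p1 _ _).eq] at this

theorem card_F4_enum : (Nat.card ↥(twistedF4 K (2 ^ m)) : ℤ) = ((2 ^ (2 * m + 1) : ℕ) : ℤ) ^ 12 *
    (Nat.card ↥((twF4 hK).P1 ⊓ (chevRel certF4 K).HS) : ℤ) *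
      horner ((2 ^ (2 * m + 1) : ℕ) : ℤ) (layerPoly layersTF4) := by
  have := (chevRel certF4 K).Finite_of_field
  rw [card_twisted certF4 twF4_le (twF4 hK) (twF4_P1 hK)]
  exact (twF4 hK).card_P1_enum (orbListF4 hK) rfl wordsTF4_ok enumTF4_ok two_pos (classCardF4 hK)
    (show half chevF4 = 2 * 12 by decide +kernel)

end CfsgLib.Lie.Chev.TwGroups
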