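/-
The twisted groups of type G2 in characteristic three.
-/
import Cfsg.Agent.Lib.Lie.Twisted.Classes
import Cfsg.Agent.Lib.Lie.Twisted.WeylTables
import Cfsg.Agent.Lib.Lie.Twisted.WeylIso
import Cfsg.Agent.Lib.Lie.Rel.TwistTables
import Cfsg.Agent.Lib.Lie.Rel.OrderData

set_option autoImplicit false

namespace CfsgLib.Lie.Chev

open Cfsg.Lie (ChevalleyDatum)

/-- all terms of the commutator formula of two roots are divisible by `p` -/
def chkModTerms (D : ChevalleyDatum) (p : ℕ) (r s : ℕ) : Bool :=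
  Nat.blt r D.nroots && Nat.blt s D.nroots && !Nat.beq s r && !Nat.beq s (D.neg r) &&
    (D.commTerms r s).all fun c => decide (c.2.1 % (p : ℤ) = 0)

variable {D : ChevalleyDatum} {X : Aux} (C : Cert D X) {K : Type*} [Field K]

theorem xG_commute_mod {p : ℕ} {E : List ℕ} (hK : TwField K p E) {r s : ℕ} (h : chkModTerms D p r s = true)
    (t u : K) : Commute (xG C K r t) (xG C K s u) := by
  simp only [chkModTerms, Bool.and_eq_true, nat_blt_iff, Bool.not_eq_true', List.all_eq_true,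
    decide_eq_true_iff] at h
  obtain ⟨⟨⟨⟨h1, h2⟩, h3⟩, h4⟩, h5⟩ := h
  rw [← Bool.not_eq_true, nat_beq_iff] at h3 h4
  have e := xG_swap C h1 h2 h3 h4 rfl t u
  have hone : ((D.commTerms r s).map fun c => xG C K c.1 ((c.2.1 : K) * (-t) ^ c.2.2.1 * u ^ c.2.2.2)).prod = 1 := by
    refine List.prod_eq_one fun x hx => ?_
    obtain ⟨c, hc, rfl⟩ := List.mem_map.1 hx
    rw [hK.cast_zero _ (h5 c hc), zero_mul, zero_mul]
    exact (chevRel C K).xe_zero _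
  rw [hone, mul_one] at e
  exact e.symm

namespace TwGroups

open Cfsg.Lie

/-- the action on the simple roots -/
def piG2 : List ℕ := [1, 0]

theorem shapeG2 : chkTwShape chevG2 twTG2 piG2 orbLG2 1 = true := by decide +kernel

theorem descG2 : Desc chevG2 auxG2 := desc_of_chk (by decide +kernel)

theorem connG2 : Rel.Connected chevG2 := connected_of_chk (by decide +kernel)

theorem twAtG2 :
    (twAt chevG2 twTG2 7 = (6, 1, 3) ∧ twAt chevG2 twTG2 6 = (7, 1, 1) ∧ twAt chevG2 twTG2 8 = (10, 1, 3) ∧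
      twAt chevG2 twTG2 10 = (8, 1, 1) ∧ twAt chevG2 twTG2 9 = (11, 1, 3) ∧ twAt chevG2 twTG2 11 = (9, 1, 1)) ∧
    (twAt chevG2 twTG2 4 = (5, 1, 3) ∧ twAt chevG2 twTG2 5 = (4, 1, 1) ∧ twAt chevG2 twTG2 3 = (1, 1, 3) ∧
      twAt chevG2 twTG2 1 = (3, 1, 1) ∧ twAt chevG2 twTG2 2 = (0, 1, 3) ∧ twAt chevG2 twTG2 0 = (2, 1, 1)) := by
  decide +kernel

theorem classG2 : classList chevG2 auxG2 orbLG2 0 = [6, 7, 8, 9, 10, 11] := by decide +kernel

theorem wordG2 : ∀ k : Fin 1, chkOrbWord chevG2 auxG2 orbLG2 k (wordsTG2.getD k []) = true := by decide +kernel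

theorem commG2 :
    (chkModTerms chevG2 3 8 9 = true ∧ chkModTerms chevG2 3 8 10 = true ∧ chkModTerms chevG2 3 8 11 = true ∧
      chkModTerms chevG2 3 9 10 = true ∧ chkModTerms chevG2 3 9 11 = true ∧ chkModTerms chevG2 3 10 11 = true) ∧
    (chkModTerms chevG2 3 3 2 = true ∧ chkModTerms chevG2 3 3 1 = true ∧ chkModTerms chevG2 3 3 0 = true ∧
      chkModTerms chevG2 3 2 1 = true ∧ chkModTerms chevG2 3 2 0 = true ∧ chkModTerms chevG2 3 1 0 = true) ∧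
    (chkModTerms chevG2 3 6 8 = true ∧ chkModTerms chevG2 3 6 9 = true ∧ chkModTerms chevG2 3 6 11 = true ∧
      chkModTerms chevG2 3 7 9 = true ∧ chkModTerms chevG2 3 7 10 = true ∧ chkModTerms chevG2 3 7 11 = true) := by
  decide +kernel

theorem termsG2 :
    (chevG2.commTerms 7 6 = [(8, -1, 1, 1), (9, 1, 2, 1), (10, 1, 3, 1), (11, 1, 3, 2)] ∧
      chevG2.commTerms 4 5 = [(3, 1, 1, 1), (2, 1, 2, 1), (1, -1, 3, 1), (0, 1, 3, 2)] ∧
      chevG2.commTerms 7 8 = [(9, -2, 1, 1), (10, -3, 2, 1), (11, 3, 1, 2)] ∧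
      chevG2.commTerms 6 10 = [(11, 1, 1, 1)]) ∧
    ((6 ≠ 7 ∧ 6 ≠ chevG2.neg 7) ∧ (5 ≠ 4 ∧ 5 ≠ chevG2.neg 4) ∧ (8 ≠ 7 ∧ 8 ≠ chevG2.neg 7) ∧
      (10 ≠ 6 ∧ 10 ≠ chevG2.neg 6)) ∧
    (∀ r ∈ [0, 1, 2, 3, 4, 5, 6, 7, 8, 9, 10, 11], r < chevG2.nroots) := by decide +kernel

theorem simpleG2 :
    (chevG2.simple 0 = 7 ∧ chevG2.simple 1 = 6) ∧
    (chevG2.negIdx.getD 7 0 = 4 ∧ chevG2.negIdx.getD 6 0 = 5 ∧ chevG2.negIdx.getD 8 0 = 3 ∧
      chevG2.negIdx.getD 9 0 = 2 ∧ chevG2.negIdx.getD 10 0 = 1 ∧ chevG2.negIdx.getD 11 0 = 0) ∧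
    (chkNegClass chevG2 auxG2 orbLG2 0 2 = true ∧ chkNegClass chevG2 auxG2 orbLG2 0 0 = true ∧ 2 ≠ 0) ∧
    (chkRest chevG2 0 6 = true ∧ chkRest chevG2 0 8 = true ∧ chkRest chevG2 0 9 = true ∧
      chkRest chevG2 0 10 = true ∧ chkRest chevG2 0 11 = true) ∧
    (chkRest chevG2 1 7 = true ∧ chkRest chevG2 1 8 = true ∧ chkRest chevG2 1 9 = true ∧
      chkRest chevG2 1 10 = true ∧ chkRest chevG2 1 11 = true) := by decide +kernel

/-- the word of a fixed element of the class, with sign `s` -/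
noncomputable def xRee {K : Type*} [Field K] (m : ℕ) (s : K) (a b c d e f : ℕ) (t u v : K) : ↥(chevG2.group K) :=
  xG certG2 K a (s * t ^ 3 ^ m) * (xG certG2 K b (s * t) * (xG certG2 K c (s * (t ^ 3 ^ m * t + u ^ 3 ^ m)) *
    (xG certG2 K d (s * ((t ^ 3 ^ m) ^ (2 : ℕ) * t + v ^ 3 ^ m)) * (xG certG2 K e (s * u) * xG certG2 K f (s * v)))))

/-- the fixed element of the positive class -/
noncomputable def xU {K : Type*} [Field K] (m : ℕ) (t u v : K) : ↥(chevG2.group K) := xRee m 1 7 6 8 9 10 11 t u v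

/-- the fixed element of the negative class -/
noncomputable def xV {K : Type*} [Field K] (m : ℕ) (t u v : K) : ↥(chevG2.group K) := xRee m (-1) 4 5 3 2 1 0 t u v

theorem wordG_reeU {K : Type*} [Field K] (m : ℕ) (t u v : K) :
    wordG certG2 (reeWordU (3 ^ m) t u v) = xU m t u v := by
  simp only [reeWordU, wordG_cons, wordG_nil, mul_one, xU, xRee, g2a, g2b, g2ab, g2aab, g2aaab, g2aaabb, one_mul]
  rw [pow_succ (t : K) (3 ^ m), pow_succ t (2 * 3 ^ m), mul_comm 2 (3 ^ m), pow_mul]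

theorem wordG_reeV {K : Type*} [Field K] (m : ℕ) (t u v : K) :
    wordG certG2 (reeWordV (3 ^ m) t u v) = xV m t u v := by
  obtain ⟨-, ⟨n7, n6, n8, n9, n10, n11⟩, -⟩ := simpleG2
  simp only [reeWordV, reeWordU, ChevalleyDatum.negWord, List.map_cons, List.map_nil, wordG_cons, wordG_nil, mul_one,
    xV, xRee, g2a, g2b, g2ab, g2aab, g2aaab, g2aaabb, n7, n6, n8, n9, n10, n11, neg_one_mul]
  rw [pow_succ (t : K) (3 ^ m), pow_succ t (2 * 3 ^ m), mul_comm 2 (3 ^ m), pow_mul]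

theorem xU_mem {K : Type*} [Field K] (m : ℕ) (t u v : K) :
    xU m t u v ∈ (twistedG2 K (3 ^ m)).subgroupOf (chevG2.group K) :=
  wordG_reeU m t u v ▸ wordG_mem certG2 ⟨t, u, v, Or.inl rfl⟩

theorem xV_mem {K : Type*} [Field K] (m : ℕ) (t u v : K) :
    xV m t u v ∈ (twistedG2 K (3 ^ m)).subgroupOf (chevG2.group K) :=
  wordG_reeV m t u v ▸ wordG_mem certG2 ⟨t, u, v, Or.inr rfl⟩

variable {K : Type*} [Field K] [Fintype K] {m : ℕ} (hK : Fintype.card K = 3 ^ (2 * m + 1))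
include hK

theorem charG2 : CharP K 3 := exists_char Nat.prime_three (Nat.succ_pos _) hK

theorem twFieldG2 : TwField K 3 [1, 3] :=
  have := charG2 hK
  have : Fact (Nat.Prime 3) := ⟨Nat.prime_three⟩
  twField_prime K 3 (perfect (Nat.succ_pos _) hK)

theorem three_eq_zero_G2 : (3 : K) = 0 := by exact_mod_cast (twFieldG2 hK).cast_zero 3 rfl

theorem exists_frG2 : ∃ f : K →+* K, ∀ x, f x = x ^ 3 ^ m :=
  have := charG2 hK
  have : Fact (Nat.Prime 3) := ⟨Nat.prime_three⟩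
  ⟨iterateFrobenius K 3 m, fun _ => iterateFrobenius_def ..⟩

/-- the `3 ^ m`-th power endomorphism -/
noncomputable def frG2 : K →+* K := (exists_frG2 hK).choose

theorem frG2_apply (x : K) : frG2 hK x = x ^ 3 ^ m := (exists_frG2 hK).choose_spec x

theorem add_powG2 (x y : K) : (x + y) ^ 3 ^ m = x ^ 3 ^ m + y ^ 3 ^ m := by
  simp only [← frG2_apply hK, map_add]

theorem add_cubeG2 (x y : K) : (x + y) ^ (3 : ℕ) = x ^ (3 : ℕ) + y ^ (3 : ℕ) :=
  (twFieldG2 hK).add_pow 3 (by simp) x y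

omit hK [Fintype K] in
theorem neg_powG2 (x : K) : (-x) ^ 3 ^ m = -(x ^ 3 ^ m) := Odd.neg_pow ((by decide : Odd 3).pow) x

omit hK [Fintype K] in
theorem neg_cubeG2 (x : K) : (-x) ^ (3 : ℕ) = -(x ^ (3 : ℕ)) := Odd.neg_pow (by decide) x

theorem pow_twG2 (t : K) : ((t ^ 3 ^ m) ^ 3 ^ m) ^ (3 : ℕ) = t := by
  rw [← pow_mul, ← pow_mul, show 3 ^ m * (3 ^ m * 3) = 3 ^ (2 * m + 1) by ring, ← hK]
  exact FiniteField.pow_card t

theorem pow_twG2' (t : K) : ((t ^ 3 ^ m) ^ (3 : ℕ)) ^ 3 ^ m = t := by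
  rw [← pow_mul (t ^ 3 ^ m), mul_comm 3, pow_mul, pow_twG2 hK]

/-- the twisting endomorphism -/
noncomputable def σG2 : ↥(chevG2.group K) →* ↥(chevG2.group K) :=
  (twEnd certG2 (twFieldG2 hK) twOkG2 twPerG2 witG2 connG2).comp (powEnd (frG2 hK))

theorem σG2_gen (r : ℕ) (t : K) : σG2 hK (xG certG2 K r t) =
    xG certG2 K (twAt chevG2 twTG2 r).1
      (((twAt chevG2 twTG2 r).2.1 : K) * (frG2 hK t) ^ (twAt chevG2 twTG2 r).2.2) := by
  rw [σG2, MonoidHom.comp_apply, powEnd_gen, twEnd_gen]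
  rfl

theorem σG2_long {r r' : ℕ} (h : twAt chevG2 twTG2 r = (r', 1, 1)) (t : K) :
    σG2 hK (xG certG2 K r t) = xG certG2 K r' (t ^ 3 ^ m) := by
  rw [σG2_gen, h, frG2_apply]
  simp

theorem σG2_short {r r' : ℕ} (h : twAt chevG2 twTG2 r = (r', 1, 3)) (t : K) :
    σG2 hK (xG certG2 K r t) = xG certG2 K r' ((t ^ 3 ^ m) ^ (3 : ℕ)) := by
  rw [σG2_gen, h, frG2_apply]
  simp

theorem swap7_6 (p r : K) : xG certG2 K 6 r * xG certG2 K 7 p = xG certG2 K 7 p * xG certG2 K 6 r *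
    (xG certG2 K 8 (p * r) * (xG certG2 K 9 (p ^ (2 : ℕ) * r) *
      (xG certG2 K 10 (-(p ^ (3 : ℕ) * r)) * xG certG2 K 11 (-(p ^ (3 : ℕ) * r ^ (2 : ℕ)))))) := by
  obtain ⟨⟨t1, -, -, -⟩, ⟨⟨n1, n2⟩, -⟩, hm⟩ := termsG2
  rw [xG_swap certG2 (hm 7 (by decide)) (hm 6 (by decide)) n1 n2 t1 p r]
  simp only [List.map_cons, List.map_nil, List.prod_cons, List.prod_nil, mul_one]
  congr 5 <;> push_cast <;> ring

theorem swap4_5 (p r : K) : xG certG2 K 5 r * xG certG2 K 4 p = xG certG2 K 4 p * xG certG2 K 5 r *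
    (xG certG2 K 3 (-(p * r)) * (xG certG2 K 2 (p ^ (2 : ℕ) * r) *
      (xG certG2 K 1 (p ^ (3 : ℕ) * r) * xG certG2 K 0 (-(p ^ (3 : ℕ) * r ^ (2 : ℕ)))))) := by
  obtain ⟨⟨-, t1, -, -⟩, ⟨-, ⟨n1, n2⟩, -⟩, hm⟩ := termsG2
  rw [xG_swap certG2 (hm 4 (by decide)) (hm 5 (by decide)) n1 n2 t1 p r]
  simp only [List.map_cons, List.map_nil, List.prod_cons, List.prod_nil, mul_one]
  congr 5 <;> push_cast <;> ring

theorem quad_mul {c d e f : ℕ} (hcd : chkModTerms chevG2 3 c d = true) (hce : chkModTerms chevG2 3 c e = true)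
    (hcf : chkModTerms chevG2 3 c f = true) (hde : chkModTerms chevG2 3 d e = true)
    (hdf : chkModTerms chevG2 3 d f = true) (hef : chkModTerms chevG2 3 e f = true) (a b g h a' b' g' h' : K) :
    xG certG2 K c a * (xG certG2 K d b * (xG certG2 K e g * xG certG2 K f h)) *
      (xG certG2 K c a' * (xG certG2 K d b' * (xG certG2 K e g' * xG certG2 K f h'))) =
    xG certG2 K c (a + a') * (xG certG2 K d (b + b') * (xG certG2 K e (g + g') * xG certG2 K f (h + h'))) := by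
  have cm := fun {r s : ℕ} (w : chkModTerms chevG2 3 r s = true) (x y : K) =>
    xG_commute_mod certG2 (twFieldG2 hK) w x y
  rw [← xG_pow_mul, ← xG_pow_mul, ← xG_pow_mul, ← xG_pow_mul]
  simp only [mul_assoc]
  rw [(cm hcf a' h).symm.left_comm, (cm hce a' g).symm.left_comm, (cm hcd a' b).symm.left_comm,
    (cm hdf b' h).symm.left_comm, (cm hde b' g).symm.left_comm, (cm hef g' h).symm.left_comm]

theorem σ_xRee {a b c d e f : ℕ} (s : K) (hs2 : s ^ 3 ^ m = s) (hs3 : s ^ (3 : ℕ) = s)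
    (h1 : twAt chevG2 twTG2 a = (b, 1, 3)) (h2 : twAt chevG2 twTG2 b = (a, 1, 1))
    (h3 : twAt chevG2 twTG2 c = (e, 1, 3)) (h4 : twAt chevG2 twTG2 e = (c, 1, 1))
    (h5 : twAt chevG2 twTG2 d = (f, 1, 3)) (h6 : twAt chevG2 twTG2 f = (d, 1, 1))
    (hcd : chkModTerms chevG2 3 c d = true) (hce : chkModTerms chevG2 3 c e = true)
    (hcf : chkModTerms chevG2 3 c f = true) (hde : chkModTerms chevG2 3 d e = true)
    (hdf : chkModTerms chevG2 3 d f = true) (hef : chkModTerms chevG2 3 e f = true)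
    (hsw : ∀ P R : K, xG certG2 K b (s * R) * xG certG2 K a (s * P) = xG certG2 K a (s * P) * xG certG2 K b (s * R) *
      (xG certG2 K c (s * (P * R)) * (xG certG2 K d (s * (P ^ (2 : ℕ) * R)) *
        (xG certG2 K e (s * -(P ^ (3 : ℕ) * R)) * xG certG2 K f (s * -(P ^ (3 : ℕ) * R ^ (2 : ℕ)))))))
    (t u v : K) : σG2 hK (xRee m s a b c d e f t u v) = xRee m s a b c d e f t u v := by
  have e1 : ((t ^ 3 ^ m * t + u ^ 3 ^ m) ^ 3 ^ m) ^ (3 : ℕ) = t * (t ^ 3 ^ m) ^ (3 : ℕ) + u := by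
    rw [add_powG2 hK, add_cubeG2 hK, mul_pow, mul_pow, pow_twG2 hK, pow_twG2 hK]
  have e2 : (((t ^ 3 ^ m) ^ (2 : ℕ) * t + v ^ 3 ^ m) ^ 3 ^ m) ^ (3 : ℕ) =
      t ^ (2 : ℕ) * (t ^ 3 ^ m) ^ (3 : ℕ) + v := by
    rw [add_powG2 hK, add_cubeG2 hK, mul_pow, mul_pow, pow_twG2 hK, ← pow_mul (t ^ 3 ^ m) 2, mul_comm 2,
      pow_mul (t ^ 3 ^ m), ← pow_mul, mul_comm 2, pow_mul, pow_twG2 hK]
  have cm := fun {r r' : ℕ} (w : chkModTerms chevG2 3 r r' = true) (x y : K) =>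
    xG_commute_mod certG2 (twFieldG2 hK) w x y
  simp only [xRee, map_mul, σG2_long hK h2, σG2_long hK h4, σG2_long hK h6, σG2_short hK h1, σG2_short hK h3,
    σG2_short hK h5]
  simp only [mul_pow, hs2, hs3]
  rw [pow_twG2 hK t, e1, e2, ← mul_assoc (xG certG2 K b (s * t)), hsw, mul_assoc (xG certG2 K a (s * t ^ 3 ^ m)) _ _,
    mul_assoc (xG certG2 K a (s * t ^ 3 ^ m)), mul_assoc (xG certG2 K b (s * t))]
  congr 2
  rw [(cm hcf _ _).symm.left_comm, (cm hdf _ _).symm.eq, (cm hce _ _).symm.left_comm, (cm hde _ _).symm.left_comm,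
    quad_mul hK hcd hce hcf hde hdf hef]
  congr 2
  · ring
  congr 2
  · ring
  congr 2 <;> ring

theorem σ_xU (t u v : K) : σG2 hK (xU m t u v) = xU m t u v := by
  obtain ⟨⟨a1, a2, a3, a4, a5, a6⟩, -⟩ := twAtG2
  obtain ⟨⟨c1, c2, c3, c4, c5, c6⟩, -, -⟩ := commG2
  refine σ_xRee hK 1 (one_pow _) (one_pow _) a1 a2 a3 a4 a5 a6 c1 c2 c3 c4 c5 c6 (fun P R => ?_) t u v
  simp only [one_mul]
  exact swap7_6 hK P R

theorem σ_xV (t u v : K) : σG2 hK (xV m t u v) = xV m t u v := by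
  obtain ⟨-, ⟨a1, a2, a3, a4, a5, a6⟩⟩ := twAtG2
  obtain ⟨-, ⟨c1, c2, c3, c4, c5, c6⟩, -⟩ := commG2
  refine σ_xRee hK (-1) (by rw [neg_powG2, one_pow]) (by rw [neg_cubeG2, one_pow]) a1 a2 a3 a4 a5 a6
    c1 c2 c3 c4 c5 c6 (fun P R => ?_) t u v
  rw [swap4_5 hK, show -((-1 * P) * (-1 * R)) = -1 * (P * R) by ring,
    show (-1 * P) ^ (2 : ℕ) * (-1 * R) = -1 * (P ^ (2 : ℕ) * R) by ring,
    show (-1 * P) ^ (3 : ℕ) * (-1 * R) = -1 * -(P ^ (3 : ℕ) * R) by ring,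
    show -((-1 * P) ^ (3 : ℕ) * (-1 * R) ^ (2 : ℕ)) = -1 * -(P ^ (3 : ℕ) * R ^ (2 : ℕ)) by ring]

theorem fixG2 (w : List (ℕ × K)) (hw : w ∈ g2Words K (3 ^ m)) : σG2 hK (wordG certG2 w) = wordG certG2 w := by
  obtain ⟨t, u, v, rfl | rfl⟩ := hw
  · rw [wordG_reeU]; exact σ_xU hK t u v
  · rw [wordG_reeV]; exact σ_xV hK t u v

omit hK in
/-- the orbit map -/
def orbG2 (i : Fin chevG2.rank) : Fin 1 :=
  ⟨orbLG2.getD (i : ℕ) 0, ((twShape_spec twOkG2 shapeG2).2.2.1 i).2.2.1⟩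

omit hK in
theorem orbG2_ho (i : Fin chevG2.rank) : orbLG2.getD (i : ℕ) 0 = (orbG2 i : ℕ) := rfl

/-- products over the class in increasing order of roots -/
noncomputable def srtG2 {K : Type*} [Field K] (a b c d e f : K) : ↥(chevG2.group K) :=
  xG certG2 K 6 a * (xG certG2 K 7 b * (xG certG2 K 8 c * (xG certG2 K 9 d * (xG certG2 K 10 e * xG certG2 K 11 f))))

theorem sortG2 (a b c d e f : K) :
    xG certG2 K 7 b * (xG certG2 K 6 a * (xG certG2 K 8 c * (xG certG2 K 9 d * (xG certG2 K 10 e * xG certG2 K 11 f)))) =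
      srtG2 a b (c - b * a) (d - b ^ (2 : ℕ) * a) (e + b ^ (3 : ℕ) * a) (f + b ^ (3 : ℕ) * a ^ (2 : ℕ)) := by
  obtain ⟨⟨c1, c2, c3, c4, c5, c6⟩, -, -⟩ := commG2
  rw [srtG2]
  conv_rhs => rw [← mul_assoc, swap7_6 hK]
  rw [mul_assoc (xG certG2 K 7 b * xG certG2 K 6 a), quad_mul hK c1 c2 c3 c4 c5 c6, mul_assoc]
  congr 2
  congr 2
  · ring
  congr 2
  · ring
  congr 2 <;> ring

theorem xU_sorted (t u v : K) : xU m t u v = srtG2 t (t ^ 3 ^ m) (u ^ 3 ^ m) (v ^ 3 ^ m)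
    ((t ^ 3 ^ m) ^ (3 : ℕ) * t + u) ((t ^ 3 ^ m) ^ (3 : ℕ) * t ^ (2 : ℕ) + v) := by
  rw [xU, xRee]
  simp only [one_mul]
  rw [sortG2 hK]
  congr 1 <;> ring

theorem srtG2_inj {a b c d e f a' b' c' d' e' f' : K} (h : srtG2 a b c d e f = srtG2 a' b' c' d' e' f') :
    a = a' ∧ b = b' ∧ c = c' ∧ d = d' ∧ e = e' ∧ f = f' := by
  obtain ⟨g, hg⟩ : ∃ g : K → K → K → K → K → K → ℕ → K,
      g = fun a b c d e f r => [a, b, c, d, e, f].getD (r - 6) 0 := ⟨_, rfl⟩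
  have key := (chevRel certG2 K).class_prod_inj (X := auxG2) (orbL := orbLG2) (k := 0)
    (t := g a b c d e f) (t' := g a' b' c' d' e' f') (by
      rw [classG2, hg]
      simp only [List.map_cons, List.map_nil, List.prod_cons, List.prod_nil, mul_one]
      exact h)
  rw [classG2, hg] at key
  exact ⟨key 6 (by simp), key 7 (by simp), key 8 (by simp), key 9 (by simp), key 10 (by simp), key 11 (by simp)⟩

theorem classG2_fixed {g : ↥(chevG2.group K)}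
    (hg : g ∈ (chevRel certG2 K).US (posSub chevG2 auxG2 orbG2 0)) (hfix : σG2 hK g = g) :
    ∃ t u v : K, g = xU m t u v := by
  obtain ⟨⟨b1, b2, b3, b4, b5, b6⟩, -⟩ := twAtG2
  obtain ⟨⟨c1, c2, c3, c4, c5, c6⟩, -, -⟩ := commG2
  obtain ⟨s, rfl⟩ := (chevRel certG2 K).exists_class_prod orbG2 0 orbG2_ho (wordG2 0) hg
  have hl : classList chevG2 auxG2 orbLG2 ((0 : Fin 1) : ℕ) = [6, 7, 8, 9, 10, 11] := classG2
  rw [hl] at hfix ⊢
  simp only [List.map_cons, List.map_nil, List.prod_cons, List.prod_nil, mul_one] at hfix ⊢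
  have h : σG2 hK (srtG2 (s 6) (s 7) (s 8) (s 9) (s 10) (s 11)) = srtG2 (s 6) (s 7) (s 8) (s 9) (s 10) (s 11) :=
    hfix
  have cm := fun {r r' : ℕ} (w : chkModTerms chevG2 3 r r' = true) (x y : K) =>
    xG_commute_mod certG2 (twFieldG2 hK) w x y
  conv_lhs at h => simp only [srtG2, map_mul, σG2_long hK b2, σG2_long hK b4, σG2_long hK b6, σG2_short hK b1,
    σG2_short hK b3, σG2_short hK b5]
  rw [(cm c3 _ _).symm.left_comm, (cm c5 _ _).symm.eq, (cm c2 _ _).symm.left_comm, (cm c4 _ _).symm.left_comm,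
    sortG2 hK] at h
  obtain ⟨-, h7, h8, h9, -, -⟩ := srtG2_inj hK h
  refine ⟨s 6, s 10 - (s 7) ^ (3 : ℕ) * s 6, s 11 - (s 7) ^ (3 : ℕ) * s 6 ^ (2 : ℕ), ?_⟩
  show srtG2 (s 6) (s 7) (s 8) (s 9) (s 10) (s 11) = _
  rw [xU_sorted hK, h7]
  have hh : ∀ w : K, (w ^ 3 ^ m) ^ (3 : ℕ) = ((w ^ (3 : ℕ))) ^ 3 ^ m := fun w => pow_right_comm _ _ _
  have e7 : ((s 7) ^ (3 : ℕ)) ^ 3 ^ m = s 6 := by
    rw [← h7]; exact pow_twG2' hK _
  congr 1
  · rw [sub_eq_add_neg, add_powG2 hK, neg_powG2, mul_pow, e7, h7]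
    rw [← h8]
    rw [hh, e7, h7]
    ring
  · rw [sub_eq_add_neg, add_powG2 hK, neg_powG2, mul_pow, e7, ← pow_mul (s 6), mul_comm 2, pow_mul (s 6), h7]
    rw [← h9]
    rw [hh, e7, h7]
    ring
  · ring
  · ring

theorem hAG2 (k : Fin 1) (u : ↥(chevG2.group K)) (hu : u ∈ (chevRel certG2 K).US (posSub chevG2 auxG2 orbG2 k))
    (hσ : σG2 hK u = u) : u ∈ (twistedG2 K (3 ^ m)).subgroupOf (chevG2.group K) := by
  fin_cases k
  obtain ⟨t, v, w, rfl⟩ := classG2_fixed hK hu hσ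
  exact xU_mem m t v w

omit hK [Fintype K] in
theorem hBG2 (k : Fin 1) : ∃ u ∈ (twistedG2 K (3 ^ m)).subgroupOf (chevG2.group K),
    u ∈ (chevRel certG2 K).US (negSub chevG2 auxG2 orbG2 k) ∧ u ≠ 1 := by
  obtain ⟨-, -, ⟨k2, k0, n20⟩, -, -⟩ := simpleG2
  obtain ⟨-, -, hm⟩ := termsG2
  fin_cases k
  have e : xV m (0 : K) 0 1 = xG certG2 K 2 (-1) * xG certG2 K 0 (-1) := by
    simp only [xV, xRee, zero_pow (Nat.pos_of_ne_zero (NeZero.ne (3 ^ m))).ne', one_pow, mul_zero, zero_mul,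
      zero_pow two_ne_zero, zero_add, mul_one,
      show ∀ r, xG certG2 K r (0 : K) = 1 from fun r => (chevRel certG2 K).xe_zero r, one_mul]
  refine ⟨_, e ▸ xV_mem m (0 : K) 0 1, mul_mem (xG_negClass_mem certG2 orbG2_ho (k := 0) k2 _)
    (xG_negClass_mem certG2 orbG2_ho (k := 0) k0 _), fun h => n20 ?_⟩
  have h2 : xG certG2 K 2 (-1 : K) = xG certG2 K 0 (1 : K) := by
    rw [eq_inv_of_mul_eq_one_left h]
    exact (((chevRel certG2 K).xe_neg _ _).symm.trans (congrArg _ (neg_neg _)))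
  exact congrArg Fin.val ((chevRel certG2 K).xe_inj_root (r := ⟨2, hm 2 (by decide)⟩) (r' := ⟨0, hm 0 (by decide)⟩)
    (neg_ne_zero.2 one_ne_zero) h2)

/-- the twisted group as data -/
noncomputable def twG2 : TwG (chevRel certG2 K) :=
  mkTwG certG2 (twFieldG2 hK) twOkG2 shapeG2 (frG2 hK) (σG2 hK) (σG2_gen hK) (g2Words K (3 ^ m)) descG2
    (fixG2 hK) (hAG2 hK) hBG2

theorem twG2_P1 : (twG2 hK).P1 = (twistedG2 K (3 ^ m)).subgroupOf (chevG2.group K) := rfl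

omit hK [Fintype K] in
theorem twG2_le : twistedG2 K (3 ^ m) ≤ chevG2.group K := genSubgroup_le certG2 _

theorem xU_mem_class (t u v : K) : xU m t u v ∈ (chevRel certG2 K).US (posSub chevG2 auxG2 orbG2 0) := by
  have hl : classList chevG2 auxG2 orbLG2 ((0 : Fin 1) : ℕ) = [6, 7, 8, 9, 10, 11] := classG2
  have hm : ∀ r ∈ [6, 7, 8, 9, 10, 11], ∀ x : K,
      xG certG2 K r x ∈ (chevRel certG2 K).US (posSub chevG2 auxG2 orbG2 0) := fun r hr x =>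
    xG_class_mem certG2 orbG2_ho 0 (hl ▸ hr) x
  exact mul_mem (hm 7 (by simp) _) (mul_mem (hm 6 (by simp) _) (mul_mem (hm 8 (by simp) _)
    (mul_mem (hm 9 (by simp) _) (mul_mem (hm 10 (by simp) _) (hm 11 (by simp) _)))))

theorem xU_inj {t u v t' u' v' : K} (h : xU m t u v = xU m t' u' v') : t = t' ∧ u = u' ∧ v = v' := by
  rw [xU_sorted hK, xU_sorted hK] at h
  obtain ⟨h1, -, -, -, h5, h6⟩ := srtG2_inj hK h
  subst h1
  exact ⟨rfl, add_left_cancel h5, add_left_cancel h6⟩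

theorem card_classG2 :
    Nat.card ↥((twG2 hK).P1 ⊓ (chevRel certG2 K).US (posSub chevG2 auxG2 orbG2 0)) = (3 ^ (2 * m + 1)) ^ 3 := by
  refine (Nat.card_eq_of_bijective (fun x : K × K × K =>
    (⟨xU m x.1 x.2.1 x.2.2, Subgroup.mem_inf.2 ⟨xU_mem m _ _ _, xU_mem_class hK _ _ _⟩⟩ :
      ↥((twG2 hK).P1 ⊓ (chevRel certG2 K).US (posSub chevG2 auxG2 orbG2 0)))) ⟨?_, ?_⟩).symm.trans ?_
  · intro x y e
    obtain ⟨h1, h2, h3⟩ := xU_inj hK (congrArg Subtype.val e)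
    exact Prod.ext h1 (Prod.ext h2 h3)
  · intro g
    obtain ⟨t, u, v, e⟩ := classG2_fixed hK (Subgroup.mem_inf.1 g.2).2
      ((twG2 hK).hfix _ (Subgroup.mem_inf.1 g.2).1)
    exact ⟨(t, u, v), Subtype.ext e.symm⟩
  · rw [Nat.card_prod, Nat.card_prod, Nat.card_eq_fintype_card, hK]; ring

theorem classCardG2 : (twG2 hK).ClassCard (3 ^ (2 * m + 1)) 2 := by
  intro k
  change Fin 1 at k
  fin_cases k
  exact ⟨3, (class_ncard orbG2_ho 0 certG2).trans (by simp [classG2]), card_classG2 hK⟩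

theorem orbListG2 : (twG2 hK).OrbList orbLG2 := fun _ => rfl

theorem faithfulG2 : (twG2 hK).TorusFaithful := by
  obtain ⟨⟨s0, s1⟩, -, -, ⟨r06, r08, r09, r010, r011⟩, ⟨r17, r18, r19, r110, r111⟩⟩ := simpleG2
  refine torusFaithful_of certG2 (twG2 hK) fun i => ⟨1, one_ne_zero, ?_⟩
  obtain ⟨i, hi⟩ := i
  have hi2 : i < 2 := hi
  have hl : classList chevG2 auxG2 orbLG2 ((0 : Fin 1) : ℕ) = [6, 7, 8, 9, 10, 11] := classG2
  have rest : ∀ r ∈ [6, 7, 8, 9, 10, 11], ∀ x : K, chkRest chevG2 i r = true →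
      xG certG2 K r x ∈ (chevRel certG2 K).US ((chevRel certG2 K).restSet ⟨i, hi⟩) := fun r hr x h =>
    xG_mem_rest certG2 ⟨i, hi⟩ (classList_lt certG2 orbG2_ho 0 (hl ▸ hr)).2 h x
  have horb : (twG2 hK).orb ⟨i, hi⟩ = (0 : Fin 1) := Subsingleton.elim (α := Fin 1) _ _
  rw [horb]
  have hc := xU_mem_class hK (1 : K) 0 0
  have hp := xU_mem m (1 : K) 0 0
  have eU : xU m (1 : K) 0 0 = xG certG2 K 7 1 * (xG certG2 K 6 1 * (xG certG2 K 8 1 *
      (xG certG2 K 9 1 * (xG certG2 K 10 0 * xG certG2 K 11 0)))) := by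
    simp only [xU, xRee, one_pow, one_mul, zero_pow (Nat.pos_of_ne_zero (NeZero.ne (3 ^ m))).ne', add_zero]
  rw [eU] at hc hp
  interval_cases i
  · refine ⟨xG certG2 K 6 1 * (xG certG2 K 8 1 * (xG certG2 K 9 1 * (xG certG2 K 10 0 * xG certG2 K 11 0))),
      mul_mem (rest 6 (by simp) _ r06) (mul_mem (rest 8 (by simp) _ r08) (mul_mem (rest 9 (by simp) _ r09)
        (mul_mem (rest 10 (by simp) _ r010) (rest 11 (by simp) _ r011)))), ?_, ?_⟩ <;> rw [s0]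
    · exact hc
    · exact hp
  · rw [sortG2 hK, srtG2] at hc hp
    refine ⟨?w, ?hr, ?hc, ?hp⟩
    case hc => rw [s1]; exact hc
    case hp => rw [s1]; exact hp
    exact mul_mem (rest 7 (by simp) _ r17) (mul_mem (rest 8 (by simp) _ r18) (mul_mem (rest 9 (by simp) _ r19)
      (mul_mem (rest 10 (by simp) _ r110) (rest 11 (by simp) _ r111))))

theorem card_G2_enum : (Nat.card ↥(twistedG2 K (3 ^ m)) : ℤ) = ((3 ^ (2 * m + 1) : ℕ) : ℤ) ^ 3 *
    (Nat.card ↥((twG2 hK).P1 ⊓ (chevRel certG2 K).HS) : ℤ) *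
      horner ((3 ^ (2 * m + 1) : ℕ) : ℤ) (layerPoly layersTG2) := by
  have := (chevRel certG2 K).Finite_of_field
  rw [card_twisted certG2 twG2_le (twG2 hK) (twG2_P1 hK)]
  exact (twG2 hK).card_P1_enum (orbListG2 hK) rfl wordsTG2_ok enumTG2_ok two_pos (classCardG2 hK)
    (show half chevG2 = 2 * 3 by decide +kernel)

theorem permW_card_G2 : Nat.card ↥(twG2 hK).permW = 2 :=
  (twG2 hK).card_permW (orbListG2 hK) rfl wordsTG2_ok enumTG2_ok (by decide +kernel)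

theorem weylG2 : Nonempty (↥(twG2 hK).permW ≃* Multiplicative (ZMod 2)) :=
  ⟨mulEquivOfPrimeCardEq (permW_card_G2 hK) (by simp)⟩

end TwGroups

end CfsgLib.Lie.Chev
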