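/-
Conjugation of torus elements by monomial elements.
-/
import Cfsg.Agent.Lib.Lie.Twisted.Tools

set_option autoImplicit false

namespace CfsgLib.Lie.Chev

open Cfsg.Lie (ChevalleyDatum)

namespace Rel

variable {D : ChevalleyDatum} {X : Aux} {F : Type*} [Field F] {G : Type*} [Group G] (R : Rel D X F G)
include R

/-- the torus parametrisation into the whole group -/
def torusG : (Fin D.rank → Fˣ) →* G := R.HS.subtype.comp R.torusHom

theorem torusG_apply (c : Fin D.rank → Fˣ) : R.torusG c = (R.torusHom c : G) := rfl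

theorem torusG_single (i : Fin D.rank) (u : Fˣ) :
    R.torusG (Pi.mulSingle i u) = R.he (D.simple i) (u : F) := congrArg Subtype.val (R.torusHom_single i u)

omit R in
theorem piUnits_ext {l : ℕ} {φ ψ : (Fin l → Fˣ) →* G}
    (h : ∀ (i : Fin l) (u : Fˣ), φ (Pi.mulSingle i u) = ψ (Pi.mulSingle i u)) : φ = ψ := by
  refine MonoidHom.ext fun c => ?_
  have : c ∈ φ.eqLocus ψ := by
    rw [← Finset.univ_prod_mulSingle c]
    exact Subgroup.prod_mem _ fun i _ => h i (c i)
  exact this

theorem ne_conj_he_eq (i j : Fin D.rank) {c : F} (hc : c ≠ 0) :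
    R.ne (D.simple j) 1 * R.he (D.simple i) c * (R.ne (D.simple j) 1)⁻¹ =
      R.he (D.simple i) c * R.he (D.simple j) (c⁻¹ ^ D.cartan i (D.simple j)) := by
  obtain ⟨g, hg, hM⟩ : ∃ g, g = (R.he (D.simple i) c)⁻¹ ∧
      (R.IsMon g 1 fun r => c⁻¹ ^ D.cartan i r) := by
    refine ⟨_, rfl, ?_⟩
    have := R.isMon_inv (R.isMon_he_simple i hc)
    simpa [inv_one, inv_zpow] using this
  have h1 := IsMon.conj_ne R hM (R.sroot j) 1
  simp only [Equiv.Perm.one_apply, sroot, mul_one] at h1
  have h3 : R.ne (D.simple j) 1 * R.he (D.simple i) c * (R.ne (D.simple j) 1)⁻¹ =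
      g⁻¹ * (R.ne (D.simple j) (c⁻¹ ^ D.cartan i (D.simple j)) * (R.ne (D.simple j) 1)⁻¹) := by
    rw [← h1, show R.he (D.simple i) c = g⁻¹ by rw [hg, inv_inv]]
    group
  rw [h3, R.ne_eq_he_mul _ (c⁻¹ ^ _), mul_inv_cancel_right, hg, inv_inv]

/-- a simple reflection on the torus parameters -/
def reflPar (j : Fin D.rank) : (Fin D.rank → Fˣ) →* (Fin D.rank → Fˣ) where
  toFun c := c * Pi.mulSingle j (∏ i, c i ^ (-D.cartan i (D.simple j)))
  map_one' := by simp
  map_mul' a b := by
    simp only [Pi.mul_apply, mul_zpow, Finset.prod_mul_distrib, Pi.mulSingle_mul]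
    exact mul_mul_mul_comm _ _ _ _

theorem ne_conj_torusG (j : Fin D.rank) (c : Fin D.rank → Fˣ) :
    R.ne (D.simple j) 1 * R.torusG c * (R.ne (D.simple j) 1)⁻¹ = R.torusG (reflPar j c) := by
  have : (MulAut.conj (R.ne (D.simple j) 1)).toMonoidHom.comp R.torusG = R.torusG.comp (reflPar j) := by
    refine piUnits_ext fun i u => ?_
    show R.ne (D.simple j) 1 * R.torusG _ * (R.ne (D.simple j) 1)⁻¹ = R.torusG (_ * _)
    rw [map_mul, R.torusG_single, R.torusG_single, R.ne_conj_he_eq i j u.ne_zero]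
    congr 2
    rw [Finset.prod_eq_single i]
    · rw [Pi.mulSingle_eq_same, Units.val_zpow_eq_zpow_val, zpow_neg, inv_zpow]
    · intro k _ hk; rw [Pi.mulSingle_eq_of_ne hk, one_zpow]
    · simp
  exact DFunLike.congr_fun this c

/-- monomial elements with the same permutation act equally on the torus -/
theorem conj_torusG_congr {g h : G} {σ : Equiv.Perm (Fin D.nroots)} {a b : Fin D.nroots → F}
    (hg : R.IsMon g σ a) (hh : R.IsMon h σ b) (c : Fin D.rank → Fˣ) :
    g * R.torusG c * g⁻¹ = h * R.torusG c * h⁻¹ := by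
  have : (MulAut.conj g).toMonoidHom.comp R.torusG = (MulAut.conj h).toMonoidHom.comp R.torusG := by
    refine piUnits_ext fun i u => ?_
    show g * R.torusG _ * g⁻¹ = h * R.torusG _ * h⁻¹
    rw [R.torusG_single, R.he_conj_simple hg i u.ne_zero, R.he_conj_simple hh i u.ne_zero]
  exact DFunLike.congr_fun this c

end Rel

end CfsgLib.Lie.Chev
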