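/-
The fixed torus of the twisted groups of type F4, and the order formula.
-/
import Cfsg.Agent.Lib.Lie.Twisted.F4
import Cfsg.Agent.Lib.Lie.Twisted.TorusConj
import Cfsg.Agent.Lib.Lie.Rel.Order

set_option autoImplicit false

namespace CfsgLib.Lie.Chev.TwGroups

open Cfsg.Lie

theorem lengthF4 : chevF4.rank = 4 := by decide +kernel

theorem cartF4_simple : ∀ i j : Fin chevF4.rank,
    chevF4.cartan i (chevF4.simple j) = (cartF4.getD (i : ℕ) []).getD (j : ℕ) 0 := by decide +kernel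

variable {K : Type*} [Field K]

/-- four parameters on the simple roots -/
def tupF4 (z0 z1 z2 z3 : Kˣ) : Fin chevF4.rank → Kˣ := fun i => [z0, z1, z2, z3].getD (i : ℕ) 1

theorem tupF4_val (z0 z1 z2 z3 : Kˣ) :
    (chevRel certF4 K).torusG (tupF4 z0 z1 z2 z3) =
      (chevRel certF4 K).he 33 (z0 : K) * (chevRel certF4 K).he 27 (z1 : K) * (chevRel certF4 K).he 25 (z2 : K) *
        (chevRel certF4 K).he 24 (z3 : K) := by
  obtain ⟨⟨s0, s1, s2, s3⟩, -, -⟩ := simpleF4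
  rw [Rel.torusG_apply, torusHom_val]
  have e : (List.finRange chevF4.rank).map (fun i : Fin chevF4.rank =>
      (chevRel certF4 K).he (chevF4.simple (i : ℕ)) ((tupF4 z0 z1 z2 z3 i : Kˣ) : K)) =
      (List.range 4).map fun i => (chevRel certF4 K).he (chevF4.simple i) (([z0, z1, z2, z3].getD i 1 : Kˣ) : K) := by
    rw [← List.map_coe_finRange_eq_range, List.map_map]
    rfl
  rw [e]
  simp only [List.range_succ, List.range_zero, List.nil_append, List.cons_append, List.map_cons, List.map_nil,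
    List.prod_cons, List.prod_nil, mul_one, s0, s1, s2, s3, List.getD_cons_zero, List.getD_cons_succ, mul_assoc]

/-- the monomial lift of the word of the class of type B2 -/
noncomputable def nB2 (K : Type*) [Field K] : ↥(chevF4.group K) :=
  (chevRel certF4 K).ne (chevF4.simple 1) 1 * ((chevRel certF4 K).ne (chevF4.simple 2) 1 *
    ((chevRel certF4 K).ne (chevF4.simple 1) 1 * (chevRel certF4 K).ne (chevF4.simple 2) 1))

theorem reflPar_two (z0 z1 z2 z3 : Kˣ) (h : 2 < chevF4.rank) :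
    Rel.reflPar (D := chevF4) (F := K) ⟨2, h⟩ (tupF4 z0 z1 z2 z3) = tupF4 z0 z1 (z1 ^ (2 : ℕ) * z2⁻¹ * z3) z3 := by
  funext i
  obtain ⟨i, hi⟩ := i
  have hi4 : i < 4 := hi
  show tupF4 z0 z1 z2 z3 ⟨i, hi⟩ * Pi.mulSingle (M := fun _ => Kˣ) (⟨2, h⟩ : Fin chevF4.rank) _ ⟨i, hi⟩ = _
  have e : ∏ k, tupF4 z0 z1 z2 z3 k ^ (-chevF4.cartan k (chevF4.simple (2 : ℕ))) = z1 ^ (2 : ℕ) * (z2 ^ (2 : ℕ))⁻¹ * z3 := by
    rw [Fin.prod_univ_def]
    refine Eq.trans (congrArg List.prod (?_ : _ = (List.range 4).map fun k =>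
      ([z0, z1, z2, z3].getD k 1) ^ (-(cartF4.getD k []).getD 2 0))) ?_
    · rw [show (List.range 4) = List.range chevF4.rank from rfl, ← List.map_coe_finRange_eq_range, List.map_map]
      exact List.map_congr_left fun k _ => by rw [cartF4_simple k ⟨2, h⟩]; rfl
    · simp [List.range_succ, cartF4, mul_assoc]
  rw [e]
  interval_cases i <;> simp [tupF4]
  refine Units.ext ?_
  simp
  field_simp

theorem reflPar_one (z0 z1 z2 z3 : Kˣ) (h : 1 < chevF4.rank) :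
    Rel.reflPar (D := chevF4) (F := K) ⟨1, h⟩ (tupF4 z0 z1 z2 z3) = tupF4 z0 (z0 * z1⁻¹ * z2) z2 z3 := by
  funext i
  obtain ⟨i, hi⟩ := i
  have hi4 : i < 4 := hi
  show tupF4 z0 z1 z2 z3 ⟨i, hi⟩ * Pi.mulSingle (M := fun _ => Kˣ) (⟨1, h⟩ : Fin chevF4.rank) _ ⟨i, hi⟩ = _
  have e : ∏ k, tupF4 z0 z1 z2 z3 k ^ (-chevF4.cartan k (chevF4.simple (1 : ℕ))) = z0 * (z1 ^ (2 : ℕ))⁻¹ * z2 := by
    rw [Fin.prod_univ_def]
    refine Eq.trans (congrArg List.prod (?_ : _ = (List.range 4).map fun k =>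
      ([z0, z1, z2, z3].getD k 1) ^ (-(cartF4.getD k []).getD 1 0))) ?_
    · rw [show (List.range 4) = List.range chevF4.rank from rfl, ← List.map_coe_finRange_eq_range, List.map_map]
      exact List.map_congr_left fun k _ => by rw [cartF4_simple k ⟨1, h⟩]; rfl
    · simp [List.range_succ, cartF4, mul_assoc]
  rw [e]
  interval_cases i <;> simp [tupF4]
  refine Units.ext ?_
  simp
  field_simp

theorem nB2_conj (x y : Kˣ) :
    nB2 K * (chevRel certF4 K).torusG (tupF4 x 1 1 y) * (nB2 K)⁻¹ =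
      (chevRel certF4 K).torusG (tupF4 x (x * x * y) (x * x * (y * y)) y) := by
  obtain ⟨h1, h2⟩ : 1 < chevF4.rank ∧ 2 < chevF4.rank := by decide +kernel
  have s1 := (chevRel certF4 K).ne_conj_torusG ⟨2, h2⟩
  have s2 := (chevRel certF4 K).ne_conj_torusG ⟨1, h1⟩
  simp only [nB2]
  have e : ∀ a b g : ↥(chevF4.group K), a * (b * (a * b)) * g * (a * (b * (a * b)))⁻¹ =
      a * (b * (a * (b * g * b⁻¹) * a⁻¹) * b⁻¹) * a⁻¹ := fun a b g => by group
  rw [e, s1, reflPar_two, s2, reflPar_one, s1, reflPar_two, s2, reflPar_one]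
  refine congrArg _ ?_
  congr 1 <;> refine Units.ext ?_ <;> simp <;> field_simp

theorem mem_kerF4 (z : Fin chevF4.rank → Kˣ) (hz : z ∈ (chevRel certF4 K).torusHom.ker) : z = 1 := by
  rw [mem_torusHom_ker, MonoidHom.mem_ker, cmat_F4] at hz
  have h : ∀ k : Fin chevF4.rank,
      ((List.range 4).map fun i => (if hi : i < chevF4.rank then z ⟨i, hi⟩ else 1) ^
        ((cartF4.getD i []).getD (k : ℕ) 0)).prod = 1 := by
    intro k
    have h2 := congrFun hz k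
    rw [powMat_apply, Pi.one_apply, Fin.prod_univ_def] at h2
    refine Eq.trans ?_ h2
    rw [show (List.range 4) = List.range chevF4.rank from rfl, ← List.map_coe_finRange_eq_range, List.map_map]
    refine congrArg List.prod (List.map_congr_left fun i _ => ?_)
    simp only [Function.comp_apply, dif_pos i.2, Fin.eta, Matrix.of_apply]
  have l : ∀ n, n < 4 → n < chevF4.rank := fun n hn => lt_of_lt_of_eq hn lengthF4.symm
  have g0 := h ⟨0, l 0 (by norm_num)⟩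
  have g1 := h ⟨1, l 1 (by norm_num)⟩
  have g2 := h ⟨2, l 2 (by norm_num)⟩
  have g3 := h ⟨3, l 3 (by norm_num)⟩
  simp [List.range_succ, cartF4, l] at g0 g1 g2 g3
  have shape : ∀ a b c d : Kˣ, a ^ (2 : ℕ) * b⁻¹ = 1 → a⁻¹ * (b ^ (2 : ℕ) * c⁻¹) = 1 →
      (b ^ (2 : ℕ))⁻¹ * (c ^ (2 : ℕ) * d⁻¹) = 1 → c⁻¹ * d ^ (2 : ℕ) = 1 → a = 1 ∧ b = 1 ∧ c = 1 ∧ d = 1 := by
    intro a b c d e0 e1 e2 e3
    have hb : a ^ 2 = b := mul_inv_eq_one.1 e0
    have ha : a = b ^ 2 * c⁻¹ := inv_mul_eq_one.1 e1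
    have hc : c = a ^ 3 := by
      have : a * c = b ^ 2 := by rw [ha, inv_mul_cancel_right]
      rw [← hb, ← pow_mul] at this
      exact mul_left_cancel (this.trans (pow_succ' a 3))
    have hd : d = a ^ 2 := by
      have : b ^ 2 * d = c ^ 2 := by rw [inv_mul_eq_one.1 e2, inv_mul_cancel_right]
      rw [← hb, hc, ← pow_mul, ← pow_mul, show (3 : ℕ) * 2 = 2 * 2 + 2 from rfl, pow_add] at this
      exact mul_left_cancel this
    have h3 := inv_mul_eq_one.1 e3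
    rw [hc, hd, ← pow_mul, show (2 : ℕ) * 2 = 3 + 1 from rfl, pow_add, pow_one] at h3
    have ha1 : a = 1 := mul_left_cancel (h3.symm.trans (mul_one _).symm)
    subst ha1
    simp only [one_pow] at hb hc hd
    exact ⟨rfl, hb.symm, hc, hd⟩
  obtain ⟨e0, e1, e2, e3⟩ := shape _ _ _ _ g0 g1 g2 g3
  funext i
  obtain ⟨i, hi⟩ := i
  have hi4 : i < 4 := hi
  interval_cases i <;> first | exact e0 | exact e1 | exact e2 | exact e3

theorem torusG_injective_F4 : Function.Injective (chevRel certF4 K).torusG := by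
  rw [← MonoidHom.ker_eq_bot_iff, Subgroup.eq_bot_iff_forall]
  intro z hz
  exact mem_kerF4 z (MonoidHom.mem_ker.2 (Subtype.ext (MonoidHom.mem_ker.1 hz)))

/-- the parametrisation of the fixed torus -/
noncomputable def psiF4 (K : Type*) [Field K] (m : ℕ) : Kˣ × Kˣ →* ↥(chevF4.group K) :=
  ((chevRel certF4 K).torusG).comp
    { toFun := fun x => tupF4 (x.1 ^ 2 ^ m) (x.2 ^ 2 ^ m) x.2 x.1
      map_one' := by
        funext i
        obtain ⟨i, hi⟩ := i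
        have hi4 : i < 4 := hi
        interval_cases i <;> simp [tupF4]
      map_mul' := fun x y => by
        funext i
        obtain ⟨i, hi⟩ := i
        have hi4 : i < 4 := hi
        interval_cases i <;> simp [tupF4, mul_pow] }

theorem psiF4_apply (m : ℕ) (x : Kˣ × Kˣ) :
    psiF4 K m x = (chevRel certF4 K).torusG (tupF4 (x.1 ^ 2 ^ m) (x.2 ^ 2 ^ m) x.2 x.1) := rfl

theorem psiF4_injective (m : ℕ) : Function.Injective (psiF4 K m) := by
  intro x y h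
  have := torusG_injective_F4 h
  obtain ⟨l2, l3⟩ : 2 < chevF4.rank ∧ 3 < chevF4.rank := by decide +kernel
  exact Prod.ext (congrFun this ⟨3, l3⟩) (congrFun this ⟨2, l2⟩)

variable [Fintype K] {m : ℕ} (hK : Fintype.card K = 2 ^ (2 * m + 1))
include hK

theorem pair_torus_mem (t : K) :
    (chevRel certF4 K).he 33 (t ^ 2 ^ m) * (chevRel certF4 K).he 24 t ∈
      (twistedF4 K (2 ^ m)).subgroupOf (chevF4.group K) := by
  obtain ⟨⟨c1, c4, c2, c3⟩, -, -⟩ := commF4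
  obtain ⟨-, ⟨n33, n24, -⟩, -⟩ := simpleF4
  have c2' : chkNoTerms chevF4 33 (chevF4.neg 24) = true := by rw [n24]; exact c2
  have c3' : chkNoTerms chevF4 (chevF4.neg 33) 24 = true := by rw [n33]; exact c3
  have c4' : chkNoTerms chevF4 (chevF4.neg 33) (chevF4.neg 24) = true := by rw [n33, n24]; exact c4
  have key : ∀ c : K, (chevRel certF4 K).ne 33 (c ^ 2 ^ m) * (chevRel certF4 K).ne 24 c ∈
      (twistedF4 K (2 ^ m)).subgroupOf (chevF4.group K) := by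
    intro c
    rw [← ne_pair certF4 c1 c2' c3', n33, n24]
    refine mul_mem (mul_mem (wordF4_pair_mem (a := 33) (b := 24) (by decide) c) ?_)
      (wordF4_pair_mem (a := 33) (b := 24) (by decide) c)
    have h := wordF4_pair_mem (K := K) (m := m) (a := 14) (b := 23) (by decide) (-c⁻¹)
    rwa [neg_F4 hK, inv_pow, ← neg_F4 hK ((c ^ 2 ^ m)⁻¹), ← neg_F4 hK c⁻¹] at h
  rw [← he_pair certF4 c1 c2' c3' c4']
  refine mul_mem (key t) ?_
  have h := key (-1)
  rwa [neg_F4 hK, one_pow, ← neg_F4 hK 1] at h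

theorem psiF4_pair_mem (d : Kˣ) : psiF4 K m (d, 1) ∈ (twF4 hK).P1 := by
  rw [psiF4_apply, tupF4_val]
  simp only [one_pow, Units.val_one, Rel.he_one, mul_one, Units.val_pow_eq_pow_val]
  exact pair_torus_mem hK (d : K)

theorem psiF4_mem (x : Kˣ × Kˣ) : psiF4 K m x ∈ (twF4 hK).P1 ⊓ (chevRel certF4 K).HS := by
  refine Subgroup.mem_inf.2 ⟨?_, SetLike.coe_mem _⟩
  obtain ⟨d, y⟩ := x
  suffices h : psiF4 K m (1, y) ∈ (twF4 hK).P1 by
    have := mul_mem (psiF4_pair_mem hK d) h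
    rwa [← map_mul, Prod.mk_mul_mk, mul_one, one_mul] at this
  obtain ⟨s, hs⟩ : ∃ s : Kˣ, s ^ (2 * 2 ^ m + 2) = y := by
    refine ⟨(y ^ (2 ^ m - 1))⁻¹, ?_⟩
    rw [inv_pow, ← pow_mul, inv_eq_iff_mul_eq_one, ← pow_succ]
    have hq : y ^ (2 ^ (2 * m + 1) - 1) = 1 := by
      classical
      rw [← hK, ← Fintype.card_units]
      exact pow_card_eq_one
    obtain ⟨r, hr⟩ : ∃ r, 2 ^ m = r + 1 := ⟨2 ^ m - 1, by have := Nat.two_pow_pos m; omega⟩
    have e : (2 ^ m - 1) * (2 * 2 ^ m + 2) + 1 = 2 ^ (2 * m + 1) - 1 := by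
      rw [show (2 : ℕ) ^ (2 * m + 1) = 2 ^ m * 2 ^ m * 2 by ring, hr, Nat.add_sub_cancel]
      symm
      refine Nat.sub_eq_of_eq_add ?_
      ring
    rw [e]; exact hq
  have hT := psiF4_pair_mem hK s
  rw [psiF4_apply] at hT
  simp only [one_pow] at hT
  have hn : ((twF4 hK).nJ (1 : Fin 2) : ↥(chevF4.group K)) *
      (chevRel certF4 K).torusG (tupF4 (s ^ 2 ^ m) 1 1 s) * ((twF4 hK).nJ (1 : Fin 2) : ↥(chevF4.group K))⁻¹ =
      nB2 K * (chevRel certF4 K).torusG (tupF4 (s ^ 2 ^ m) 1 1 s) * (nB2 K)⁻¹ := by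
    obtain ⟨h1, h2⟩ : 1 < chevF4.rank ∧ 2 < chevF4.rank := by decide +kernel
    obtain ⟨a, ha⟩ := (chevRel certF4 K).isMon_nsPerm ((twF4 hK).nJ (1 : Fin 2))
    have hb1 := (chevRel certF4 K).isMon_ne_simple ⟨1, h1⟩ (one_ne_zero (α := K))
    have hb2 := (chevRel certF4 K).isMon_ne_simple ⟨2, h2⟩ (one_ne_zero (α := K))
    have hb := (chevRel certF4 K).isMon_mul hb1 ((chevRel certF4 K).isMon_mul hb2 ((chevRel certF4 K).isMon_mul hb1 hb2))
    have he : (chevRel certF4 K).nsPerm ((twF4 hK).nJ (1 : Fin 2)) =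
        (chevRel certF4 K).wperm ⟨1, h1⟩ * ((chevRel certF4 K).wperm ⟨2, h2⟩ *
          ((chevRel certF4 K).wperm ⟨1, h1⟩ * (chevRel certF4 K).wperm ⟨2, h2⟩)) :=
      Equiv.ext fun r => Fin.ext (((twF4 hK).nJ_apply (orbListF4 hK) rfl wordsTF4_ok (1 : Fin 2) r).trans rfl)
    rw [he] at ha
    exact (chevRel certF4 K).conj_torusG_congr ha hb _
  rw [nB2_conj] at hn
  have h2 := mul_mem (mul_mem (mul_mem ((twF4 hK).nJ_mem (1 : Fin 2)) hT) (inv_mem ((twF4 hK).nJ_mem (1 : Fin 2))))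
    (inv_mem hT)
  rw [hn, ← map_inv, ← map_mul] at h2
  rw [psiF4_apply]
  refine (congrArg (fun c => (chevRel certF4 K).torusG c ∈ (twF4 hK).P1) ?_).mp h2
  have e2 : (s ^ 2 ^ m) ^ (2 : ℕ) * s ^ (2 : ℕ) = y := by
    rw [← pow_mul, ← pow_add, mul_comm (2 ^ m) 2, hs]
  have e1 : y ^ 2 ^ m = (s ^ 2 ^ m) ^ (2 : ℕ) * s := by
    have h3 : ((s ^ 2 ^ m) ^ 2 ^ m) ^ (2 : ℕ) = s := by
      refine Units.ext ?_
      simp only [Units.val_pow_eq_pow_val]
      exact pow_twF4 hK _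
    rw [← e2, mul_pow, ← pow_mul (s ^ 2 ^ m), mul_comm 2 (2 ^ m), pow_mul, h3, mul_comm]
    congr 1
    rw [← pow_mul, ← pow_mul, mul_comm]
  show _ = tupF4 (1 ^ 2 ^ m) (y ^ 2 ^ m) y 1
  rw [e1, ← e2]
  funext i
  obtain ⟨i, hi⟩ := i
  have hi4 : i < 4 := hi
  interval_cases i <;> simp [tupF4, pow_two]

theorem psiF4_range : (psiF4 K m).range = (twF4 hK).P1 ⊓ (chevRel certF4 K).HS := by
  refine le_antisymm ?_ ?_
  · rintro _ ⟨x, rfl⟩
    exact psiF4_mem hK x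
  rintro g hg
  obtain ⟨hg1, hg2⟩ := Subgroup.mem_inf.1 hg
  obtain ⟨c, hc⟩ := (chevRel certF4 K).torusHom_surjective ⟨g, hg2⟩
  have hgc : g = (chevRel certF4 K).torusG c := by rw [Rel.torusG_apply, hc]
  have l : ∀ n, n < 4 → n < chevF4.rank := fun n hn => lt_of_lt_of_eq hn lengthF4.symm
  obtain ⟨c0, c1, c2, c3, ec⟩ : ∃ z0 z1 z2 z3, c = tupF4 z0 z1 z2 z3 :=
    ⟨c ⟨0, l 0 (by norm_num)⟩, c ⟨1, l 1 (by norm_num)⟩, c ⟨2, l 2 (by norm_num)⟩, c ⟨3, l 3 (by norm_num)⟩, by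
      funext i
      obtain ⟨i, hi⟩ := i
      have hi4 : i < 4 := hi
      interval_cases i <;> rfl⟩
  subst ec
  have hsign : ∀ i : Fin chevF4.rank, (twAt chevF4 twTF4 (chevF4.simple i)).2 = (1, [2, 2, 1, 1].getD (i : ℕ) 0) := by
    decide +kernel
  have hσ := σ_torusHom certF4 (twFieldF4 hK) twOkF4 shapeF4 (frF4 hK) (σF4 hK) (σF4_gen hK)
    (fun i => congrArg Prod.fst (hsign i)) (tupF4 c0 c1 c2 c3)
    (tupF4 (c3 ^ 2 ^ m) (c2 ^ 2 ^ m) ((c1 ^ 2 ^ m) ^ (2 : ℕ)) ((c0 ^ 2 ^ m) ^ (2 : ℕ))) (by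
      intro i j hj
      rw [hsign i, frF4_apply]
      simp only [← Units.val_pow_eq_pow_val]
      refine congrArg Units.val ?_
      obtain ⟨i, hi⟩ := i
      obtain ⟨j, hj'⟩ := j
      have hi4 : i < 4 := hi
      interval_cases i <;> simp [piF4] at hj <;> subst hj <;> simp [tupF4])
  have hfix := (twF4 hK).hfix g hg1
  rw [hgc] at hfix
  have e : tupF4 c0 c1 c2 c3 =
      tupF4 (c3 ^ 2 ^ m) (c2 ^ 2 ^ m) ((c1 ^ 2 ^ m) ^ (2 : ℕ)) ((c0 ^ 2 ^ m) ^ (2 : ℕ)) :=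
    torusG_injective_F4 (hfix.symm.trans hσ)
  refine ⟨(c3, c2), ?_⟩
  rw [psiF4_apply, hgc]
  refine congrArg _ ?_
  funext i
  obtain ⟨i, hi⟩ := i
  have hi4 : i < 4 := hi
  have := congrFun e ⟨i, hi⟩
  interval_cases i <;> simp [tupF4] at this ⊢ <;> exact this.symm

theorem card_torusF4 : Nat.card ↥((twF4 hK).P1 ⊓ (chevRel certF4 K).HS) = (2 ^ (2 * m + 1) - 1) ^ 2 := by
  rw [← psiF4_range hK, ← Nat.card_congr (MonoidHom.ofInjective (psiF4_injective m)).toEquiv, Nat.card_prod,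
    Nat.card_units, Nat.card_eq_fintype_card, hK, sq]

omit hK in
theorem idF4 : (padd (pprod [cyclo 1, layerPoly layersTF4])
    ((pprod [padd [1] (monoP 3 1), cyclo 4, padd [1] (monoP 6 1)]).map (-1 * ·))).all
      (fun x => decide (x = 0)) = true := by decide +kernel

theorem card_twF4 : Nat.card ↥(twistedF4 K (2 ^ m)) =
    (2 ^ (2 * m + 1)) ^ 12 * (2 ^ (2 * m + 1) - 1) * ((2 ^ (2 * m + 1)) ^ 3 + 1) *
      ((2 ^ (2 * m + 1)) ^ 4 - 1) * ((2 ^ (2 * m + 1)) ^ 6 + 1) := by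
  have h1 := card_F4_enum hK
  rw [card_torusF4 hK] at h1
  obtain ⟨q, hq⟩ : ∃ q, q = 2 ^ (2 * m + 1) := ⟨_, rfl⟩
  have hq1 : 1 ≤ q := hq ▸ Nat.one_le_two_pow
  rw [← hq] at h1 ⊢
  have h := idF4
  simp only [List.all_eq_true, decide_eq_true_eq] at h
  have h0 := horner_zero (q : ℤ) _ h
  simp only [horner_padd, horner_map, horner_pprod, List.map_cons, List.map_nil, List.prod_cons, List.prod_nil,
    horner_cyclo, horner_monoP, horner, mul_one, pow_one] at h0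
  apply Int.ofNat.inj
  show ((_ : ℕ) : ℤ) = ((_ : ℕ) : ℤ)
  push_cast [Nat.cast_sub hq1, Nat.cast_sub (Nat.one_le_pow _ q hq1)] at h1 ⊢
  linear_combination h1 + (q : ℤ) ^ 12 * ((q : ℤ) - 1) * h0

end CfsgLib.Lie.Chev.TwGroups
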