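/-
Kernel checked evaluation of words of root elements with integer parameters in characteristic `p`.
-/
import Cfsg.Agent.Lib.Lie.Twisted.Inst

set_option autoImplicit false

namespace CfsgLib.Lie.Chev

open Cfsg.Lie (ChevalleyDatum)
open scoped Matrix

/-- apply `x_r(c)` to a dense vector of residues -/
def stepV (D : ChevalleyDatum) (p r : ℕ) (c : ℤ) (v : List ℤ) : List ℤ :=
  let L := entries D r
  (List.range (D.rank + D.nroots)).map fun j =>
    (v.getD j 0 + ((L.filter fun e => Nat.beq e.2.1 j).map fun e => e.2.2.2 * c ^ e.1 * v.getD e.2.2.1 0).sum) % (p : ℤ)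

/-- apply a word to a dense vector -/
def runW (D : ChevalleyDatum) (p : ℕ) : List (ℕ × ℤ) → List ℤ → List ℤ
  | [], v => v
  | a :: w, v => stepV D p a.1 a.2 (runW D p w v)

/-- a basis vector -/
def unitV (D : ChevalleyDatum) (c : ℕ) : List ℤ :=
  (List.range (D.rank + D.nroots)).map fun j => bif Nat.beq j c then 1 else 0

/-- two words have the same columns -/
def chkWordEq (D : ChevalleyDatum) (p : ℕ) (w w' : List (ℕ × ℤ)) : Bool :=
  (List.range D.nroots).all (fun r => !Nat.beq (D.neg r) r &&
    (row D r).all (fun e => !Nat.beq e.1 r && !Nat.beq e.1 (D.neg r)) &&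
    (entries D r).all fun e => Nat.blt e.2.2.1 (D.rank + D.nroots)) &&
  (w ++ w').all (fun a => Nat.blt a.1 D.nroots) &&
  (List.range (D.rank + D.nroots)).all fun c => decide (runW D p w (unitV D c) = runW D p w' (unitV D c))

variable {D : ChevalleyDatum} {K : Type*} [Field K] {p : ℕ}

/-- the vector of residues over the field -/
def vecOf (D : ChevalleyDatum) (K : Type*) [Field K] (v : List ℤ) : D.Idx → K :=
  fun a => ((v.getD (code D a) 0 : ℤ) : K)

theorem intCast_mod_eq (hp : ((p : ℤ) : K) = 0) (z : ℤ) : ((z % (p : ℤ) : ℤ) : K) = (z : K) := by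
  conv_rhs => rw [← Int.emod_add_mul_ediv z p]
  rw [Int.cast_add, Int.cast_mul, hp, zero_mul, add_zero]

theorem stepV_spec (hp : ((p : ℤ) : K) = 0) {r : ℕ} (hr : r < D.nroots) (hne : D.neg r ≠ r)
    (hkeys : ∀ e ∈ row D r, e.1 ≠ r ∧ e.1 ≠ D.neg r)
    (hcol : ∀ e ∈ entries D r, e.2.2.1 < D.rank + D.nroots) (c : ℤ) (v : List ℤ) :
    D.x K r (c : K) *ᵥ vecOf D K v = vecOf D K (stepV D p r c v) := by
  funext a
  have hlt := code_lt D a
  rw [xMat_eq D hr hne hkeys, Matrix.add_mulVec, Pi.add_apply, Matrix.one_mulVec]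
  have hR : vecOf D K (stepV D p r c v) a = vecOf D K v a + (((entries D r).filter fun e => Nat.beq e.2.1 (code D a)).map
      fun e => (e.2.2.2 : K) * (c : K) ^ e.1 * ((v.getD e.2.2.1 0 : ℤ) : K)).sum := by
    show (((stepV D p r c v).getD (code D a) 0 : ℤ) : K) = _
    rw [stepV, List.getD_eq_getElem?_getD, List.getElem?_map, List.getElem?_range hlt, Option.map_some,
      Option.getD_some, intCast_mod_eq hp, Int.cast_add, Int.cast_list_sum, List.map_map]
    simp only [Function.comp_def, Int.cast_mul, Int.cast_pow]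
    rfl
  rw [hR, list_sum_filter]
  congr 1
  simp only [Matrix.mulVec, dotProduct, matOf, Matrix.of_apply]
  generalize entries D r = L at hcol ⊢
  induction L with
  | nil => simp
  | cons f L ih =>
    simp only [List.map_cons, List.sum_cons, add_mul, Finset.sum_add_distrib]
    rw [ih fun e he => hcol e (List.mem_cons_of_mem _ he)]
    congr 1
    obtain ⟨b, hb⟩ := exists_code D (hcol f (List.mem_cons_self ..))
    by_cases ha : f.2.1 = code D a
    · rw [show Nat.beq f.2.1 (code D a) = true from nat_beq_iff.2 ha, cond_true, Finset.sum_eq_single b]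
      · rw [if_pos ⟨ha, hb.symm⟩, vecOf, hb]
      · intro x _ hx
        rw [if_neg, zero_mul]
        exact fun h => hx (code_injective D (h.2.symm.trans hb.symm))
      · simp
    · rw [show Nat.beq f.2.1 (code D a) = false from Bool.eq_false_iff.2 fun h => ha (nat_beq_iff.1 h), cond_false]
      exact Finset.sum_eq_zero fun x _ => by rw [if_neg (fun h => ha h.1), zero_mul]

/-- the word over the field -/
def castW (K : Type*) [Field K] (w : List (ℕ × ℤ)) : List (ℕ × K) := w.map fun a => (a.1, (a.2 : K))

theorem wordMat_eq_of_chk (hp : ((p : ℤ) : K) = 0) {w w' : List (ℕ × ℤ)} (h : chkWordEq D p w w' = true) :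
    D.wordMat K (castW K w) = D.wordMat K (castW K w') := by
  simp only [chkWordEq, Bool.and_eq_true, List.all_eq_true, List.mem_range, nat_blt_iff, Bool.not_eq_true',
    decide_eq_true_iff, List.mem_append] at h
  obtain ⟨⟨h1, h2⟩, h3⟩ := h
  have key : ∀ u : List (ℕ × ℤ), (∀ a ∈ u, a.1 < D.nroots) → ∀ v : List ℤ,
      D.wordMat K (castW K u) *ᵥ vecOf D K v = vecOf D K (runW D p u v) := by
    intro u
    induction u with
    | nil => intro _ v; simp [ChevalleyDatum.wordMat, castW, runW]
    | cons a u ih =>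
      intro hu v
      have hr := hu a List.mem_cons_self
      obtain ⟨⟨hn, hk⟩, hcl⟩ := h1 a.1 hr
      rw [← Bool.not_eq_true, nat_beq_iff] at hn
      show (D.x K a.1 (a.2 : K) * D.wordMat K (castW K u)) *ᵥ _ = _
      rw [← Matrix.mulVec_mulVec, ih (fun x hx => hu x (List.mem_cons_of_mem _ hx)), runW]
      refine stepV_spec hp hr hn (fun e he => ?_) hcl a.2 _
      have := hk e he
      rw [← Bool.not_eq_true, nat_beq_iff, ← Bool.not_eq_true, nat_beq_iff] at this
      exact this
  refine Matrix.ext fun a b => ?_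
  have hb := code_lt D b
  have e1 : (Pi.single b 1 : D.Idx → K) = vecOf D K (unitV D (code D b)) := by
    funext x
    show _ = (((unitV D (code D b)).getD (code D x) 0 : ℤ) : K)
    rw [unitV, List.getD_eq_getElem?_getD, List.getElem?_map, List.getElem?_range (code_lt D x), Option.map_some,
      Option.getD_some]
    by_cases hx : x = b
    · subst hx; simp
    · rw [show Nat.beq (code D x) (code D b) = false from
        Bool.eq_false_iff.2 fun h => hx (code_injective D (nat_beq_iff.1 h))]
      simp [hx]
  have e2 : D.wordMat K (castW K w) *ᵥ Pi.single b 1 = D.wordMat K (castW K w') *ᵥ Pi.single b 1 := by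
    rw [e1, key w (fun x hx => h2 x (Or.inl hx)), key w' (fun x hx => h2 x (Or.inr hx)), h3 _ hb]
  have := congrFun e2 a
  simpa [Matrix.mulVec_single] using this

variable {X : Aux} (C : Cert D X)

theorem wordG_eq_of_chk (hp : ((p : ℤ) : K) = 0) {w w' : List (ℕ × ℤ)} (h : chkWordEq D p w w' = true) :
    wordG C (castW K w) = wordG C (castW K w') := by
  refine Subtype.ext (Units.ext ?_)
  rw [wordG_val, wordG_val]
  exact wordMat_eq_of_chk hp h

end CfsgLib.Lie.Chev
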