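/-
The fixed torus of the triality twisted groups, and the order formula.
-/
import Cfsg.Agent.Lib.Lie.Twisted.D4
import Cfsg.Agent.Lib.Lie.Rel.Order

set_option autoImplicit false

namespace CfsgLib.Lie.Chev.TwGroups

open Cfsg.Lie

variable {K : Type*} [Field K] [Fintype K] {q : ℕ} (hq : IsPrimePow q) (hK : Fintype.card K = q ^ 3)

/-- units fixed by the `q`-th power -/
def fixU (K : Type*) [Field K] (q : ℕ) : Subgroup Kˣ := (powMonoidHom (q - 1) : Kˣ →* Kˣ).ker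

theorem fixU_iff (hq : 0 < q) (u : Kˣ) : u ∈ fixU K q ↔ u ^ q = u := by
  rw [fixU, MonoidHom.mem_ker, powMonoidHom_apply]
  conv_rhs => rw [← Nat.sub_add_cancel hq, pow_succ, mul_eq_right]

/-- four parameters on the simple roots -/
def tupD4 (z0 z1 z2 z3 : Kˣ) : Fin chevD4.rank → Kˣ := fun i => [z0, z1, z2, z3].getD (i : ℕ) 1

theorem tupD4_val (z0 z1 z2 z3 : Kˣ) :
    ((((chevRel certD4 K).torusHom (tupD4 z0 z1 z2 z3) : (chevRel certD4 K).HS) : ↥(chevD4.group K))) =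
      (chevRel certD4 K).he 18 (z0 : K) * (chevRel certD4 K).he 14 (z1 : K) * (chevRel certD4 K).he 13 (z2 : K) *
        (chevRel certD4 K).he 12 (z3 : K) := by
  obtain ⟨-, -, -, -, ⟨s0, s1, s2, s3⟩, -⟩ := negD4
  rw [torusHom_val]
  have e : (List.finRange chevD4.rank).map (fun i : Fin chevD4.rank =>
      (chevRel certD4 K).he (chevD4.simple (i : ℕ)) ((tupD4 z0 z1 z2 z3 i : Kˣ) : K)) =
      (List.range 4).map fun i => (chevRel certD4 K).he (chevD4.simple i) (([z0, z1, z2, z3].getD i 1 : Kˣ) : K) := by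
    rw [← List.map_coe_finRange_eq_range, List.map_map]
    rfl
  rw [e]
  simp only [List.range_succ, List.range_zero, List.nil_append, List.cons_append, List.map_cons, List.map_nil,
    List.prod_cons, List.prod_nil, mul_one, s0, s1, s2, s3, List.getD_cons_zero, List.getD_cons_succ, mul_assoc]

theorem eq_mul_mul_of_mul_inv {A : Type*} [CommGroup A] (a b c d : A) (h : a⁻¹ * (b * (c⁻¹ * d⁻¹)) = 1) :
    b = a * c * d := by
  rw [inv_mul_eq_one.1 h, mul_assoc, mul_assoc, mul_comm c d, ← mul_inv_rev, inv_mul_cancel, mul_one]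

theorem mem_kerD4 (z : Fin chevD4.rank → Kˣ) (hz : z ∈ (chevRel certD4 K).torusHom.ker) :
    z ⟨0, by decide +kernel⟩ ^ (2 : ℕ) = z ⟨1, by decide +kernel⟩ ∧
    z ⟨1, by decide +kernel⟩ ^ (2 : ℕ) = z ⟨0, by decide +kernel⟩ * z ⟨2, by decide +kernel⟩ * z ⟨3, by decide +kernel⟩ ∧
    z ⟨2, by decide +kernel⟩ ^ (2 : ℕ) = z ⟨1, by decide +kernel⟩ ∧
    z ⟨3, by decide +kernel⟩ ^ (2 : ℕ) = z ⟨1, by decide +kernel⟩ := by
  rw [mem_torusHom_ker, MonoidHom.mem_ker, cmat_D4] at hz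
  have h : ∀ k : Fin chevD4.rank,
      ((List.range 4).map fun i => (if hi : i < chevD4.rank then z ⟨i, hi⟩ else 1) ^
        ((cartD4.getD i []).getD (k : ℕ) 0)).prod = 1 := by
    intro k
    have h2 := congrFun hz k
    rw [powMat_apply, Pi.one_apply, Fin.prod_univ_def] at h2
    refine Eq.trans ?_ h2
    rw [show (List.range 4) = List.range chevD4.rank from rfl, ← List.map_coe_finRange_eq_range, List.map_map]
    refine congrArg List.prod (List.map_congr_left fun i _ => ?_)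
    simp only [Function.comp_apply, dif_pos i.2, Fin.eta, Matrix.of_apply]
  have l : ∀ n, n < 4 → n < chevD4.rank := fun n hn => lt_of_lt_of_eq hn (by decide +kernel)
  have g0 := h ⟨0, l 0 (by norm_num)⟩
  have g1 := h ⟨1, l 1 (by norm_num)⟩
  have g2 := h ⟨2, l 2 (by norm_num)⟩
  have g3 := h ⟨3, l 3 (by norm_num)⟩
  simp [List.range_succ, cartD4, l] at g0 g1 g2 g3
  exact ⟨mul_inv_eq_one.1 g0, eq_mul_mul_of_mul_inv _ _ _ _ g1, (inv_mul_eq_one.1 g2).symm,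
    (inv_mul_eq_one.1 g3).symm⟩

theorem kerShapeD4 {A : Type*} [CommGroup A] {z0 z1 z2 z3 : A} (h0 : z0 ^ (2 : ℕ) = z1)
    (h1 : z1 ^ (2 : ℕ) = z0 * z2 * z3) (h2 : z2 ^ (2 : ℕ) = z1) (h3 : z3 ^ (2 : ℕ) = z1) :
    z1 = 1 ∧ z0 ^ (2 : ℕ) = 1 ∧ z2 ^ (2 : ℕ) = 1 ∧ z3 ^ (2 : ℕ) = 1 ∧ z0 * z2 * z3 = 1 := by
  have e : z1 ^ 3 * z1 = z1 ^ 3 * 1 := by
    rw [mul_one, ← pow_succ, show 3 + 1 = 2 * 2 from rfl, pow_mul, h1, mul_pow, mul_pow, h0, h2, h3, ← sq,
      ← pow_succ]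
  have e1 : z1 = 1 := mul_left_cancel e
  subst e1
  exact ⟨rfl, h0, h2, h3, by rw [← h1, one_pow]⟩

/-- the parametrisation of the fixed torus -/
def psiD4 (K : Type*) [Field K] (q : ℕ) : fixU K q × Kˣ →* ↥(chevD4.group K) :=
  (((chevRel certD4 K).HS.subtype).comp (chevRel certD4 K).torusHom).comp
    { toFun := fun x => tupD4 x.2 (x.1 : Kˣ) (x.2 ^ q) ((x.2 ^ q) ^ q)
      map_one' := by
        funext i
        obtain ⟨i, hi⟩ := i
        have hi4 : i < 4 := hi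
        interval_cases i <;> simp [tupD4]
      map_mul' := fun x y => by
        funext i
        obtain ⟨i, hi⟩ := i
        have hi4 : i < 4 := hi
        interval_cases i <;> simp [tupD4, mul_pow] }

theorem psiD4_apply (x : fixU K q × Kˣ) :
    psiD4 K q x = (chevRel certD4 K).torusHom (tupD4 x.2 (x.1 : Kˣ) (x.2 ^ q) ((x.2 ^ q) ^ q)) := rfl

include hq hK in
theorem he14_mem {t : K} (ht : t ^ q = t) :
    (chevRel certD4 K).he 14 t ∈ (twistedD4 K q).subgroupOf (chevD4.group K) := by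
  obtain ⟨⟨-, -, -, n14⟩, -⟩ := negD4
  have key : ∀ c : K, c ^ q = c → (chevRel certD4 K).ne 14 c ∈ (twistedD4 K q).subgroupOf (chevD4.group K) := by
    intro c hc
    show xG certD4 K 14 c * xG certD4 K (chevD4.neg 14) (-c⁻¹) * xG certD4 K 14 c ∈ _
    rw [n14]
    exact mul_mem (mul_mem (wordD4_single_mem (r := 14) (by decide) hc)
      (wordD4_single_mem (r := 9) (by decide) (by rw [neg_pow_D4 hq hK, inv_pow, hc])))
      (wordD4_single_mem (r := 14) (by decide) hc)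
  exact mul_mem (key t ht) (key (-1) (by rw [neg_pow_D4 hq hK, one_pow]))

theorem sandwich_split {G : Type*} [Group G] {x₁ y₁ x₂ y₂ : G} (h1 : Commute x₂ y₁) (h2 : Commute x₂ x₁)
    (h3 : Commute y₂ x₁) : (x₁ * x₂) * (y₁ * y₂) * (x₁ * x₂) = (x₁ * y₁ * x₁) * (x₂ * y₂ * x₂) := by
  calc (x₁ * x₂) * (y₁ * y₂) * (x₁ * x₂) = x₁ * (x₂ * y₁) * y₂ * x₁ * x₂ := by group
    _ = x₁ * y₁ * ((x₂ * y₂) * x₁) * x₂ := by rw [h1.eq]; group
    _ = (x₁ * y₁ * x₁) * (x₂ * y₂ * x₂) := by rw [(h2.mul_left h3).eq]; group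

include hq hK in
theorem he_triple_mem (t : K) :
    (chevRel certD4 K).he 18 t * ((chevRel certD4 K).he 13 (t ^ q) * (chevRel certD4 K).he 12 ((t ^ q) ^ q)) ∈
      (twistedD4 K q).subgroupOf (chevD4.group K) := by
  obtain ⟨⟨c1, c2, c3⟩, ⟨e1, e2, e3⟩, ⟨f1, f1'⟩, ⟨f2, f2'⟩, ⟨f3, f3'⟩⟩ := commD4
  obtain ⟨⟨n18, n13, n12, -⟩, -⟩ := negD4
  have sy : ∀ {r s : ℕ}, chkNoTerms chevD4 r s = true → ∀ u v : K,
      Commute (xG certD4 K r u) (xG certD4 K s v) := fun h u v => xG_commute certD4 h u v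
  have n10 : chevD4.neg 13 = 10 := n13
  have h13 : chkNoTerms chevD4 13 (chevD4.neg 12) = true := by rw [n12]; exact f3
  have h13' : chkNoTerms chevD4 (chevD4.neg 13) 12 = true := by rw [n10]; exact f3'
  have h13'' : chkNoTerms chevD4 (chevD4.neg 13) (chevD4.neg 12) = true := by rw [n10, n12]; exact e3
  have hx : ∀ u v w : K, Commute (xG certD4 K 18 u) (xG certD4 K 13 v * xG certD4 K 12 w) := fun u v w =>
    (sy c1 u v).mul_right (sy c2 u w)
  have hy : ∀ u v w : K, Commute (xG certD4 K 5 u) (xG certD4 K 10 v * xG certD4 K 11 w) := fun u v w =>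
    (sy e1 u v).mul_right (sy e2 u w)
  have hxy : ∀ u v w : K, Commute (xG certD4 K 18 u) (xG certD4 K 10 v * xG certD4 K 11 w) := fun u v w =>
    (sy f1 u v).mul_right (sy f2 u w)
  have hyx : ∀ u v w : K, Commute (xG certD4 K 5 u) (xG certD4 K 13 v * xG certD4 K 12 w) := fun u v w =>
    (sy f1' u v).mul_right (sy f2' u w)
  have key : ∀ c : K, (chevRel certD4 K).ne 18 c *
      ((chevRel certD4 K).ne 13 (c ^ q) * (chevRel certD4 K).ne 12 ((c ^ q) ^ q)) ∈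
        (twistedD4 K q).subgroupOf (chevD4.group K) := by
    intro c
    rw [← ne_pair certD4 c3 h13 h13', n10, n12]
    show xG certD4 K 18 c * xG certD4 K (chevD4.neg 18) (-c⁻¹) * xG certD4 K 18 c * _ ∈ _
    rw [n18, ← sandwich_split (hyx _ _ _).symm (hx _ _ _).symm (hxy _ _ _).symm]
    refine mul_mem (mul_mem (wordD4_triple_mem (a := 18) (b := 13) (c := 12) (by decide) c) ?_)
      (wordD4_triple_mem (a := 18) (b := 13) (c := 12) (by decide) c)
    have h := wordD4_triple_mem (K := K) (q := q) (a := 5) (b := 10) (c := 11) (by decide) (-c⁻¹)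
    rwa [neg_pow_D4 hq hK, inv_pow, neg_pow_D4 hq hK, inv_pow] at h
  have k1 := key t
  have k2 := key (-1)
  rw [neg_pow_D4 hq hK, one_pow, neg_pow_D4 hq hK, one_pow] at k2
  have hn : ∀ (r : ℕ), r = 13 ∨ r = 12 → ∀ u v : K, Commute ((chevRel certD4 K).ne r u) ((chevRel certD4 K).ne 18 v) := by
    intro r hr u v
    have a1 : ∀ u', Commute (xG certD4 K 18 u') ((chevRel certD4 K).ne r u) := fun u' => by
      rcases hr with rfl | rfl
      · show Commute _ (xG certD4 K 13 u * xG certD4 K (chevD4.neg 13) (-u⁻¹) * xG certD4 K 13 u)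
        rw [n10]
        exact ((sy c1 u' u).mul_right (sy f1 u' _)).mul_right (sy c1 u' u)
      · show Commute _ (xG certD4 K 12 u * xG certD4 K (chevD4.neg 12) (-u⁻¹) * xG certD4 K 12 u)
        rw [n12]
        exact ((sy c2 u' u).mul_right (sy f2 u' _)).mul_right (sy c2 u' u)
    have a2 : ∀ u', Commute (xG certD4 K 5 u') ((chevRel certD4 K).ne r u) := fun u' => by
      rcases hr with rfl | rfl
      · show Commute _ (xG certD4 K 13 u * xG certD4 K (chevD4.neg 13) (-u⁻¹) * xG certD4 K 13 u)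
        rw [n10]
        exact ((sy f1' u' u).mul_right (sy e1 u' _)).mul_right (sy f1' u' u)
      · show Commute _ (xG certD4 K 12 u * xG certD4 K (chevD4.neg 12) (-u⁻¹) * xG certD4 K 12 u)
        rw [n12]
        exact ((sy f2' u' u).mul_right (sy e2 u' _)).mul_right (sy f2' u' u)
    show Commute _ (xG certD4 K 18 v * xG certD4 K (chevD4.neg 18) (-v⁻¹) * xG certD4 K 18 v)
    rw [n18]
    exact (((a1 v).mul_left (a2 _)).mul_left (a1 v)).symm
  have hp := he_pair certD4 c3 h13 h13' h13'' (K := K) (t ^ q) ((t ^ q) ^ q)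
  have e : (chevRel certD4 K).he 18 t * ((chevRel certD4 K).he 13 (t ^ q) * (chevRel certD4 K).he 12 ((t ^ q) ^ q)) =
      ((chevRel certD4 K).ne 18 t * ((chevRel certD4 K).ne 13 (t ^ q) * (chevRel certD4 K).ne 12 ((t ^ q) ^ q))) *
      ((chevRel certD4 K).ne 18 (-1) * ((chevRel certD4 K).ne 13 (-1) * (chevRel certD4 K).ne 12 (-1))) := by
    rw [← hp]
    show (chevRel certD4 K).ne 18 t * (chevRel certD4 K).ne 18 (-1) *
      (((chevRel certD4 K).ne 13 (t ^ q) * (chevRel certD4 K).ne 12 ((t ^ q) ^ q)) *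
        ((chevRel certD4 K).ne 13 (-1) * (chevRel certD4 K).ne 12 (-1))) = _
    rw [mul_assoc ((chevRel certD4 K).ne 18 t), ← mul_assoc ((chevRel certD4 K).ne 18 (-1)),
      ← ((hn 13 (Or.inl rfl) (t ^ q) (-1)).mul_left (hn 12 (Or.inr rfl) ((t ^ q) ^ q) (-1))).eq]
    group
  rw [e]
  exact mul_mem k1 k2

include hq hK in
theorem psiD4_mem (x : fixU K q × Kˣ) :
    psiD4 K q x ∈ (twistedD4 K q).subgroupOf (chevD4.group K) ⊓ (chevRel certD4 K).HS := by
  refine Subgroup.mem_inf.2 ⟨?_, SetLike.coe_mem ((chevRel certD4 K).torusHom _)⟩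
  obtain ⟨⟨a, ha⟩, d⟩ := x
  rw [fixU_iff hq.pos] at ha
  rw [psiD4_apply, tupD4_val]
  obtain ⟨-, -, -, -, -, -⟩ := negD4
  obtain ⟨l18, l14⟩ : 18 < chevD4.nroots ∧ 14 < chevD4.nroots := by decide +kernel
  have hc : (chevRel certD4 K).he 18 (d : K) * (chevRel certD4 K).he 14 (a : K) =
      (chevRel certD4 K).he 14 (a : K) * (chevRel certD4 K).he 18 (d : K) :=
    (chevRel certD4 K).HS_isMulCommutative ((chevRel certD4 K).he_mem ⟨18, l18⟩ d.ne_zero)
      ((chevRel certD4 K).he_mem ⟨14, l14⟩ a.ne_zero)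
  rw [hc, Units.val_pow_eq_pow_val, Units.val_pow_eq_pow_val, Units.val_pow_eq_pow_val]
  have h1 := he14_mem hq hK (t := (a : K)) (by rw [← Units.val_pow_eq_pow_val, ha])
  have h2 := he_triple_mem hq hK (d : K)
  have := mul_mem h1 h2
  simpa only [mul_assoc] using this

theorem psiD4_range : (psiD4 K q).range = (twD4 hq hK).P1 ⊓ (chevRel certD4 K).HS := by
  refine le_antisymm ?_ ?_
  · rintro _ ⟨x, rfl⟩
    exact psiD4_mem hq hK x
  rintro g hg
  obtain ⟨hg1, hg2⟩ := Subgroup.mem_inf.1 hg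
  obtain ⟨c, hc⟩ := (chevRel certD4 K).torusHom_surjective ⟨g, hg2⟩
  have hgc : g = (chevRel certD4 K).torusHom c := by rw [hc]
  have l : ∀ n, n < 4 → n < chevD4.rank := fun n hn => lt_of_lt_of_eq hn (by decide +kernel)
  obtain ⟨c0, c1, c2, c3, ec⟩ : ∃ z0 z1 z2 z3, c = tupD4 z0 z1 z2 z3 :=
    ⟨c ⟨0, l 0 (by norm_num)⟩, c ⟨1, l 1 (by norm_num)⟩, c ⟨2, l 2 (by norm_num)⟩, c ⟨3, l 3 (by norm_num)⟩, by
      funext i
      obtain ⟨i, hi⟩ := i
      have hi4 : i < 4 := hi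
      interval_cases i <;> rfl⟩
  subst ec
  have hσ := σ_torusHom certD4 (twField_one K) twOkD4 shapeD4 (frD4 hq hK) (σD4 hq hK) (σD4_gen hq hK)
    (fun i => congrArg Prod.fst (signD4 i)) (tupD4 c0 c1 c2 c3) (tupD4 (c3 ^ q) (c1 ^ q) (c0 ^ q) (c2 ^ q)) (by
      intro i j hj
      rw [signD4 i, pow_one, frD4_apply, ← Units.val_pow_eq_pow_val]
      refine congrArg Units.val ?_
      obtain ⟨i, hi⟩ := i
      obtain ⟨j, hj'⟩ := j
      have hi4 : i < 4 := hi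
      interval_cases i <;> simp [piD4] at hj <;> subst hj <;> simp [tupD4])
  have hfix := (twD4 hq hK).hfix g hg1
  rw [hgc] at hfix
  have hker : tupD4 ((c3 ^ q)⁻¹ * c0) ((c1 ^ q)⁻¹ * c1) ((c0 ^ q)⁻¹ * c2) ((c2 ^ q)⁻¹ * c3) ∈
      (chevRel certD4 K).torusHom.ker := by
    have e : tupD4 ((c3 ^ q)⁻¹ * c0) ((c1 ^ q)⁻¹ * c1) ((c0 ^ q)⁻¹ * c2) ((c2 ^ q)⁻¹ * c3) =
        (tupD4 (c3 ^ q) (c1 ^ q) (c0 ^ q) (c2 ^ q))⁻¹ * tupD4 c0 c1 c2 c3 := by
      funext i
      obtain ⟨i, hi⟩ := i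
      have hi4 : i < 4 := hi
      interval_cases i <;> simp [tupD4]
    rw [e, MonoidHom.mem_ker, map_mul, map_inv, inv_mul_eq_one]
    exact Subtype.ext (hσ.symm.trans hfix)
  obtain ⟨k0, k1, k2, k3⟩ := mem_kerD4 _ hker
  simp only [tupD4, List.getD_cons_zero, List.getD_cons_succ] at k0 k1 k2 k3
  obtain ⟨h1, h0, h2, h3, hp⟩ := kerShapeD4 k0 k1 k2 k3
  obtain ⟨z0, ez0⟩ : ∃ z, z = (c3 ^ q)⁻¹ * c0 := ⟨_, rfl⟩
  obtain ⟨z2, ez2⟩ : ∃ z, z = (c0 ^ q)⁻¹ * c2 := ⟨_, rfl⟩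
  obtain ⟨z3, ez3⟩ : ∃ z, z = (c2 ^ q)⁻¹ * c3 := ⟨_, rfl⟩
  rw [← ez0] at h0 hp
  rw [← ez2] at h2 hp
  rw [← ez3] at h3 hp
  have hq0 : 0 < q := hq.pos
  have sq1 : ∀ z : Kˣ, z ^ (2 : ℕ) = 1 → z⁻¹ = z := fun z hz => inv_eq_of_mul_eq_one_left (by rw [← sq, hz])
  have pq : ∀ z : Kˣ, z ^ (2 : ℕ) = 1 → z ^ q = z := by
    intro z hz
    have hv : (z : K) = 1 ∨ (z : K) = -1 := mul_self_eq_one_iff.1 (by
      rw [← Units.val_mul, ← sq, hz, Units.val_one])
    refine Units.ext ?_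
    rw [Units.val_pow_eq_pow_val]
    rcases hv with e | e <;> rw [e]
    · exact one_pow q
    · rw [neg_pow_D4 hq hK, one_pow]
  have p03 : z0 * z3 = z2 := by
    rw [show z0 * z2 * z3 = z0 * z3 * z2 from mul_right_comm z0 z2 z3] at hp
    rw [← sq1 z2 h2]
    exact eq_inv_of_mul_eq_one_left hp
  have p02 : z0 * z2 = z3 := by
    rw [← sq1 z3 h3]
    exact eq_inv_of_mul_eq_one_left hp
  refine ⟨(⟨c1, (fixU_iff hq0 c1).2 (inv_mul_eq_one.1 h1)⟩, c0 * z3), ?_⟩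
  rw [psiD4_apply, hgc]
  refine congrArg Subtype.val (?_ : (chevRel certD4 K).torusHom _ = (chevRel certD4 K).torusHom _)
  have hη : tupD4 z3 1 z0 z2 ∈ (chevRel certD4 K).torusHom.ker := by
    rw [mem_torusHom_ker, MonoidHom.mem_ker, cmat_D4]
    funext k
    rw [powMat_apply, Pi.one_apply, Fin.prod_univ_def]
    have : ∀ k, k < 4 → (((List.range 4).map fun i =>
        ([z3, 1, z0, z2].getD i 1) ^ ((cartD4.getD i []).getD k 0)).prod = 1) := by
      intro k hk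
      interval_cases k <;> simp [List.range_succ, cartD4, sq1 z0 h0, sq1 z2 h2, sq1 z3 h3, h0, h2, h3]
      rw [← mul_assoc, mul_comm z3, p03, ← sq, h2]
    refine Eq.trans ?_ (this k k.2)
    rw [show (List.range 4) = List.range chevD4.rank from rfl, ← List.map_coe_finRange_eq_range, List.map_map]
    rfl
  have e2 : c2 * z0 = (c0 * z3) ^ q := by
    rw [mul_pow, pq z3 h3, ← p02, ez2]
    rw [mul_comm z0 ((c0 ^ q)⁻¹ * c2), ← mul_assoc, mul_inv_cancel_left]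
  have e3 : c3 * z2 = ((c0 * z3) ^ q) ^ q := by
    have h33 : c3 * z3 = c2 ^ q := by
      rw [← sq1 z3 h3, ez3, mul_inv_rev, inv_inv, mul_inv_cancel_left]
    rw [← e2, mul_pow, pq z0 h0, ← p03, mul_comm z0 z3, ← mul_assoc, h33]
  have e : tupD4 (c0 * z3) c1 ((c0 * z3) ^ q) (((c0 * z3) ^ q) ^ q) = tupD4 c0 c1 c2 c3 * tupD4 z3 1 z0 z2 := by
    funext i
    obtain ⟨i, hi⟩ := i
    have hi4 : i < 4 := hi
    interval_cases i <;> simp [tupD4, e2, e3]
  show (chevRel certD4 K).torusHom (tupD4 (c0 * z3) c1 ((c0 * z3) ^ q) (((c0 * z3) ^ q) ^ q)) = _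
  rw [e, map_mul, MonoidHom.mem_ker.1 hη, mul_one]

include hq hK in
theorem psiD4_injective : Function.Injective (psiD4 K q) := by
  rw [← MonoidHom.ker_eq_bot_iff, Subgroup.eq_bot_iff_forall]
  rintro ⟨⟨a, ha⟩, d⟩ hx
  rw [fixU_iff hq.pos] at ha
  have hx' : tupD4 d a (d ^ q) ((d ^ q) ^ q) ∈ (chevRel certD4 K).torusHom.ker :=
    MonoidHom.mem_ker.2 (Subtype.ext (MonoidHom.mem_ker.1 hx))
  obtain ⟨k0, k1, k2, k3⟩ := mem_kerD4 _ hx'
  simp only [tupD4, List.getD_cons_zero, List.getD_cons_succ] at k0 k1 k2 k3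
  obtain ⟨h1, h0, h2, -, hp⟩ := kerShapeD4 k0 k1 k2 k3
  have hd : d ^ q = d := by
    have hv : (d : K) = 1 ∨ (d : K) = -1 := mul_self_eq_one_iff.1 (by
      rw [← Units.val_mul, ← sq, h0, Units.val_one])
    refine Units.ext ?_
    rw [Units.val_pow_eq_pow_val]
    rcases hv with e | e <;> rw [e]
    · exact one_pow q
    · rw [neg_pow_D4 hq hK, one_pow]
  have hd1 : d = 1 := by
    rw [hd, hd, ← sq, h0, one_mul] at hp
    exact hp
  exact Prod.ext (Subtype.ext h1) hd1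

theorem card_torusD4 :
    Nat.card ↥((twD4 hq hK).P1 ⊓ (chevRel certD4 K).HS) = (q - 1) * (q ^ 3 - 1) := by
  rw [← psiD4_range hq hK, ← Nat.card_congr (MonoidHom.ofInjective (psiD4_injective hq hK)).toEquiv, Nat.card_prod]
  have hf : Nat.card ↥(fixU K q) = q - 1 := by
    rw [fixU, IsCyclic.card_powMonoidHom_ker, Nat.card_units, Nat.card_eq_fintype_card, hK]
    exact Nat.gcd_eq_right (by simpa using Nat.sub_one_dvd_pow_sub_one q 3)
  rw [hf, Nat.card_units, Nat.card_eq_fintype_card, hK]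

theorem idD4 : (padd (pprod [cyclo 1, cyclo 3, layerPoly layersTD4])
    ((pprod [cyclo 2, cyclo 6, padd (padd [1] (monoP 4 1)) (monoP 8 1)]).map (-1 * ·))).all
      (fun x => decide (x = 0)) = true := by decide +kernel

include hq hK in
theorem card_twD4 : Nat.card ↥(twistedD4 K q) = q ^ 12 * (q ^ 2 - 1) * (q ^ 6 - 1) * (q ^ 8 + q ^ 4 + 1) := by
  have h := idD4
  simp only [List.all_eq_true, decide_eq_true_eq] at h
  have h0 := horner_zero (q : ℤ) _ h
  simp only [horner_padd, horner_map, horner_pprod, List.map_cons, List.map_nil, List.prod_cons, List.prod_nil,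
    horner_cyclo, horner_monoP, horner, mul_one, pow_one] at h0
  have h1 := card_D4_enum hq hK
  rw [card_torusD4 hq hK] at h1
  push_cast [Nat.cast_sub hq.pos, Nat.cast_sub (Nat.one_le_pow _ q hq.pos)] at h1
  apply Int.ofNat.inj
  show ((_ : ℕ) : ℤ) = ((_ : ℕ) : ℤ)
  push_cast [Nat.cast_sub (Nat.one_le_pow _ q hq.pos)]
  linear_combination h1 + (q : ℤ) ^ 12 * h0

end CfsgLib.Lie.Chev.TwGroups
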