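/-
Tools for perfectness of twisted groups: fixed root elements and classes as commutators.
-/
import Cfsg.Agent.Lib.Lie.Twisted.Classes

set_option autoImplicit false

namespace CfsgLib.Lie.Chev

open Cfsg.Lie (ChevalleyDatum)

/-- the commutator formula of two roots is one linear term -/
def chkOneTerm (D : ChevalleyDatum) (r s k : ℕ) (N : ℤ) : Bool :=
  Nat.blt r D.nroots && Nat.blt s D.nroots && !Nat.beq s r && !Nat.beq s (D.neg r) &&
    decide (D.commTerms r s = [(k, N, 1, 1)])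

namespace TwG

variable {D : ChevalleyDatum} {X : Aux} {F : Type*} [Field F] {G : Type*} [Group G] {R : Rel D X F G} (T : TwG R)

/-- the commutator subgroup of the twisted group, inside the ambient group -/
def Cm : Subgroup G := (commutator T.P1).map T.P1.subtype

include T

theorem comm_mem_Cm {x y : G} (hx : x ∈ T.P1) (hy : y ∈ T.P1) : x * y * x⁻¹ * y⁻¹ ∈ T.Cm :=
  ⟨⟨x, hx⟩ * ⟨y, hy⟩ * (⟨x, hx⟩ : T.P1)⁻¹ * (⟨y, hy⟩ : T.P1)⁻¹,
    Subgroup.commutator_mem_commutator (Subgroup.mem_top _) (Subgroup.mem_top _), rfl⟩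

theorem Cm_le : T.Cm ≤ T.P1 := Subgroup.map_subtype_le _

theorem conj_mem_Cm {x g : G} (hx : x ∈ T.P1) (hg : g ∈ T.Cm) : x * g * x⁻¹ ∈ T.Cm := by
  obtain ⟨y, hy, rfl⟩ := hg
  exact ⟨⟨x, hx⟩ * y * (⟨x, hx⟩ : T.P1)⁻¹, (commutator T.P1).normal_of_characteristic.conj_mem y hy _, rfl⟩

end TwG

variable {D : ChevalleyDatum} {X : Aux} (C : Cert D X) {K : Type*} [Field K]

theorem xG_swap_one {r s k : ℕ} {N : ℤ} (h : chkOneTerm D r s k N = true) (t u : K) :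
    xG C K s u * xG C K r t = xG C K r t * xG C K s u * xG C K k (-((N : K) * t * u)) := by
  simp only [chkOneTerm, Bool.and_eq_true, nat_blt_iff, Bool.not_eq_true', decide_eq_true_iff] at h
  obtain ⟨⟨⟨⟨h1, h2⟩, h3⟩, h4⟩, h5⟩ := h
  rw [← Bool.not_eq_true, nat_beq_iff] at h3 h4
  rw [xG_swap C h1 h2 h3 h4 h5 t u]
  simp only [List.map_cons, List.map_nil, List.prod_cons, List.prod_nil, mul_one, pow_one]
  congr 2
  ring

variable (T : TwG (chevRel C K))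

theorem fixed_xG_mem {r : ℕ} (hr : r < D.nroots) {t : K} (h : T.σ (xG C K r t) = xG C K r t) :
    xG C K r t ∈ T.P1 := by
  by_cases hp : half D ≤ r
  · exact T.mem_P1_of_fixed_UP (xG_pos_mem C hp hr t) h
  · exact T.mem_P1_of_fixed_UN (xG_neg_mem C (not_le.1 hp) t) h

/-- a fixed element of a fixed root that is the sum of two fixed roots is a commutator -/
theorem fixed_root_mem_Cm {r a b : ℕ} {N : ℤ} (hr : r < D.nroots) (hN : (N : K) ≠ 0)
    (hab : chkOneTerm D a b r N = true) {φ : K → K} (hσa : ∀ t, T.σ (xG C K a t) = xG C K a (φ t))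
    (hb : T.σ (xG C K b 1) = xG C K b 1) {t : K} (ht : T.σ (xG C K r t) = xG C K r t) :
    xG C K r t ∈ T.Cm := by
  have h := hab
  simp only [chkOneTerm, Bool.and_eq_true, nat_blt_iff] at h
  obtain ⟨⟨⟨⟨ha', hb'⟩, -⟩, -⟩, -⟩ := h
  have hrel : ∀ s : K, xG C K r (-((N : K) * s * 1)) = (xG C K a s * xG C K b 1)⁻¹ * (xG C K b 1 * xG C K a s) :=
    fun s => by rw [xG_swap_one C hab s 1]; group
  obtain ⟨s, hs⟩ : ∃ s : K, -((N : K) * s * 1) = t := ⟨-(t / (N : K)), by field_simp⟩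
  have h1 := congrArg T.σ (hrel s)
  rw [hs, ht] at h1
  simp only [map_mul, map_inv, hσa, hb] at h1
  rw [← hrel (φ s), ← hs] at h1
  have h2 := (chevRel C K).xe_inj_param (r := ⟨r, hr⟩) h1
  have h3 : φ s = s := by
    simp only [mul_one, neg_inj] at h2
    exact (mul_left_cancel₀ hN h2).symm
  have hx : xG C K a s ∈ T.P1 := fixed_xG_mem C T ha' (by rw [hσa, h3])
  have hy : xG C K b 1 ∈ T.P1 := fixed_xG_mem C T hb' hb
  have h4 := T.comm_mem_Cm (inv_mem hy) (inv_mem hx)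
  rw [← hs, hrel s]
  have e : (xG C K a s * xG C K b 1)⁻¹ * (xG C K b 1 * xG C K a s) =
      (xG C K b 1)⁻¹ * (xG C K a s)⁻¹ * ((xG C K b 1)⁻¹)⁻¹ * ((xG C K a s)⁻¹)⁻¹ := by group
  rw [e]
  exact h4

/-- a class of two roots, obtained from a commutator with a fixed root and a fixed long residual -/
theorem pair_class_mem_Cm {a₁ a₂ b p₁ p₂ L : ℕ} {N₁ N₂ M : ℤ} (hN : (N₁ : K) ≠ 0)
    (h1 : chkOneTerm D a₁ b p₁ N₁ = true) (h2 : chkOneTerm D a₂ b p₂ N₂ = true)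
    (h3 : chkOneTerm D a₂ p₁ L M = true) (hp₂ : p₂ < D.nroots) (hL : L < D.nroots)
    (ha : chkNoTerms D a₁ a₂ = true) (hp : chkNoTerms D p₁ p₂ = true) {φ ψ φp ψp : K → K}
    (hσ1 : ∀ t, T.σ (xG C K a₁ t) = xG C K a₂ (φ t)) (hσ2 : ∀ t, T.σ (xG C K a₂ t) = xG C K a₁ (ψ t))
    (hψ : ∀ t, ψ (φ t) = t) (hb : T.σ (xG C K b 1) = xG C K b 1)
    (hσp : ∀ t, T.σ (xG C K p₁ t) = xG C K p₂ (φp t)) (hσp2 : ∀ t, T.σ (xG C K p₂ t) = xG C K p₁ (ψp t))
    (hA : ∀ t, xG C K a₁ t * xG C K a₂ (φ t) ∈ T.P1) (hP : ∀ t, xG C K p₁ t * xG C K p₂ (φp t) ∈ T.P1)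
    (hLC : ∀ t, T.σ (xG C K L t) = xG C K L t → xG C K L t ∈ T.Cm) (v : K) :
    xG C K p₁ v * xG C K p₂ (φp v) ∈ T.Cm := by
  obtain ⟨s, hs⟩ : ∃ s : K, -((N₁ : K) * s * 1) = v := ⟨-(v / (N₁ : K)), by field_simp⟩
  have hv2 : φp v = -((N₂ : K) * φ s * 1) := by
    have e := congrArg T.σ (xG_swap_one C h1 s 1)
    simp only [map_mul, hσ1, hb, hσp, hs] at e
    rw [xG_swap_one C h2 (φ s) 1] at e
    exact ((chevRel C K).xe_inj_param (r := ⟨p₂, hp₂⟩) (mul_left_cancel e)).symm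
  have hbP : xG C K b 1 ∈ T.P1 := fixed_xG_mem C T (by
    have := h1
    simp only [chkOneTerm, Bool.and_eq_true, nat_blt_iff] at this
    exact this.1.1.1.2) hb
  obtain ⟨m, hm⟩ : ∃ m, m = -((M : K) * φ s * v) := ⟨_, rfl⟩
  have e : xG C K b 1 * (xG C K a₁ s * xG C K a₂ (φ s)) =
      xG C K a₁ s * xG C K a₂ (φ s) * xG C K b 1 * (xG C K p₂ (φp v) * xG C K p₁ v * xG C K L m) := by
    rw [← mul_assoc, xG_swap_one C h1 s 1, hs, mul_assoc _ (xG C K p₁ v), xG_swap_one C h3 (φ s) v, ← hm,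
      mul_assoc (xG C K a₁ s) (xG C K b 1), ← mul_assoc (xG C K b 1), ← mul_assoc (xG C K b 1),
      xG_swap_one C h2 (φ s) 1, ← hv2]
    group
  have hE : xG C K p₂ (φp v) * xG C K p₁ v * xG C K L m ∈ T.Cm := by
    have h4 := T.comm_mem_Cm (inv_mem hbP) (inv_mem (hA s))
    have e2 : xG C K p₂ (φp v) * xG C K p₁ v * xG C K L m =
        (xG C K b 1)⁻¹ * (xG C K a₁ s * xG C K a₂ (φ s))⁻¹ * ((xG C K b 1)⁻¹)⁻¹ *
          ((xG C K a₁ s * xG C K a₂ (φ s))⁻¹)⁻¹ := by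
      rw [inv_inv, inv_inv, mul_assoc _ (xG C K b 1), e]; group
    rwa [e2]
  have hPm : xG C K p₂ (φp v) * xG C K p₁ v = xG C K p₁ v * xG C K p₂ (φp v) := (xG_commute C hp v _).symm.eq
  rw [hPm] at hE
  have hLm : xG C K L m ∈ T.P1 := by
    have := mul_mem (inv_mem (hP v)) (T.Cm_le hE)
    rwa [inv_mul_cancel_left] at this
  have := mul_mem hE (inv_mem (hLC m (T.hfix _ hLm)))
  rwa [mul_inv_cancel_right] at this

end CfsgLib.Lie.Chev
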