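/-
The triality twisted groups are perfect.

Two commutators are computed modulo the two highest roots: a commutator of the classes of `α` and `α + β` gives
every fixed element of the class of `2α + β`, and a commutator of the negative of `β` with the class of `α + β`
gives every fixed element of the class of `α`.
-/
import Cfsg.Agent.Lib.Lie.Twisted.D4Torus
import Cfsg.Agent.Lib.Lie.Twisted.Perfect

set_option autoImplicit false

namespace CfsgLib.Lie.Chev.TwGroups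

open Cfsg.Lie

/-- the roots whose elements commute with the two highest root subgroups -/
def midD4 : List ℕ := [12, 13, 15, 16, 17, 18, 19, 20, 21, 22, 23]

theorem centD4 : (chkNoTerms chevD4 22 23 = true ∧ chkNoTerms chevD4 23 22 = true) ∧
    ∀ r ∈ [12, 13, 15, 16, 17, 18, 19, 20, 21], chkNoTerms chevD4 22 r = true ∧ chkNoTerms chevD4 23 r = true := by
  decide +kernel

theorem termsD4 :
    (chkOneTerm chevD4 18 15 20 (-1) = true ∧ chkOneTerm chevD4 18 16 21 (-1) = true ∧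
      chkOneTerm chevD4 13 15 17 1 = true ∧ chkOneTerm chevD4 13 19 21 1 = true ∧
      chkOneTerm chevD4 12 16 17 1 = true ∧ chkOneTerm chevD4 12 19 20 1 = true) ∧
    (chkOneTerm chevD4 9 15 12 (-1) = true ∧ chkOneTerm chevD4 9 16 13 (-1) = true ∧
      chkOneTerm chevD4 9 19 18 1 = true ∧ chkOneTerm chevD4 16 18 21 1 = true ∧
      chkOneTerm chevD4 15 18 20 1 = true ∧ chkOneTerm chevD4 15 13 17 (-1) = true) ∧
    (chkOneTerm chevD4 15 21 23 (-1) = true ∧ chkOneTerm chevD4 16 20 23 (-1) = true ∧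
      chkOneTerm chevD4 19 17 23 (-1) = true ∧ chkOneTerm chevD4 13 20 22 1 = true ∧
      chkOneTerm chevD4 12 21 22 1 = true ∧ chkOneTerm chevD4 18 17 22 (-1) = true) ∧
    (chkOneTerm chevD4 23 1 14 1 = true ∧ chkOneTerm chevD4 22 14 23 (-1) = true ∧
      chkOneTerm chevD4 23 9 22 (-1) = true) := by decide +kernel

theorem quietD4 :
    (chkNoTerms chevD4 18 19 = true ∧ chkNoTerms chevD4 13 16 = true ∧ chkNoTerms chevD4 12 15 = true ∧
      chkNoTerms chevD4 13 21 = true ∧ chkNoTerms chevD4 12 17 = true ∧ chkNoTerms chevD4 12 20 = true) ∧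
    (chkNoTerms chevD4 19 16 = true ∧ chkNoTerms chevD4 19 15 = true ∧ chkNoTerms chevD4 16 15 = true) ∧
    (chkNoTerms chevD4 16 21 = true ∧ chkNoTerms chevD4 15 20 = true ∧ chkNoTerms chevD4 15 17 = true ∧
      chkNoTerms chevD4 16 17 = true ∧ chkNoTerms chevD4 19 20 = true ∧ chkNoTerms chevD4 19 21 = true) ∧
    (chkNoTerms chevD4 17 20 = true ∧ chkNoTerms chevD4 17 21 = true ∧ chkNoTerms chevD4 20 21 = true) := by
  decide +kernel

theorem twAtD4' :
    (twAt chevD4 twTD4 19 = (16, -1, 1) ∧ twAt chevD4 twTD4 16 = (15, 1, 1) ∧ twAt chevD4 twTD4 15 = (19, -1, 1)) ∧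
    (twAt chevD4 twTD4 21 = (17, -1, 1) ∧ twAt chevD4 twTD4 17 = (20, -1, 1) ∧ twAt chevD4 twTD4 20 = (21, 1, 1)) ∧
    (twAt chevD4 twTD4 22 = (22, 1, 1) ∧ twAt chevD4 twTD4 23 = (23, 1, 1) ∧ twAt chevD4 twTD4 1 = (1, 1, 1)) ∧
    ((∀ r ∈ midD4, half chevD4 ≤ r ∧ r < chevD4.nroots) ∧ 14 < chevD4.nroots) := by decide +kernel

/-! ### abstract rearrangements -/

theorem move3 {M : Type*} [Group M] {x y z t r₁ r₂ r₃ : M} (h1 : z * t = t * z * r₁) (h2 : y * t = t * y * r₂)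
    (h3 : x * t = t * x * r₃) (c1 : Commute r₃ y) (c2 : Commute r₃ z) (c3 : Commute r₂ z) :
    x * y * z * t = t * (x * y * z) * (r₃ * r₂ * r₁) :=
  calc x * y * z * t = x * y * (z * t) := by group
    _ = x * (y * t) * z * r₁ := by rw [h1]; group
    _ = (x * t) * y * (r₂ * z) * r₁ := by rw [h2]; group
    _ = t * x * (r₃ * y) * (z * r₂) * r₁ := by rw [h3, c3.eq]; group
    _ = t * x * y * (r₃ * z) * r₂ * r₁ := by rw [c1.eq]; group
    _ = _ := by rw [c2.eq]; group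

theorem bubble3 {M : Type*} [Group M] {a b c w Pa Pb Pc : M} (ha : w * a = a * w * Pa) (hb : w * b = b * w * Pb)
    (hc : w * c = c * w * Pc) (c1 : Commute Pa b) (c2 : Commute Pa c) (c3 : Commute Pb c) :
    w * (a * b * c) = (a * b * c) * w * (Pc * Pb * Pa) :=
  calc w * (a * b * c) = (w * a) * b * c := by group
    _ = a * w * (Pa * b) * c := by rw [ha]
                                   group
    _ = a * (w * b) * (Pa * c) := by rw [c1.eq]; group
    _ = a * b * w * (Pb * c) * Pa := by rw [hb, c2.eq]; group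
    _ = a * b * (w * c) * Pb * Pa := by rw [c3.eq]; group
    _ = _ := by rw [hc]; group

theorem pull3 {M : Type*} [Group M] {x y z a b c r s t : M} (h1 : a * y = y * a * r) (h2 : b * z = z * b * s)
    (h3 : a * z = z * a * t) (cr : Commute r z) (crb : Commute r b) (ctb : Commute t b) (csc : Commute s c)
    (crc : Commute r c) (ctc : Commute t c) :
    x * a * y * b * z * c = (x * y * z) * (a * b * c) * (t * r * s) :=
  calc x * a * y * b * z * c = x * (a * y) * (b * z) * c := by group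
    _ = x * y * a * (r * z) * b * s * c := by rw [h1, h2]; group
    _ = x * y * (a * z) * r * b * s * c := by rw [cr.eq]; group
    _ = x * y * z * a * t * (r * b) * (s * c) := by rw [h3]; group
    _ = x * y * z * a * (t * b) * r * c * s := by rw [crb.eq, csc.eq]; group
    _ = x * y * z * a * b * t * (r * c) * s := by rw [ctb.eq]; group
    _ = x * y * z * a * b * (t * c) * r * s := by rw [crc.eq]; group
    _ = _ := by rw [ctc.eq]; group

theorem collect6 {M : Type*} [Group M] {e₁ e₂ f₁ f₂ g₁ g₂ : M} (a : Commute e₁ g₁) (b : Commute e₁ g₂)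
    (c : Commute e₁ f₁) (d : Commute e₁ f₂) (e : Commute f₁ g₁) (f : Commute f₁ g₂) (g : Commute f₂ g₂) :
    e₁ * f₁ * (g₁ * f₂) * (g₂ * e₂) = (g₁ * g₂) * (f₁ * f₂) * (e₁ * e₂) :=
  calc e₁ * f₁ * (g₁ * f₂) * (g₂ * e₂) = e₁ * (f₁ * g₁) * (f₂ * g₂) * e₂ := by group
    _ = (e₁ * (g₁ * (f₁ * g₂))) * f₂ * e₂ := by rw [e.eq, g.eq]; group
    _ = (g₁ * (g₂ * f₁)) * e₁ * f₂ * e₂ := by rw [f.eq, (a.mul_right (b.mul_right c)).eq]
    _ = _ := by rw [mul_assoc _ e₁ f₂, d.eq]; group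

/-! ### the two highest root subgroups and congruence modulo them -/

variable (K : Type*) [Field K]

/-- the product of the two highest root subgroups -/
def ZD4 : Subgroup ↥(chevD4.group K) where
  carrier := {g | ∃ a b : K, g = xG certD4 K 22 a * xG certD4 K 23 b}
  one_mem' := ⟨0, 0, by
    rw [show xG certD4 K 22 (0 : K) = 1 from (chevRel certD4 K).xe_zero _,
      show xG certD4 K 23 (0 : K) = 1 from (chevRel certD4 K).xe_zero _, mul_one]⟩
  mul_mem' := by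
    rintro _ _ ⟨a, b, rfl⟩ ⟨c, d, rfl⟩
    refine ⟨a + c, b + d, ?_⟩
    rw [← xG_pow_mul, ← xG_pow_mul, (xG_commute certD4 centD4.1.1 c b).symm.mul_mul_mul_comm]
  inv_mem' := by
    rintro _ ⟨a, b, rfl⟩
    refine ⟨-a, -b, ?_⟩
    rw [show xG certD4 K 22 (-a) = (xG certD4 K 22 a)⁻¹ from (chevRel certD4 K).xe_neg _ _,
      show xG certD4 K 23 (-b) = (xG certD4 K 23 b)⁻¹ from (chevRel certD4 K).xe_neg _ _, mul_inv_rev,
      ((xG_commute certD4 centD4.1.1 a b).inv_inv).eq]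

/-- their centralizer -/
def HD4 : Subgroup ↥(chevD4.group K) := Subgroup.centralizer (ZD4 K : Set ↥(chevD4.group K))

instance ZD4_normal : ((ZD4 K).subgroupOf (HD4 K)).Normal :=
  ⟨fun z hz h => by
    have e : (z : ↥(chevD4.group K)) * h = h * z := h.2 _ hz
    rw [Subgroup.mem_subgroupOf] at hz ⊢
    rw [Subgroup.coe_mul, Subgroup.coe_mul, Subgroup.coe_inv, ← e, mul_inv_cancel_right]
    exact hz⟩

variable {K}

theorem mid_mem {r : ℕ} (hr : r ∈ midD4) (t : K) : xG certD4 K r t ∈ HD4 K := by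
  rintro _ ⟨a, b, rfl⟩
  have self : ∀ (k : ℕ) (x y : K), Commute (xG certD4 K k x) (xG certD4 K k y) := fun k x y => by
    show _ * _ = _ * _
    rw [xG_pow_mul, xG_pow_mul, add_comm]
  obtain ⟨⟨c1, c2⟩, hc⟩ := centD4
  have key : Commute (xG certD4 K 22 a) (xG certD4 K r t) ∧ Commute (xG certD4 K 23 b) (xG certD4 K r t) := by
    by_cases h2 : r = 22
    · subst h2; exact ⟨self _ _ _, xG_commute certD4 c2 _ _⟩
    by_cases h3 : r = 23
    · subst h3; exact ⟨xG_commute certD4 c1 _ _, self _ _ _⟩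
    have hr' : r ∈ [12, 13, 15, 16, 17, 18, 19, 20, 21] := by
      simp only [midD4, List.mem_cons, List.not_mem_nil, or_false, h2, h3] at hr ⊢
      exact hr
    exact ⟨xG_commute certD4 (hc r hr').1 _ _, xG_commute certD4 (hc r hr').2 _ _⟩
  exact (key.1.mul_left key.2).eq

/-- a root element modulo the two highest root subgroups -/
def elD4 (r : ℕ) (t : K) : ↥(HD4 K) ⧸ (ZD4 K).subgroupOf (HD4 K) :=
  if h : r ∈ midD4 then QuotientGroup.mk ⟨xG certD4 K r t, mid_mem h t⟩ else 1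

theorem elD4_eq {r : ℕ} (h : r ∈ midD4) (t : K) :
    elD4 r t = QuotientGroup.mk ⟨xG certD4 K r t, mid_mem h t⟩ := dif_pos h

theorem elD4_add {r : ℕ} (h : r ∈ midD4) (a b : K) : elD4 r a * elD4 r b = elD4 r (a + b) := by
  rw [elD4_eq h, elD4_eq h, elD4_eq h, ← QuotientGroup.mk_mul]
  exact congrArg _ (Subtype.ext (xG_pow_mul certD4 r a b))

theorem elD4_high {r : ℕ} (h : r ∈ [22, 23]) (t : K) : elD4 r t = 1 := by
  have hz : xG certD4 K r t ∈ ZD4 K := by
    simp only [List.mem_cons, List.not_mem_nil, or_false] at h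
    rcases h with rfl | rfl
    · exact ⟨t, 0, by rw [show xG certD4 K 23 (0 : K) = 1 from (chevRel certD4 K).xe_zero _, mul_one]⟩
    · exact ⟨0, t, by rw [show xG certD4 K 22 (0 : K) = 1 from (chevRel certD4 K).xe_zero _, one_mul]⟩
  have hm : r ∈ midD4 := by
    simp only [List.mem_cons, List.not_mem_nil, or_false] at h
    rcases h with rfl | rfl <;> decide
  rw [elD4_eq hm, QuotientGroup.eq_one_iff, Subgroup.mem_subgroupOf]
  exact hz

theorem elD4_comm {r s : ℕ} (hr : r ∈ midD4) (hs : s ∈ midD4) (h : chkNoTerms chevD4 r s = true) (t u : K) :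
    Commute (elD4 r t) (elD4 s u) := by
  show _ * _ = _ * _
  rw [elD4_eq hr, elD4_eq hs, ← QuotientGroup.mk_mul, ← QuotientGroup.mk_mul]
  exact congrArg _ (Subtype.ext (xG_commute certD4 h t u).eq)

theorem elD4_swap {r s k : ℕ} {N : ℤ} (hr : r ∈ midD4) (hs : s ∈ midD4) (hk : k ∈ midD4)
    (h : chkOneTerm chevD4 r s k N = true) (t u : K) :
    elD4 s u * elD4 r t = elD4 r t * elD4 s u * elD4 k (-((N : K) * t * u)) := by
  rw [elD4_eq hr, elD4_eq hs, elD4_eq hk, ← QuotientGroup.mk_mul, ← QuotientGroup.mk_mul, ← QuotientGroup.mk_mul]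
  exact congrArg _ (Subtype.ext (xG_swap_one certD4 h t u))

theorem elD4_comm_high {r s k : ℕ} {N : ℤ} (hr : r ∈ midD4) (hs : s ∈ midD4) (hk : k ∈ [22, 23])
    (h : chkOneTerm chevD4 r s k N = true) (t u : K) : Commute (elD4 r t) (elD4 s u) := by
  have hk' : k ∈ midD4 := by
    simp only [List.mem_cons, List.not_mem_nil, or_false] at hk
    rcases hk with rfl | rfl <;> decide
  have := elD4_swap hr hs hk' h t u
  rw [elD4_high hk, mul_one] at this
  exact this.symm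

/-! ### the commutators -/

/-- elements of the class of `α` -/
def xAD4 (q : ℕ) (t : K) : ↥(chevD4.group K) :=
  xG certD4 K 18 t * xG certD4 K 13 (t ^ q) * xG certD4 K 12 ((t ^ q) ^ q)

/-- elements of the class of `α + β` -/
def xBD4 (q : ℕ) (u : K) : ↥(chevD4.group K) :=
  xG certD4 K 19 u * xG certD4 K 16 (-(u ^ q)) * xG certD4 K 15 (-((u ^ q) ^ q))

/-- elements of the class of `2α + β` -/
def xMD4 (q : ℕ) (s : K) : ↥(chevD4.group K) :=
  xG certD4 K 21 s * xG certD4 K 17 (-(s ^ q)) * xG certD4 K 20 ((s ^ q) ^ q)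

theorem xAD4_mem_H (q : ℕ) (t : K) : xAD4 q t ∈ HD4 K :=
  mul_mem (mul_mem (mid_mem (by decide) _) (mid_mem (by decide) _)) (mid_mem (by decide) _)

theorem xBD4_mem_H (q : ℕ) (t : K) : xBD4 q t ∈ HD4 K :=
  mul_mem (mul_mem (mid_mem (by decide) _) (mid_mem (by decide) _)) (mid_mem (by decide) _)

theorem xMD4_mem_H (q : ℕ) (t : K) : xMD4 q t ∈ HD4 K :=
  mul_mem (mul_mem (mid_mem (by decide) _) (mid_mem (by decide) _)) (mid_mem (by decide) _)

variable [Fintype K] {q : ℕ} (hq : IsPrimePow q) (hK : Fintype.card K = q ^ 3)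

include hq hK in
/-- the commutator of the classes of `α` and `α + β` modulo the two highest root subgroups -/
theorem comm_ab_D4 (a u : K) :
    (xMD4 q (a * -(u ^ q) - a ^ q * u))⁻¹ * ((xAD4 q a * xBD4 q u)⁻¹ * (xBD4 q u * xAD4 q a)) ∈ ZD4 K := by
  obtain ⟨⟨t1, t2, t3, t4, t5, t6⟩, -, ⟨z1, z2, z3, z4, z5, z6⟩, -⟩ := termsD4
  obtain ⟨⟨n1, n2, n3, n4, n5, n6⟩, -, ⟨m1, m2, m3, m4, m5, m6⟩, ⟨p1, p2, p3⟩⟩ := quietD4
  obtain ⟨b, hb⟩ : ∃ b, b = a ^ q := ⟨_, rfl⟩
  obtain ⟨c, hc⟩ : ∃ c, c = b ^ q := ⟨_, rfl⟩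
  obtain ⟨v, hv⟩ : ∃ v, v = -(u ^ q) := ⟨_, rfl⟩
  obtain ⟨w, hw⟩ : ∃ w, w = -((u ^ q) ^ q) := ⟨_, rfl⟩
  have e18 := fun t : K => elD4 (K := K) 18 t
  have A18 : elD4 19 u * elD4 16 v * elD4 15 w * elD4 18 a =
      elD4 18 a * (elD4 19 u * elD4 16 v * elD4 15 w) *
        (1 * elD4 21 (-(((-1 : ℤ) : K) * a * v)) * elD4 20 (-(((-1 : ℤ) : K) * a * w))) :=
    move3 (elD4_swap (by decide) (by decide) (by decide) t1 a w)
      (elD4_swap (by decide) (by decide) (by decide) t2 a v)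
      (by rw [mul_one]; exact (elD4_comm (by decide) (by decide) n1 a u).symm.eq)
      (Commute.one_left _) (Commute.one_left _) (elD4_comm_high (by decide) (by decide) (by decide) z1 _ _).symm
  have A13 : elD4 19 u * elD4 16 v * elD4 15 w * elD4 13 b =
      elD4 13 b * (elD4 19 u * elD4 16 v * elD4 15 w) *
        (elD4 21 (-(((1 : ℤ) : K) * b * u)) * 1 * elD4 17 (-(((1 : ℤ) : K) * b * w))) :=
    move3 (elD4_swap (by decide) (by decide) (by decide) t3 b w)
      (by rw [mul_one]; exact (elD4_comm (by decide) (by decide) n2 b v).symm.eq)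
      (elD4_swap (by decide) (by decide) (by decide) t4 b u)
      (elD4_comm (by decide) (by decide) m1 _ _).symm
      (elD4_comm_high (by decide) (by decide) (by decide) z1 _ _).symm (Commute.one_left _)
  have A12 : elD4 19 u * elD4 16 v * elD4 15 w * elD4 12 c =
      elD4 12 c * (elD4 19 u * elD4 16 v * elD4 15 w) *
        (elD4 20 (-(((1 : ℤ) : K) * c * u)) * elD4 17 (-(((1 : ℤ) : K) * c * v)) * 1) :=
    move3 (by rw [mul_one]; exact (elD4_comm (by decide) (by decide) n3 c w).symm.eq)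
      (elD4_swap (by decide) (by decide) (by decide) t5 c v)
      (elD4_swap (by decide) (by decide) (by decide) t6 c u)
      (elD4_comm_high (by decide) (by decide) (by decide) z2 _ _).symm
      (elD4_comm (by decide) (by decide) m2 _ _).symm (elD4_comm (by decide) (by decide) m3 _ _).symm
  have hBA := bubble3 A18 A13 A12
    (((Commute.one_left _).mul_left (elD4_comm (by decide) (by decide) n4 _ _).symm).mul_left
      (elD4_comm_high (by decide) (by decide) (by decide) z4 _ _).symm)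
    (((Commute.one_left _).mul_left (elD4_comm_high (by decide) (by decide) (by decide) z5 _ _).symm).mul_left
      (elD4_comm (by decide) (by decide) n6 _ _).symm)
    (((elD4_comm_high (by decide) (by decide) (by decide) z5 _ _).symm.mul_left (Commute.one_left _)).mul_left
      (elD4_comm (by decide) (by decide) n5 _ _).symm)
  simp only [mul_one, one_mul] at hBA
  have pc : ∀ x y : K, Commute (elD4 20 x) (elD4 21 y) := fun x y => elD4_comm (by decide) (by decide) p3 x y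
  have pd : ∀ x y : K, Commute (elD4 17 x) (elD4 21 y) := fun x y => elD4_comm (by decide) (by decide) p2 x y
  have pe : ∀ x y : K, Commute (elD4 20 x) (elD4 17 y) := fun x y =>
    (elD4_comm (by decide) (by decide) p1 y x).symm
  rw [collect6 (pc _ _) (pc _ _) (pe _ _) (pe _ _) (pd _ _) (pd _ _) (pd _ _), elD4_add (by decide),
    elD4_add (by decide), elD4_add (by decide)] at hBA
  set s := a * -(u ^ q) - a ^ q * u with hs
  have pn : ∀ x : K, (-x) ^ q = -(x ^ q) := neg_pow_D4 hq hK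
  have psub : ∀ x y : K, (x - y) ^ q = x ^ q - y ^ q := fun x y => by simp only [← frD4_apply hq hK, map_sub]
  have h1 : -(((1 : ℤ) : K) * b * u) + -(((-1 : ℤ) : K) * a * v) = s := by
    rw [hs, hb, hv]; push_cast; ring
  have h2 : -(((1 : ℤ) : K) * c * v) + -(((1 : ℤ) : K) * b * w) = -(s ^ q) := by
    rw [hs, psub, mul_pow, mul_pow, pn, hc, hb, hv, hw]; push_cast; ring
  have h3 : -(((1 : ℤ) : K) * c * u) + -(((-1 : ℤ) : K) * a * w) = (s ^ q) ^ q := by
    rw [hs, psub, mul_pow, mul_pow, pn, psub, mul_pow, mul_pow, pn, pow_qqq hK, pow_qqq hK, hc, hb, hw]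
    push_cast; ring
  rw [h1, h2, h3] at hBA
  simp only [elD4_eq (show 12 ∈ midD4 by decide), elD4_eq (show 13 ∈ midD4 by decide),
    elD4_eq (show 15 ∈ midD4 by decide), elD4_eq (show 16 ∈ midD4 by decide), elD4_eq (show 17 ∈ midD4 by decide),
    elD4_eq (show 18 ∈ midD4 by decide), elD4_eq (show 19 ∈ midD4 by decide), elD4_eq (show 20 ∈ midD4 by decide),
    elD4_eq (show 21 ∈ midD4 by decide), ← QuotientGroup.mk_mul, QuotientGroup.eq] at hBA
  rw [Subgroup.mem_subgroupOf] at hBA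
  simp only [Subgroup.coe_mul, Subgroup.coe_inv] at hBA
  rw [hc, hb, hv, hw] at hBA
  have e : (xMD4 q s)⁻¹ * ((xAD4 q a * xBD4 q u)⁻¹ * (xBD4 q u * xAD4 q a)) =
      ((xBD4 q u * xAD4 q a)⁻¹ * (xAD4 q a * xBD4 q u * xMD4 q s))⁻¹ := by group
  rw [e]
  exact inv_mem hBA

include hq hK in
/-- the commutator of `x₋β(1)` and the class of `α + β` modulo the two highest root subgroups -/
theorem comm_b_D4 (u : K) :
    xBD4 q u * xG certD4 K 9 1 = xG certD4 K 9 1 *
      (xG certD4 K 19 u * xG certD4 K 18 (-u) * xG certD4 K 16 (-(u ^ q)) * xG certD4 K 13 ((-u) ^ q) *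
        xG certD4 K 15 (-((u ^ q) ^ q)) * xG certD4 K 12 (((-u) ^ q) ^ q)) ∧
    (xAD4 q (-u) * xMD4 q (-(u * u ^ q)))⁻¹ * ((xBD4 q u)⁻¹ *
      (xG certD4 K 19 u * xG certD4 K 18 (-u) * xG certD4 K 16 (-(u ^ q)) * xG certD4 K 13 ((-u) ^ q) *
        xG certD4 K 15 (-((u ^ q) ^ q)) * xG certD4 K 12 (((-u) ^ q) ^ q))) ∈ ZD4 K := by
  obtain ⟨-, ⟨d1, d2, d3, s1, s2, s3⟩, ⟨z1, -, -, z4, z5, z6⟩, -⟩ := termsD4
  obtain ⟨⟨-, -, -, n4, n5, n6⟩, -, -, ⟨p1, p2, p3⟩⟩ := quietD4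
  have pn : ∀ x : K, (-x) ^ q = -(x ^ q) := neg_pow_D4 hq hK
  obtain ⟨v, hv⟩ : ∃ v, v = -(u ^ q) := ⟨_, rfl⟩
  obtain ⟨w, hw⟩ : ∃ w, w = -((u ^ q) ^ q) := ⟨_, rfl⟩
  have hv' : (-u) ^ q = v := by rw [pn, hv]
  have hw' : v ^ q = w := by rw [hv, hw, pn]
  constructor
  · have g1 := xG_swap_one certD4 d1 1 w
    have g2 := xG_swap_one certD4 d2 1 v
    have g3 := xG_swap_one certD4 d3 1 u
    have c1 : -(((-1 : ℤ) : K) * 1 * w) = w := by push_cast; ring
    have c2 : -(((-1 : ℤ) : K) * 1 * v) = v := by push_cast; ring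
    have c3 : -(((1 : ℤ) : K) * 1 * u) = -u := by push_cast; ring
    rw [c1] at g1; rw [c2] at g2; rw [c3] at g3
    rw [xBD4, hv', hw', ← hv, ← hw, mul_assoc _ (xG certD4 K 15 w), g1, mul_assoc _ (xG certD4 K 16 v),
      ← mul_assoc (xG certD4 K 16 v), ← mul_assoc (xG certD4 K 16 v), g2]
    simp only [← mul_assoc]
    rw [g3]
  · have hE := pull3 (x := elD4 19 u) (y := elD4 16 v) (z := elD4 15 w) (a := elD4 18 (-u)) (b := elD4 13 v)
      (c := elD4 12 w) (r := elD4 21 (-(((1 : ℤ) : K) * v * -u))) (s := elD4 17 (-(((-1 : ℤ) : K) * w * v)))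
      (t := elD4 20 (-(((1 : ℤ) : K) * w * -u)))
      (elD4_swap (by decide) (by decide) (by decide) s1 v (-u))
      (elD4_swap (by decide) (by decide) (by decide) s3 w v)
      (elD4_swap (by decide) (by decide) (by decide) s2 w (-u))
      (elD4_comm_high (by decide) (by decide) (by decide) z1 _ _).symm
      (elD4_comm (by decide) (by decide) n4 _ _).symm
      (elD4_comm_high (by decide) (by decide) (by decide) z4 _ _).symm
      (elD4_comm (by decide) (by decide) n5 _ _).symm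
      (elD4_comm_high (by decide) (by decide) (by decide) z5 _ _).symm
      (elD4_comm (by decide) (by decide) n6 _ _).symm
    rw [((elD4_comm (by decide) (by decide) p3 _ _ : Commute (elD4 20 _) (elD4 21 _))).eq,
      mul_assoc (elD4 21 _) (elD4 20 _),
      (((elD4_comm (by decide) (by decide) p1 _ _).symm : Commute (elD4 20 _) (elD4 17 _))).eq,
      ← mul_assoc (elD4 21 _)] at hE
    have h1 : -(((1 : ℤ) : K) * v * -u) = -(u * u ^ q) := by rw [hv]; push_cast; ring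
    have h2 : -(((-1 : ℤ) : K) * w * v) = -((-(u * u ^ q)) ^ q) := by
      rw [pn, mul_pow, hw, hv]; push_cast; ring
    have h3 : -(((1 : ℤ) : K) * w * -u) = ((-(u * u ^ q)) ^ q) ^ q := by
      rw [pn, pn, mul_pow, mul_pow, pow_qqq hK, hw]; push_cast; ring
    rw [h1, h2, h3] at hE
    simp only [elD4_eq (show 12 ∈ midD4 by decide), elD4_eq (show 13 ∈ midD4 by decide),
      elD4_eq (show 15 ∈ midD4 by decide), elD4_eq (show 16 ∈ midD4 by decide), elD4_eq (show 17 ∈ midD4 by decide),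
      elD4_eq (show 18 ∈ midD4 by decide), elD4_eq (show 19 ∈ midD4 by decide), elD4_eq (show 20 ∈ midD4 by decide),
      elD4_eq (show 21 ∈ midD4 by decide), ← QuotientGroup.mk_mul, QuotientGroup.eq] at hE
    rw [Subgroup.mem_subgroupOf] at hE
    simp only [Subgroup.coe_mul, Subgroup.coe_inv] at hE
    rw [hv', hw', ← hv, ← hw]
    have e : ∀ X B A M : ↥(chevD4.group K), (A * M)⁻¹ * (B⁻¹ * X) = (X⁻¹ * (B * A * M))⁻¹ := fun X B A M => by group
    rw [e]
    refine inv_mem ?_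
    rw [xAD4, xBD4, xMD4, hv', hw', ← hv, ← hw]
    exact hE

/-! ### the classes -/

theorem σD4_ZD4 {z : ↥(chevD4.group K)} (hz : z ∈ ZD4 K) (hfix : σD4 hq hK z = z) :
    ∃ a b : K, a ^ q = a ∧ b ^ q = b ∧ z = xG certD4 K 22 a * xG certD4 K 23 b := by
  obtain ⟨-, -, ⟨w22, w23, -⟩, hm, -⟩ := twAtD4'
  obtain ⟨a, b, rfl⟩ := hz
  rw [map_mul, σD4_simple hq hK w22, σD4_simple hq hK w23] at hfix
  have h2 : xG certD4 K 22 (a ^ q - a) = xG certD4 K 23 (b - b ^ q) := by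
    rw [sub_eq_add_neg, add_comm, sub_eq_add_neg b, ← xG_pow_mul, ← xG_pow_mul,
      show xG certD4 K 22 (-a) = (xG certD4 K 22 a)⁻¹ from (chevRel certD4 K).xe_neg _ _,
      show xG certD4 K 23 (-(b ^ q)) = (xG certD4 K 23 (b ^ q))⁻¹ from (chevRel certD4 K).xe_neg _ _,
      eq_mul_inv_iff_mul_eq, mul_assoc, hfix, inv_mul_cancel_left]
  have ha : a ^ q = a := by
    by_contra h
    have := (chevRel certD4 K).xe_inj_root (r := ⟨22, (hm 22 (by decide)).2⟩) (r' := ⟨23, (hm 23 (by decide)).2⟩)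
      (sub_ne_zero.2 h) h2
    exact absurd (congrArg Fin.val this) (by norm_num)
  refine ⟨a, b, ha, ?_, rfl⟩
  rw [ha] at hfix
  exact (chevRel certD4 K).xe_inj_param (r := ⟨23, (hm 23 (by decide)).2⟩) (mul_left_cancel hfix)

theorem fixed_root_D4 :
    (∀ t : K, t ^ q = t → xG certD4 K 22 t ∈ (twD4 hq hK).Cm) ∧
    (∀ t : K, t ^ q = t → xG certD4 K 23 t ∈ (twD4 hq hK).Cm) ∧
    (∀ t : K, t ^ q = t → xG certD4 K 14 t ∈ (twD4 hq hK).Cm) := by
  obtain ⟨-, -, -, ⟨f1, f2, f3⟩⟩ := termsD4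
  obtain ⟨-, -, ⟨w22, w23, w1⟩, hm, h14⟩ := twAtD4'
  obtain ⟨⟨-, -, -, a4⟩, ⟨-, -, -, b4⟩⟩ := twAtD4
  have g := fun (r : ℕ) (h : twAt chevD4 twTD4 r = (r, 1, 1)) (t : K) (ht : t ^ q = t) =>
    ((σD4_simple hq hK h t).trans (by rw [ht]) : (twD4 hq hK).σ (xG certD4 K r t) = xG certD4 K r t)
  have hm1 : ((-1 : ℤ) : K) ≠ 0 := by simp
  exact ⟨fun t ht => fixed_root_mem_Cm certD4 (twD4 hq hK) (hm 22 (by decide)).2 hm1 f3 (σD4_simple hq hK w23)
      (g 9 b4 1 (one_pow q)) (g 22 w22 t ht),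
    fun t ht => fixed_root_mem_Cm certD4 (twD4 hq hK) (hm 23 (by decide)).2 hm1 f2 (σD4_simple hq hK w22)
      (g 14 a4 1 (one_pow q)) (g 23 w23 t ht),
    fun t ht => fixed_root_mem_Cm certD4 (twD4 hq hK) h14 (by simp) f1 (σD4_simple hq hK w23)
      (g 1 w1 1 (one_pow q)) (g 14 a4 t ht)⟩

theorem classes_mem_P1 (t : K) :
    xAD4 q t ∈ (twD4 hq hK).P1 ∧ xBD4 q t ∈ (twD4 hq hK).P1 ∧ xMD4 q t ∈ (twD4 hq hK).P1 := by
  obtain ⟨⟨w19, w16, w15⟩, ⟨w21, w17, w20⟩, -, hm, -⟩ := twAtD4'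
  obtain ⟨-, ⟨q1, q2, q3⟩, -, ⟨p1, p2, p3⟩⟩ := quietD4
  have hUP : ∀ r ∈ midD4, ∀ x : K, xG certD4 K r x ∈ (chevRel certD4 K).UP := fun r hr x =>
    xG_pos_mem certD4 (hm r hr).1 (hm r hr).2 x
  have pn : ∀ x : K, (-x) ^ q = -(x ^ q) := neg_pow_D4 hq hK
  refine ⟨?_, ?_, ?_⟩
  · rw [xAD4, mul_assoc]; exact wordD4_triple_mem (a := 18) (b := 13) (c := 12) (by decide) t
  · refine (twD4 hq hK).mem_P1_of_fixed_UP (mul_mem (mul_mem (hUP 19 (by decide) _) (hUP 16 (by decide) _))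
      (hUP 15 (by decide) _)) ?_
    show σD4 hq hK _ = _
    rw [xBD4, map_mul, map_mul, σD4_signed hq hK w19, σD4_simple hq hK w16, σD4_signed hq hK w15, pn, pn, neg_neg,
      pow_qqq hK, mul_assoc (xG certD4 K 19 t),
      ((xG_commute certD4 q1 t _).mul_right (xG_commute certD4 q2 t _)).eq]
  · refine (twD4 hq hK).mem_P1_of_fixed_UP (mul_mem (mul_mem (hUP 21 (by decide) _) (hUP 17 (by decide) _))
      (hUP 20 (by decide) _)) ?_
    show σD4 hq hK _ = _
    rw [xMD4, map_mul, map_mul, σD4_signed hq hK w21, σD4_signed hq hK w17, σD4_simple hq hK w20, pn, neg_neg,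
      pow_qqq hK, mul_assoc (xG certD4 K 21 t),
      ((xG_commute certD4 p2 _ t).symm.mul_right (xG_commute certD4 p3 _ t).symm).eq]

theorem cm_of_mod {X E : ↥(chevD4.group K)} (hX : X ∈ (twD4 hq hK).P1) (hE : E ∈ (twD4 hq hK).Cm)
    (hz : X⁻¹ * E ∈ ZD4 K) : X ∈ (twD4 hq hK).Cm := by
  obtain ⟨a, b, ha, hb, e⟩ := σD4_ZD4 hq hK hz
    ((twD4 hq hK).hfix _ (mul_mem (inv_mem hX) ((twD4 hq hK).Cm_le hE)))
  obtain ⟨f22, f23, -⟩ := fixed_root_D4 hq hK
  have hc : X⁻¹ * E ∈ (twD4 hq hK).Cm := e ▸ mul_mem (f22 a ha) (f23 b hb)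
  have := mul_mem hE (inv_mem hc)
  rwa [mul_inv_rev, inv_inv, mul_inv_cancel_left] at this

include hq hK in
theorem span_D4 (v : K) : ∃ a u c w : K, v = (a * -(u ^ q) - a ^ q * u) - (c * -(w ^ q) - c ^ q * w) := by
  obtain ⟨a0, ha0⟩ : ∃ a : K, a * -1 - a ^ q * 1 ≠ 0 := by
    by_contra h
    simp only [not_exists, not_not] at h
    have h2 : (2 : K) = 0 := by have := h 1; rw [one_pow] at this; linear_combination -this
    have hall : ∀ x : K, x ^ q = x := fun x => by linear_combination -h x - x * h2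
    have h3 := card_fixed hq.one_lt three_pos' hK
    rw [Nat.card_congr (Equiv.subtypeUnivEquiv hall), Nat.card_eq_fintype_card, hK] at h3
    have := hq.one_lt
    nlinarith [Nat.mul_le_mul this.le this.le]
  obtain ⟨s0, hs0⟩ : ∃ s, s = a0 * -1 - a0 ^ q * 1 := ⟨_, rfl⟩
  have key : ∀ z : K, ∃ a u : K, z * z * s0 = a * -(u ^ q) - a ^ q * u := by
    intro z
    obtain ⟨p, hp⟩ : ∃ p, q = p + 1 := ⟨q - 1, by have := hq.pos; omega⟩
    refine ⟨z ^ (p * q + 1) * a0, z ^ (p * q + 1), ?_⟩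
    have hzz : z * z = (z ^ (p * q + 1)) ^ q * z ^ (p * q + 1) := by
      rw [← pow_succ, ← pow_mul, show (p * q + 1) * (q + 1) = q ^ 3 + 1 by rw [hp]; ring, pow_succ,
        pow_q_card hK]
    rw [hzz, hs0, mul_pow]
    ring
  obtain ⟨x, hx⟩ : ∃ x : K, x * s0 = v := ⟨v / s0, div_mul_cancel₀ v (hs0 ▸ ha0)⟩
  obtain ⟨z1, z2, hz⟩ : ∃ z1 z2 : K, x = z1 * z1 - z2 * z2 := by
    by_cases h2 : (2 : K) = 0
    · obtain ⟨r, hr⟩ := FiniteField.isSquare_of_char_two ((ringChar.eq_iff).2 (CharTwo.of_one_ne_zero_of_two_eq_zero one_ne_zero h2)) x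
      exact ⟨r, 0, by rw [hr, mul_zero, sub_zero]⟩
    · exact ⟨(x + 1) / 2, (x - 1) / 2, by field_simp; ring⟩
  obtain ⟨a, u, h1⟩ := key z1
  obtain ⟨c, w, h3⟩ := key z2
  exact ⟨a, u, c, w, by rw [← h1, ← h3, ← hx, hz, sub_mul]⟩

theorem xMD4_mem_Cm (v : K) : xMD4 q v ∈ (twD4 hq hK).Cm := by
  have h : ∀ a u : K, xMD4 q (a * -(u ^ q) - a ^ q * u) ∈ (twD4 hq hK).Cm := fun a u => by
    refine cm_of_mod hq hK (classes_mem_P1 hq hK _).2.2 ?_ (comm_ab_D4 hq hK a u)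
    have := (twD4 hq hK).comm_mem_Cm (inv_mem (classes_mem_P1 hq hK u).2.1) (inv_mem (classes_mem_P1 hq hK a).1)
    simpa only [inv_inv, mul_inv_rev, mul_assoc] using this
  obtain ⟨a, u, c, w, rfl⟩ := span_D4 hq hK v
  obtain ⟨-, -, -, ⟨p1, p2, p3⟩⟩ := quietD4
  have hmul : ∀ s t : K, xMD4 q s * xMD4 q t = xMD4 q (s + t) := by
    intro s t
    have psum : ∀ x y : K, (x + y) ^ q = x ^ q + y ^ q := fun x y => by simp only [← frD4_apply hq hK, map_add]
    simp only [xMD4]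
    rw [psum, psum, neg_add, ← xG_pow_mul, ← xG_pow_mul, ← xG_pow_mul]
    simp only [mul_assoc]
    rw [(xG_commute certD4 p3 ((s ^ q) ^ q) t).left_comm, (xG_commute certD4 p2 (-(s ^ q)) t).left_comm,
      (xG_commute certD4 p1 (-(t ^ q)) ((s ^ q) ^ q)).symm.left_comm]
  have h2 : xMD4 q (a * -(u ^ q) - a ^ q * u - (c * -(w ^ q) - c ^ q * w)) =
      xMD4 q (a * -(u ^ q) - a ^ q * u) * (xMD4 q (c * -(w ^ q) - c ^ q * w))⁻¹ := by
    rw [eq_mul_inv_iff_mul_eq, hmul, sub_add_cancel]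
  rw [h2]
  exact mul_mem (h a u) (inv_mem (h c w))

theorem xAD4_mem_Cm (t : K) : xAD4 q t ∈ (twD4 hq hK).Cm := by
  obtain ⟨e, hz⟩ := comm_b_D4 hq hK (-t)
  rw [neg_neg] at hz e
  obtain ⟨E, hE⟩ : ∃ E, E = (xBD4 q (-t))⁻¹ * (xG certD4 K 19 (-t) * xG certD4 K 18 t * xG certD4 K 16 (-((-t) ^ q)) *
      xG certD4 K 13 (t ^ q) * xG certD4 K 15 (-(((-t) ^ q) ^ q)) * xG certD4 K 12 ((t ^ q) ^ q)) := ⟨_, rfl⟩
  rw [← hE] at hz
  obtain ⟨⟨-, -, -, -⟩, -, -, hm, -⟩ := twAtD4'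
  have h9 : xG certD4 K 9 1 ∈ (twD4 hq hK).P1 := wordD4_single_mem (r := 9) (by decide) (one_pow q)
  have hB := (classes_mem_P1 hq hK (-t)).2.1
  have hEc : E ∈ (twD4 hq hK).Cm := by
    have := (twD4 hq hK).comm_mem_Cm (inv_mem hB) (inv_mem h9)
    rw [inv_inv, inv_inv] at this
    have e2 : (xBD4 q (-t))⁻¹ * (xG certD4 K 9 1)⁻¹ * xBD4 q (-t) * xG certD4 K 9 1 = E := by
      rw [mul_assoc _ (xBD4 q (-t)), e, hE]; group
    rwa [e2] at this
  obtain ⟨cA, -, cM⟩ := classes_mem_P1 hq hK t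
  have hAM := cm_of_mod hq hK (mul_mem cA (classes_mem_P1 hq hK (-(-t * (-t) ^ q))).2.2) hEc hz
  have := mul_mem hAM (inv_mem (xMD4_mem_Cm hq hK (-(-t * (-t) ^ q))))
  rwa [mul_inv_cancel_right] at this

theorem classMemD4 : ∀ k, ∀ u ∈ (chevRel certD4 K).US (posSub chevD4 auxD4 (twD4 hq hK).orb k),
    u ∈ (twD4 hq hK).P1 → u ∈ (twD4 hq hK).Cm := by
  obtain ⟨⟨a1, a2, a3, a4⟩, -⟩ := twAtD4
  obtain ⟨l0, l1⟩ := classD4
  obtain ⟨⟨c1, c2, c3⟩, -⟩ := commD4
  intro k u hu hu1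
  have hfix := (twD4 hq hK).hfix u hu1
  change Fin 2 at k
  fin_cases k
  · obtain ⟨t, -, rfl⟩ := triple_fixed certD4 orbD4_ho 0 (wordD4 0) l0 permD4 c1 c2 c3 (σD4_simple hq hK a1)
      (σD4_simple hq hK a2) (σD4_simple hq hK a3) hu hfix
    have := xAD4_mem_Cm hq hK t
    rwa [xAD4, mul_assoc] at this
  · obtain ⟨t, ht, rfl⟩ := single_fixed certD4 orbD4_ho 1 (wordD4 1) l1 (σD4_simple hq hK a4) hu hfix
    exact (fixed_root_D4 hq hK).2.2 t ht

theorem rootsD4 : (∀ r ∈ [d4p2, d4p1, d4p3, d4p4], half chevD4 ≤ r ∧ r < chevD4.nroots) ∧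
    ∀ r ∈ [d4m2, d4m1, d4m3, d4m4], r < half chevD4 := by decide +kernel

omit [Fintype K] in
theorem wordsD4_oneSided (w : List (ℕ × K)) (hw : w ∈ d4Words K q) :
    (∀ x ∈ w, half chevD4 ≤ x.1 ∧ x.1 < chevD4.nroots) ∨ ∀ x ∈ w, x.1 < half chevD4 := by
  obtain ⟨hp, hn⟩ := rootsD4
  rcases hw with ⟨t, -, r, hr, rfl⟩ | ⟨t, rs, hrs, rfl⟩
  · simp only [List.mem_cons, List.not_mem_nil, or_false] at hr
    rcases hr with rfl | rfl
    · exact Or.inl (by simp only [List.forall_mem_singleton]; exact hp _ (by decide))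
    · exact Or.inr (by simp only [List.forall_mem_singleton]; exact hn _ (by decide))
  · simp only [List.mem_cons, List.not_mem_nil, or_false] at hrs
    rcases hrs with rfl | rfl
    · exact Or.inl (by
        simp only [List.forall_mem_cons]
        exact ⟨hp _ (by decide), hp _ (by decide), hp _ (by decide), by simp⟩)
    · exact Or.inr (by
        simp only [List.forall_mem_cons]
        exact ⟨hn _ (by decide), hn _ (by decide), hn _ (by decide), by simp⟩)

theorem perfectD4 : commutator (twD4 hq hK).P1 = ⊤ :=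
  (twD4 hq hK).perfect_of (classMemD4 hq hK) (gen_unipotent certD4 (d4Words K q) wordsD4_oneSided)

end CfsgLib.Lie.Chev.TwGroups
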