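/-
The fixed torus of the twisted groups of type G2, and the order formula.
-/
import Cfsg.Agent.Lib.Lie.Twisted.G2
import Cfsg.Agent.Lib.Lie.Twisted.TorusConj
import Cfsg.Agent.Lib.Lie.Twisted.WordCalc
import Cfsg.Agent.Lib.Lie.Rel.Order
import Mathlib.NumberTheory.LegendreSymbol.QuadraticChar.Basic

set_option autoImplicit false

namespace CfsgLib.Lie.Chev.TwGroups

open Cfsg.Lie

/-- a product of four fixed unipotent elements over the prime field -/
def torusWordG2 : List (ℕ × ℤ) :=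
  [(9, 1), (11, 1), (3, 1), (1, 1), (7, -1), (6, -1), (8, 1), (9, -1), (3, 1), (2, -1), (1, 1), (0, -1)]

/-- the torus element with both parameters `-1` as a word -/
def negOneWordG2 : List (ℕ × ℤ) :=
  [(7, -1), (4, 1), (7, -1), (7, -1), (4, 1), (7, -1), (6, -1), (5, 1), (6, -1), (6, -1), (5, 1), (6, -1)]

theorem chkTorusWordG2 : chkWordEq chevG2 3 torusWordG2 negOneWordG2 = true := by decide +kernel

theorem heRootsG2 :
    (chevG2.neg 7 = 4 ∧ chevG2.neg 6 = 5 ∧ chevG2.neg 8 = 3 ∧ chevG2.neg 10 = 1) ∧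
    (chkNoTerms chevG2 8 10 = true ∧ chkNoTerms chevG2 8 (chevG2.neg 10) = true ∧
      chkNoTerms chevG2 (chevG2.neg 8) 10 = true ∧ chkNoTerms chevG2 (chevG2.neg 8) (chevG2.neg 10) = true) ∧
    (auxG2.w 1 7 = 8 ∧ auxG2.w 0 6 = 10) ∧
    (chevG2.cartan 0 (chevG2.simple 1) = -3 ∧ chevG2.cartan 1 (chevG2.simple 0) = -1) ∧
    (chevG2.rank = 2 ∧ 7 < chevG2.nroots ∧ 6 < chevG2.nroots) := by decide +kernel

variable {K : Type*} [Field K]

/-- two parameters on the simple roots -/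
def tupG2 (z0 z1 : Kˣ) : Fin chevG2.rank → Kˣ := fun i => [z0, z1].getD (i : ℕ) 1

theorem tupG2_val (z0 z1 : Kˣ) :
    (chevRel certG2 K).torusG (tupG2 z0 z1) =
      (chevRel certG2 K).he 7 (z0 : K) * (chevRel certG2 K).he 6 (z1 : K) := by
  obtain ⟨⟨s0, s1⟩, -⟩ := simpleG2
  rw [Rel.torusG_apply, torusHom_val]
  have e : (List.finRange chevG2.rank).map (fun i : Fin chevG2.rank =>
      (chevRel certG2 K).he (chevG2.simple (i : ℕ)) ((tupG2 z0 z1 i : Kˣ) : K)) =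
      (List.range 2).map fun i => (chevRel certG2 K).he (chevG2.simple i) (([z0, z1].getD i 1 : Kˣ) : K) := by
    rw [← List.map_coe_finRange_eq_range, List.map_map]
    rfl
  rw [e]
  simp only [List.range_succ, List.range_zero, List.nil_append, List.cons_append, List.map_cons, List.map_nil,
    List.prod_cons, List.prod_nil, mul_one, s0, s1, List.getD_cons_zero, List.getD_cons_succ]

theorem he8_eq {c : K} (hc : c ≠ 0) :
    (chevRel certG2 K).he 8 c = (chevRel certG2 K).he 7 c * (chevRel certG2 K).he 6 (c ^ (3 : ℕ)) := by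
  obtain ⟨⟨s0, s1⟩, -⟩ := simpleG2
  obtain ⟨-, -, ⟨w8, -⟩, ⟨k01, -⟩, ⟨hr, h7, -⟩⟩ := heRootsG2
  have l1 : 1 < chevG2.rank := by omega
  have l0 : 0 < chevG2.rank := by omega
  have h1 := (chevRel certG2 K).he_conj ((chevRel certG2 K).isMon_ne_simple ⟨1, l1⟩ one_ne_zero) ⟨7, h7⟩ hc
  have h2 := (chevRel certG2 K).ne_conj_he_eq ⟨0, l0⟩ ⟨1, l1⟩ hc
  simp only [Rel.wperm_apply, w8, s0, s1] at h1 h2 k01
  rw [k01] at h2
  rw [← h1, h2, zpow_neg, inv_zpow, inv_inv, zpow_ofNat]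

theorem he10_eq {c : K} (hc : c ≠ 0) :
    (chevRel certG2 K).he 10 c = (chevRel certG2 K).he 6 c * (chevRel certG2 K).he 7 c := by
  obtain ⟨⟨s0, s1⟩, -⟩ := simpleG2
  obtain ⟨-, -, ⟨-, w10⟩, ⟨-, k10⟩, ⟨hr, -, h6⟩⟩ := heRootsG2
  have l1 : 1 < chevG2.rank := by omega
  have l0 : 0 < chevG2.rank := by omega
  have h1 := (chevRel certG2 K).he_conj ((chevRel certG2 K).isMon_ne_simple ⟨0, l0⟩ one_ne_zero) ⟨6, h6⟩ hc
  have h2 := (chevRel certG2 K).ne_conj_he_eq ⟨1, l1⟩ ⟨0, l0⟩ hc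
  simp only [Rel.wperm_apply, w10, s0, s1] at h1 h2 k10
  rw [k10] at h2
  rw [← h1, h2, zpow_neg, zpow_one, inv_inv]

theorem mem_kerG2 (z : Fin chevG2.rank → Kˣ) (hz : z ∈ (chevRel certG2 K).torusHom.ker) : z = 1 := by
  rw [mem_torusHom_ker, MonoidHom.mem_ker, cmat_G2] at hz
  obtain ⟨-, -, -, -, ⟨hr, -, -⟩⟩ := heRootsG2
  have h : ∀ k : Fin chevG2.rank,
      ((List.range 2).map fun i => (if hi : i < chevG2.rank then z ⟨i, hi⟩ else 1) ^
        ((cartG2.getD i []).getD (k : ℕ) 0)).prod = 1 := by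
    intro k
    have h2 := congrFun hz k
    rw [powMat_apply, Pi.one_apply, Fin.prod_univ_def] at h2
    refine Eq.trans ?_ h2
    rw [show (List.range 2) = List.range chevG2.rank from rfl, ← List.map_coe_finRange_eq_range, List.map_map]
    refine congrArg List.prod (List.map_congr_left fun i _ => ?_)
    simp only [Function.comp_apply, dif_pos i.2, Fin.eta, Matrix.of_apply]
  have l : ∀ n, n < 2 → n < chevG2.rank := fun n hn => lt_of_lt_of_eq hn hr.symm
  have g0 := h ⟨0, l 0 (by norm_num)⟩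
  have g1 := h ⟨1, l 1 (by norm_num)⟩
  simp [List.range_succ, cartG2, l] at g0 g1
  have shape : ∀ a b : Kˣ, a ^ (2 : ℕ) * b⁻¹ = 1 → (a ^ (3 : ℕ))⁻¹ * b ^ (2 : ℕ) = 1 → a = 1 ∧ b = 1 := by
    intro a b e0 e1
    have hb : a ^ 2 = b := mul_inv_eq_one.1 e0
    have h3 := inv_mul_eq_one.1 e1
    rw [← hb, ← pow_mul, show (2 : ℕ) * 2 = 3 + 1 from rfl, pow_add, pow_one] at h3
    have ha : a = 1 := mul_left_cancel (h3.symm.trans (mul_one _).symm)
    subst ha
    exact ⟨rfl, by rw [← hb, one_pow]⟩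
  obtain ⟨e0, e1⟩ := shape _ _ g0 g1
  funext i
  obtain ⟨i, hi⟩ := i
  have hi2 : i < 2 := lt_of_lt_of_eq hi hr
  interval_cases i <;> first | exact e0 | exact e1

theorem torusG_injective_G2 : Function.Injective (chevRel certG2 K).torusG := by
  rw [← MonoidHom.ker_eq_bot_iff, Subgroup.eq_bot_iff_forall]
  intro z hz
  exact mem_kerG2 z (MonoidHom.mem_ker.2 (Subtype.ext (MonoidHom.mem_ker.1 hz)))

/-- the parametrisation of the fixed torus -/
noncomputable def psiG2 (K : Type*) [Field K] (m : ℕ) : Kˣ →* ↥(chevG2.group K) :=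
  ((chevRel certG2 K).torusG).comp
    { toFun := fun x => tupG2 (x ^ 3 ^ m) x
      map_one' := by
        funext i
        obtain ⟨i, hi⟩ := i
        have hi2 : i < 2 := hi
        interval_cases i <;> simp [tupG2]
      map_mul' := fun x y => by
        funext i
        obtain ⟨i, hi⟩ := i
        have hi2 : i < 2 := hi
        interval_cases i <;> simp [tupG2, mul_pow] }

theorem psiG2_apply (m : ℕ) (x : Kˣ) :
    psiG2 K m x = (chevRel certG2 K).torusG (tupG2 (x ^ 3 ^ m) x) := rfl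

theorem psiG2_injective (m : ℕ) : Function.Injective (psiG2 K m) := by
  intro x y h
  have := torusG_injective_G2 h
  obtain ⟨-, -, -, -, ⟨hr, -, -⟩⟩ := heRootsG2
  exact congrFun this ⟨1, by omega⟩

variable [Fintype K] {m : ℕ} (hK : Fintype.card K = 3 ^ (2 * m + 1))
include hK

theorem pair_torus_mem_G2 (t : K) :
    (chevRel certG2 K).he 8 (t ^ 3 ^ m) * (chevRel certG2 K).he 10 t ∈
      (twistedG2 K (3 ^ m)).subgroupOf (chevG2.group K) := by
  obtain ⟨⟨-, -, n8, n10⟩, ⟨c1, c2, c3, c4⟩, -⟩ := heRootsG2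
  have hz : ∀ r, xG certG2 K r (0 : K) = 1 := fun r => (chevRel certG2 K).xe_zero r
  have h0 : (0 : K) ^ 3 ^ m = 0 := zero_pow (pow_ne_zero _ (by norm_num))
  have wU : ∀ u : K, xG certG2 K 8 (u ^ 3 ^ m) * xG certG2 K 10 u ∈
      (twistedG2 K (3 ^ m)).subgroupOf (chevG2.group K) := fun u => by
    have h := xU_mem m (0 : K) u 0
    simpa only [xU, xRee, h0, mul_zero, zero_add, one_mul, hz, mul_one, zero_pow two_ne_zero] using h
  have wV : ∀ u : K, xG certG2 K 3 (-(u ^ 3 ^ m)) * xG certG2 K 1 (-u) ∈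
      (twistedG2 K (3 ^ m)).subgroupOf (chevG2.group K) := fun u => by
    have h := xV_mem m (0 : K) u 0
    simpa only [xV, xRee, h0, mul_zero, zero_add, neg_one_mul, neg_zero, hz, mul_one, one_mul,
      zero_pow two_ne_zero] using h
  have key : ∀ c : K, (chevRel certG2 K).ne 8 (c ^ 3 ^ m) * (chevRel certG2 K).ne 10 c ∈
      (twistedG2 K (3 ^ m)).subgroupOf (chevG2.group K) := by
    intro c
    rw [← ne_pair certG2 c1 c2 c3, n8, n10]
    refine mul_mem (mul_mem (wU c) ?_) (wU c)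
    have h := wV c⁻¹
    rwa [inv_pow] at h
  rw [← he_pair certG2 c1 c2 c3 c4]
  refine mul_mem (key t) ?_
  have h := key (-1)
  rwa [neg_powG2, one_pow] at h

theorem psiG2_sq_mem (u : Kˣ) : psiG2 K m (u ^ (3 * 3 ^ m + 1)) ∈ (twG2 hK).P1 := by
  have h := pair_torus_mem_G2 hK (u : K)
  rw [he8_eq (pow_ne_zero _ u.ne_zero), he10_eq u.ne_zero, ← Units.val_pow_eq_pow_val, ← Units.val_pow_eq_pow_val,
    mul_assoc] at h
  have e : (chevRel certG2 K).torusG (tupG2 (u ^ 3 ^ m) ((u ^ 3 ^ m) ^ (3 : ℕ))) *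
      (chevRel certG2 K).torusG (tupG2 u u) = psiG2 K m (u ^ (3 * 3 ^ m + 1)) := by
    rw [← map_mul, psiG2_apply]
    refine congrArg _ ?_
    have e0 : (u ^ (3 * 3 ^ m + 1)) ^ 3 ^ m = u ^ 3 ^ m * u := by
      refine Units.ext ?_
      simp only [pow_add, mul_pow, pow_one, Units.val_mul, Units.val_pow_eq_pow_val, mul_comm 3 (3 ^ m), pow_mul,
        pow_twG2' hK]
      ring
    funext i
    obtain ⟨i, hi⟩ := i
    have hi2 : i < 2 := hi
    interval_cases i
    · simpa [tupG2] using e0.symm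
    · simp [tupG2, pow_add, mul_comm 3 (3 ^ m), pow_mul]
  rw [← e, tupG2_val, tupG2_val, mul_assoc]
  have hc : (chevRel certG2 K).he 6 (u : K) * (chevRel certG2 K).he 7 (u : K) =
      (chevRel certG2 K).he 7 (u : K) * (chevRel certG2 K).he 6 (u : K) := by
    obtain ⟨-, -, -, -, ⟨-, h7, h6⟩⟩ := heRootsG2
    exact (chevRel certG2 K).HS_isMulCommutative ((chevRel certG2 K).he_mem ⟨6, h6⟩ u.ne_zero)
      ((chevRel certG2 K).he_mem ⟨7, h7⟩ u.ne_zero)
  rw [hc] at h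
  exact h

theorem psiG2_neg_one_mem : psiG2 K m (-1) ∈ (twG2 hK).P1 := by
  have h0 : (0 : K) ^ 3 ^ m = 0 := zero_pow (pow_ne_zero _ (by norm_num))
  have hz : ∀ r, xG certG2 K r (0 : K) = 1 := fun r => (chevRel certG2 K).xe_zero r
  have h3 : (3 : K) = 0 := three_eq_zero_G2 hK
  have h : wordG certG2 (castW K torusWordG2) ∈ (twG2 hK).P1 := by
    have := mul_mem (mul_mem (mul_mem (xU_mem m (0 : K) 0 1) (xV_mem m (0 : K) (-1) 0)) (xU_mem m (-1 : K) 0 0))
      (xV_mem m (0 : K) (-1) 1)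
    simp only [xU, xV, xRee, h0, mul_zero, zero_add, add_zero, one_mul, neg_one_mul, neg_zero, hz, mul_one,
      one_pow, neg_powG2, neg_neg, zero_pow two_ne_zero, neg_sq] at this
    show _ ∈ (twistedG2 K (3 ^ m)).subgroupOf (chevG2.group K)
    simp only [torusWordG2, castW, List.map_cons, List.map_nil, wordG_cons, wordG_nil, mul_one, Int.cast_one,
      Int.cast_neg]
    simpa only [mul_assoc] using this
  rw [wordG_eq_of_chk certG2 (p := 3) (by exact_mod_cast h3) chkTorusWordG2] at h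
  have e : psiG2 K m (-1) = wordG certG2 (castW K negOneWordG2) := by
    obtain ⟨⟨n7, n6, -, -⟩, -⟩ := heRootsG2
    rw [psiG2_apply, tupG2_val, Units.val_pow_eq_pow_val, Units.val_neg, Units.val_one, neg_powG2, one_pow]
    show (xG certG2 K 7 (-1) * xG certG2 K (chevG2.neg 7) (-(-1)⁻¹) * xG certG2 K 7 (-1) *
        (xG certG2 K 7 (-1) * xG certG2 K (chevG2.neg 7) (-(-1)⁻¹) * xG certG2 K 7 (-1))) *
      (xG certG2 K 6 (-1) * xG certG2 K (chevG2.neg 6) (-(-1)⁻¹) * xG certG2 K 6 (-1) *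
        (xG certG2 K 6 (-1) * xG certG2 K (chevG2.neg 6) (-(-1)⁻¹) * xG certG2 K 6 (-1))) = _
    simp only [negOneWordG2, castW, List.map_cons, List.map_nil, wordG_cons, wordG_nil, mul_one, Int.cast_one,
      Int.cast_neg, n7, n6, inv_neg_one, neg_neg, mul_assoc]
  rw [e]
  exact h

theorem psiG2_mem (c : Kˣ) : psiG2 K m c ∈ (twG2 hK).P1 := by
  classical
  have sq : ∀ z : Kˣ, psiG2 K m (z ^ (2 : ℕ)) ∈ (twG2 hK).P1 := by
    intro z
    obtain ⟨n, hn⟩ : ∃ n, 3 * 3 ^ m = n + 1 := ⟨3 * 3 ^ m - 1, by have := Nat.pow_pos (n := m) three_pos; omega⟩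
    have hz : (z ^ 3 ^ (2 * m + 1)) = z := by
      refine Units.ext ?_
      rw [Units.val_pow_eq_pow_val, ← hK]
      exact FiniteField.pow_card _
    have e : (z ^ n) ^ (3 * 3 ^ m + 1) = z ^ (2 : ℕ) := by
      have h1 : (z ^ n) ^ (3 * 3 ^ m + 1) * z = z ^ (3 * 3 ^ (2 * m + 1)) := by
        rw [← pow_mul, ← pow_succ, show 3 * 3 ^ (2 * m + 1) = (3 * 3 ^ m) * (3 * 3 ^ m) by ring, hn]
        congr 1
        ring
      rw [pow_mul' z 3, hz, pow_succ z 2] at h1
      exact mul_right_cancel h1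
    rw [← e]
    exact psiG2_sq_mem hK _
  have hodd : ringChar K ≠ 2 := by
    have := charG2 hK
    rw [ringChar.eq K 3]; norm_num
  have hm1 : ¬ IsSquare (-1 : K) := by
    rw [FiniteField.isSquare_neg_one_iff, hK, Classical.not_not, pow_succ, pow_mul]
    rw [Nat.mul_mod, Nat.pow_mod]
    norm_num
  by_cases hc : IsSquare (c : K)
  · obtain ⟨r, hr⟩ := hc
    have hr0 : r ≠ 0 := fun e => c.ne_zero (by rw [hr, e, mul_zero])
    rw [show c = (Units.mk0 r hr0) ^ (2 : ℕ) from Units.ext (by rw [Units.val_pow_eq_pow_val, hr, Units.val_mk0]; ring)]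
    exact sq _
  · have hn : IsSquare (-(c : K)) := by
      have hq : quadraticChar K (-(c : K)) = 1 := by
        rw [← neg_one_mul, map_mul, quadraticChar_neg_one_iff_not_isSquare.2 hm1,
          quadraticChar_neg_one_iff_not_isSquare.2 hc]
        norm_num
      exact (quadraticChar_one_iff_isSquare (neg_ne_zero.2 c.ne_zero)).1 hq
    obtain ⟨r, hr⟩ := hn
    have hr0 : r ≠ 0 := fun e => neg_ne_zero.2 c.ne_zero (by rw [hr, e, mul_zero])
    rw [show c = -1 * (Units.mk0 r hr0) ^ (2 : ℕ) from Units.ext (by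
      rw [Units.val_mul, Units.val_pow_eq_pow_val, Units.val_mk0, pow_two, ← hr, Units.val_neg, Units.val_one]; ring),
      map_mul]
    exact mul_mem (psiG2_neg_one_mem hK) (sq _)

theorem psiG2_range : (psiG2 K m).range = (twG2 hK).P1 ⊓ (chevRel certG2 K).HS := by
  refine le_antisymm ?_ ?_
  · rintro _ ⟨x, rfl⟩
    exact Subgroup.mem_inf.2 ⟨psiG2_mem hK x, SetLike.coe_mem _⟩
  rintro g hg
  obtain ⟨hg1, hg2⟩ := Subgroup.mem_inf.1 hg
  obtain ⟨c, hc⟩ := (chevRel certG2 K).torusHom_surjective ⟨g, hg2⟩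
  have hgc : g = (chevRel certG2 K).torusG c := by rw [Rel.torusG_apply, hc]
  obtain ⟨-, -, -, -, ⟨hrk, -, -⟩⟩ := heRootsG2
  have l : ∀ n, n < 2 → n < chevG2.rank := fun n hn => lt_of_lt_of_eq hn hrk.symm
  obtain ⟨c0, c1, ec⟩ : ∃ z0 z1, c = tupG2 z0 z1 :=
    ⟨c ⟨0, l 0 (by norm_num)⟩, c ⟨1, l 1 (by norm_num)⟩, by
      funext i
      obtain ⟨i, hi⟩ := i
      have hi2 : i < 2 := hi
      interval_cases i <;> rfl⟩
  subst ec
  have hsign : ∀ i : Fin chevG2.rank, (twAt chevG2 twTG2 (chevG2.simple i)).2 = (1, [3, 1].getD (i : ℕ) 0) := by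
    decide +kernel
  have hσ := σ_torusHom certG2 (twFieldG2 hK) twOkG2 shapeG2 (frG2 hK) (σG2 hK) (σG2_gen hK)
    (fun i => congrArg Prod.fst (hsign i)) (tupG2 c0 c1)
    (tupG2 (c1 ^ 3 ^ m) ((c0 ^ 3 ^ m) ^ (3 : ℕ))) (by
      intro i j hj
      rw [hsign i, frG2_apply]
      simp only [← Units.val_pow_eq_pow_val]
      refine congrArg Units.val ?_
      obtain ⟨i, hi⟩ := i
      obtain ⟨j, hj'⟩ := j
      have hi2 : i < 2 := hi
      interval_cases i <;> simp [piG2] at hj <;> subst hj <;> simp [tupG2])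
  have hfix := (twG2 hK).hfix g hg1
  rw [hgc] at hfix
  have e : tupG2 c0 c1 = tupG2 (c1 ^ 3 ^ m) ((c0 ^ 3 ^ m) ^ (3 : ℕ)) :=
    torusG_injective_G2 (hfix.symm.trans hσ)
  refine ⟨c1, ?_⟩
  rw [psiG2_apply, hgc]
  refine congrArg _ ?_
  funext i
  obtain ⟨i, hi⟩ := i
  have hi2 : i < 2 := hi
  have := congrFun e ⟨i, hi⟩
  interval_cases i <;> simp [tupG2] at this ⊢
  exact this.symm

theorem card_torusG2 : Nat.card ↥((twG2 hK).P1 ⊓ (chevRel certG2 K).HS) = 3 ^ (2 * m + 1) - 1 := by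
  rw [← psiG2_range hK, ← Nat.card_congr (MonoidHom.ofInjective (psiG2_injective m)).toEquiv,
    Nat.card_units, Nat.card_eq_fintype_card, hK]

omit hK in
theorem idG2 : (padd (pprod [cyclo 1, layerPoly layersTG2])
    ((pprod [cyclo 1, padd [1] (monoP 3 1)]).map (-1 * ·))).all (fun x => decide (x = 0)) = true := by decide +kernel

theorem card_twG2 : Nat.card ↥(twistedG2 K (3 ^ m)) =
    (3 ^ (2 * m + 1)) ^ 3 * (3 ^ (2 * m + 1) - 1) * ((3 ^ (2 * m + 1)) ^ 3 + 1) := by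
  have h1 := card_G2_enum hK
  rw [card_torusG2 hK] at h1
  obtain ⟨q, hq⟩ : ∃ q, q = 3 ^ (2 * m + 1) := ⟨_, rfl⟩
  have hq1 : 1 ≤ q := hq ▸ Nat.one_le_pow _ _ three_pos
  rw [← hq] at h1 ⊢
  have h := idG2
  simp only [List.all_eq_true, decide_eq_true_eq] at h
  have h0 := horner_zero (q : ℤ) _ h
  simp only [horner_padd, horner_map, horner_pprod, List.map_cons, List.map_nil, List.prod_cons, List.prod_nil,
    horner_cyclo, horner_monoP, horner, mul_one, pow_one] at h0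
  apply Int.ofNat.inj
  show ((_ : ℕ) : ℤ) = ((_ : ℕ) : ℤ)
  push_cast [Nat.cast_sub hq1] at h1 ⊢
  linear_combination h1 + (q : ℤ) ^ 3 * h0

end CfsgLib.Lie.Chev.TwGroups
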