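/-
The multiplication of the unipotent part of the twisted groups of type G2, and the action of the torus on it.
-/
import Cfsg.Agent.Lib.Lie.Twisted.G2Torus

set_option autoImplicit false

namespace CfsgLib.Lie.Chev.TwGroups

open Cfsg.Lie

theorem weightG2 :
    (chevG2.cartan 0 6 = -3 ∧ chevG2.cartan 1 6 = 2 ∧ chevG2.cartan 0 7 = 2 ∧ chevG2.cartan 1 7 = -1) ∧
    (chevG2.cartan 0 8 = -1 ∧ chevG2.cartan 1 8 = 1 ∧ chevG2.cartan 0 9 = 1 ∧ chevG2.cartan 1 9 = 0) ∧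
    (chevG2.cartan 0 10 = 3 ∧ chevG2.cartan 1 10 = -1 ∧ chevG2.cartan 0 11 = 0 ∧ chevG2.cartan 1 11 = 1) ∧
    (0 < chevG2.rank ∧ 1 < chevG2.rank) := by decide +kernel

variable {K : Type*} [Field K]

/-- the action of a torus element on a root element -/
theorem torusG2_conj (x y : Kˣ) {r : ℕ} (hr : r < chevG2.nroots) (t : K) :
    (chevRel certG2 K).torusG (tupG2 x y) * xG certG2 K r t * ((chevRel certG2 K).torusG (tupG2 x y))⁻¹ =
      xG certG2 K r ((x : K) ^ chevG2.cartan 0 r * (y : K) ^ chevG2.cartan 1 r * t) := by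
  obtain ⟨⟨s0, s1⟩, -⟩ := simpleG2
  obtain ⟨-, -, -, h0, h1⟩ := weightG2
  have h := (chevRel certG2 K).isMon_mul ((chevRel certG2 K).isMon_he_simple ⟨0, h0⟩ x.ne_zero)
    ((chevRel certG2 K).isMon_he_simple ⟨1, h1⟩ y.ne_zero)
  simp only [s0, s1, mul_one, Equiv.Perm.one_apply] at h
  rw [tupG2_val]
  exact (h ⟨r, hr⟩).2.2.2 t

variable [Fintype K] {m : ℕ} (hK : Fintype.card K = 3 ^ (2 * m + 1))
include hK

theorem srtG2_mul (a A p q r s b B p' q' r' s' : K) :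
    srtG2 a A p q r s * srtG2 b B p' q' r' s' = srtG2 (a + b) (A + B) (p + p' - A * b)
      (q + q' - A ^ (2 : ℕ) * b - B * (p - A * b)) (r + r' + A ^ (3 : ℕ) * b)
      (s + s' - b * r + A ^ (3 : ℕ) * b ^ (2 : ℕ)) := by
  obtain ⟨⟨c1, c2, c3, c4, c5, c6⟩, -, ⟨d68, d69, d611, d79, d710, d711⟩⟩ := commG2
  obtain ⟨⟨-, -, t78, t610⟩, ⟨-, -, ⟨n8, n8'⟩, ⟨n10, n10'⟩⟩, hm⟩ := termsG2
  have cm := fun {r r' : ℕ} (w : chkModTerms chevG2 3 r r' = true) (x y : K) =>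
    xG_commute_mod certG2 (twFieldG2 hK) w x y
  have h3 := three_eq_zero_G2 hK
  have past6 : ∀ p q r s w : K, xG certG2 K 8 p * (xG certG2 K 9 q * (xG certG2 K 10 r * xG certG2 K 11 s)) *
      xG certG2 K 6 w = xG certG2 K 6 w *
        (xG certG2 K 8 p * (xG certG2 K 9 q * (xG certG2 K 10 r * xG certG2 K 11 (s - w * r)))) := by
    intro p q r s w
    have e := xG_swap certG2 (hm 6 (by decide)) (hm 10 (by decide)) n10 n10' t610 w r
    simp only [List.map_cons, List.map_nil, List.prod_cons, List.prod_nil, mul_one] at e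
    simp only [mul_assoc]
    rw [(cm d611 w s).symm.eq, ← mul_assoc (xG certG2 K 10 r) (xG certG2 K 6 w), e]
    simp only [mul_assoc, xG_pow_mul]
    rw [(cm d69 w q).symm.left_comm, (cm d68 w p).symm.left_comm]
    congr 5
    push_cast
    ring
  have past7 : ∀ p q r s w : K, xG certG2 K 8 p * (xG certG2 K 9 q * (xG certG2 K 10 r * xG certG2 K 11 s)) *
      xG certG2 K 7 w = xG certG2 K 7 w *
        (xG certG2 K 8 p * (xG certG2 K 9 (q - w * p) * (xG certG2 K 10 r * xG certG2 K 11 s))) := by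
    intro p q r s w
    have e := xG_swap certG2 (hm 7 (by decide)) (hm 8 (by decide)) n8 n8' t78 w p
    simp only [List.map_cons, List.map_nil, List.prod_cons, List.prod_nil, mul_one] at e
    push_cast at e
    rw [h3] at e
    simp only [neg_zero, zero_mul, show ∀ r, xG certG2 K r (0 : K) = 1 from fun r => (chevRel certG2 K).xe_zero r,
      mul_one] at e
    simp only [mul_assoc]
    rw [(cm d711 w s).symm.eq, (cm d710 w r).symm.left_comm, (cm d79 w q).symm.left_comm,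
      ← mul_assoc (xG certG2 K 8 p) (xG certG2 K 7 w), e]
    simp only [mul_assoc]
    congr 2
    rw [← mul_assoc (xG certG2 K 9 _) (xG certG2 K 9 q), xG_pow_mul]
    congr 2
    linear_combination (w * p) * h3
  have step : ∀ b B : K,
      xG certG2 K 7 A * (xG certG2 K 8 p * (xG certG2 K 9 q * (xG certG2 K 10 r * xG certG2 K 11 s))) *
        xG certG2 K 6 b * xG certG2 K 7 B = srtG2 b (A + B) (p - A * b)
          (q - A ^ (2 : ℕ) * b - B * (p - A * b)) (r + A ^ (3 : ℕ) * b) (s - b * r + A ^ (3 : ℕ) * b ^ (2 : ℕ)) := by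
    intro b B
    rw [mul_assoc (xG certG2 K 7 A), past6, sortG2 hK, srtG2, srtG2]
    rw [mul_assoc (xG certG2 K 6 b), mul_assoc (xG certG2 K 7 A), past7,
      ← mul_assoc (xG certG2 K 7 A) (xG certG2 K 7 B), xG_pow_mul]
  simp only [srtG2] at step ⊢
  rw [← mul_assoc _ (xG certG2 K 6 b), mul_assoc (xG certG2 K 6 a) _ (xG certG2 K 6 b),
    mul_assoc (xG certG2 K 6 a), ← mul_assoc (xG certG2 K 7 A * _ * xG certG2 K 6 b), step b B]
  simp only [mul_assoc]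
  have hq := quad_mul hK c1 c2 c3 c4 c5 c6 (p - A * b) (q - A ^ (2 : ℕ) * b - B * (p - A * b)) (r + A ^ (3 : ℕ) * b)
    (s - b * r + A ^ (3 : ℕ) * b ^ (2 : ℕ)) p' q' r' s'
  simp only [mul_assoc] at hq
  rw [hq, ← mul_assoc (xG certG2 K 6 a) (xG certG2 K 6 b), xG_pow_mul]
  congr 2
  congr 2
  · ring
  congr 2
  · ring
  congr 2 <;> ring

/-- the product of two fixed unipotent elements -/
theorem xU_mul (a u v b u' v' : K) : xU m a u v * xU m b u' v' = xU m (a + b) (u + u' - (b ^ 3 ^ m) ^ (3 : ℕ) * a)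
    (v + v' - b * u - (b ^ 3 ^ m) ^ (3 : ℕ) * a ^ (2 : ℕ) + (b ^ 3 ^ m) ^ (3 : ℕ) * a * b) := by
  have hsub : ∀ x y : K, (x - y) ^ 3 ^ m = x ^ 3 ^ m - y ^ 3 ^ m := fun x y => by
    simp only [← frG2_apply hK, map_sub]
  have h3 := three_eq_zero_G2 hK
  have hpow : ∀ x : K, (x ^ (2 : ℕ)) ^ 3 ^ m = (x ^ 3 ^ m) ^ (2 : ℕ) := fun x => pow_right_comm _ _ _
  rw [xU_sorted hK, xU_sorted hK, xU_sorted hK, srtG2_mul hK]
  simp only [add_powG2 hK, hsub, mul_pow, hpow, pow_twG2' hK, add_cubeG2 hK]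
  congr 1
  · ring
  · ring
  · ring
  · linear_combination (-((a ^ 3 ^ m) ^ (3 : ℕ) * a * b)) * h3 + (-((b ^ 3 ^ m) ^ (3 : ℕ) * a * b)) * h3

theorem xU_zero : xU m (0 : K) 0 0 = 1 := by
  simp only [xU, xRee, zero_pow (pow_ne_zero m three_ne_zero), mul_zero, zero_mul, zero_add,
    show ∀ r, xG certG2 K r (0 : K) = 1 from fun r => (chevRel certG2 K).xe_zero r, mul_one, zero_pow two_ne_zero]

theorem xU_inv (a u v : K) : (xU m a u v)⁻¹ = xU m (-a) (-u - (a ^ 3 ^ m) ^ (3 : ℕ) * a)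
    (-v - a * u + (a ^ 3 ^ m) ^ (3 : ℕ) * a ^ (2 : ℕ)) := by
  have h3 := three_eq_zero_G2 hK
  refine inv_eq_of_mul_eq_one_right ?_
  rw [xU_mul hK, neg_powG2, neg_cubeG2, ← xU_zero hK (m := m)]
  congr 1
  · ring
  · ring
  · linear_combination ((a ^ 3 ^ m) ^ (3 : ℕ) * a ^ (2 : ℕ)) * h3

/-- the torus on the fixed unipotent elements -/
theorem psiG2_conj_xU (c : Kˣ) (t u v : K) :
    psiG2 K m c * xU m t u v * (psiG2 K m c)⁻¹ =
      xU m ((c : K) ^ (2 : ℕ) * (((c : K) ^ 3 ^ m) ^ (3 : ℕ))⁻¹ * t)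
        (((c : K) ^ 3 ^ m) ^ (3 : ℕ) * (c : K)⁻¹ * u) ((c : K) * v) := by
  obtain ⟨⟨a1, a2, a3, a4⟩, ⟨b1, b2, b3, b4⟩, ⟨d1, d2, d3, d4⟩, -⟩ := weightG2
  obtain ⟨-, -, hm⟩ := termsG2
  have hC : (c : K) ≠ 0 := c.ne_zero
  have hQ : (c : K) ^ 3 ^ m ≠ 0 := pow_ne_zero _ hC
  rw [psiG2_apply]
  simp only [xU, xRee, one_mul]
  rw [← conj_mul, ← conj_mul, ← conj_mul, ← conj_mul, ← conj_mul, torusG2_conj _ _ (hm 7 (by decide)),
    torusG2_conj _ _ (hm 6 (by decide)), torusG2_conj _ _ (hm 8 (by decide)), torusG2_conj _ _ (hm 9 (by decide)),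
    torusG2_conj _ _ (hm 10 (by decide)), torusG2_conj _ _ (hm 11 (by decide)), a1, a2, a3, a4, b1, b2, b3, b4,
    d1, d2, d3, d4, Units.val_pow_eq_pow_val]
  simp only [zpow_neg, zpow_ofNat, pow_zero, pow_one, one_mul, mul_one, mul_pow, inv_pow, pow_twG2' hK]
  have e2 : ((c : K) ^ (2 : ℕ)) ^ 3 ^ m = ((c : K) ^ 3 ^ m) ^ (2 : ℕ) := pow_right_comm _ _ _
  rw [e2]
  congr 2
  · congr 1; ring
  congr 2
  · congr 1; field_simp
  congr 1
  · congr 1; field_simp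

end CfsgLib.Lie.Chev.TwGroups
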