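/-
The twisted groups of type G2 over fields with more than three elements are perfect.
-/
import Cfsg.Agent.Lib.Lie.Twisted.G2Mul
import Cfsg.Agent.Lib.Lie.Twisted.Perfect

set_option autoImplicit false

namespace CfsgLib.Lie.Chev.TwGroups

open Cfsg.Lie

variable {K : Type*} [Field K] [Fintype K] {m : ℕ} (hK : Fintype.card K = 3 ^ (2 * m + 1))
include hK

theorem exists_good_G2 (hm : 1 ≤ m) : ∃ c : Kˣ, (c : K) ≠ 1 ∧
    ((c : K) ^ 3 ^ m) ^ (3 : ℕ) * (c : K)⁻¹ ≠ 1 ∧ (c : K) ^ (2 : ℕ) * (((c : K) ^ 3 ^ m) ^ (3 : ℕ))⁻¹ ≠ 1 := by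
  classical
  obtain ⟨s, -, hs⟩ : ∃ s ∈ (Finset.univ : Finset K), s ∉ ({0, 1, -1} : Finset K) := by
    refine Finset.exists_mem_notMem_of_card_lt_card ?_
    rw [Finset.card_univ, hK]
    refine lt_of_le_of_lt Finset.card_le_three ?_
    calc 3 < 3 ^ 3 := by norm_num
      _ ≤ 3 ^ (2 * m + 1) := Nat.pow_le_pow_right three_pos (by omega)
  simp only [Finset.mem_insert, Finset.mem_singleton, not_or] at hs
  obtain ⟨h0, h1, h2⟩ := hs
  refine ⟨Units.mk0 s h0, h1, fun h => ?_, fun h => ?_⟩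
  · rw [Units.val_mk0, mul_inv_eq_one₀ h0] at h
    have e := pow_twG2' hK s
    rw [h] at e
    rw [e] at h
    rcases mul_self_eq_one_iff.1 (mul_left_cancel₀ h0 (show s * (s * s) = s * 1 by rw [mul_one]; linear_combination h)) with
      h' | h'
    · exact h1 h'
    · exact h2 h'
  · rw [Units.val_mk0, mul_inv_eq_one₀ (pow_ne_zero _ (pow_ne_zero _ h0))] at h
    have e := pow_twG2' hK s
    rw [← h, pow_right_comm] at e
    have e3 : s ^ (3 : ℕ) = s ^ (4 : ℕ) := by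
      conv_lhs => rw [← e]
      rw [pow_right_comm _ 2 3, ← h]
      ring
    exact h1 (mul_left_cancel₀ (pow_ne_zero 3 h0) (by rw [mul_one, ← pow_succ]; exact e3.symm))

theorem classMemG2 (hm : 1 ≤ m) : ∀ k, ∀ g ∈ (chevRel certG2 K).US (posSub chevG2 auxG2 (twG2 hK).orb k),
    g ∈ (twG2 hK).P1 → g ∈ (twG2 hK).Cm := by
  obtain ⟨c, hc, hb, ha⟩ := exists_good_G2 hK hm
  intro k g hg hg1
  change Fin 1 at k
  fin_cases k
  obtain ⟨t, u, v, rfl⟩ := classG2_fixed hK hg ((twG2 hK).hfix g hg1)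
  obtain ⟨α, hα⟩ : ∃ α, α = (c : K) ^ (2 : ℕ) * (((c : K) ^ 3 ^ m) ^ (3 : ℕ))⁻¹ := ⟨_, rfl⟩
  obtain ⟨β, hβ⟩ : ∃ β, β = ((c : K) ^ 3 ^ m) ^ (3 : ℕ) * (c : K)⁻¹ := ⟨_, rfl⟩
  rw [← hα] at ha
  rw [← hβ] at hb
  have key : ∀ a b d : K, ∃ u' v' : K, xU m (α * a + -a) u' v' ∈ (twG2 hK).Cm ∧
      (a = 0 → u' = β * b - b ∧ (b = 0 → v' = (c : K) * d - d)) := by
    intro a b d
    have h := (twG2 hK).comm_mem_Cm (psiG2_mem hK c) (show xU m a b d ∈ (twG2 hK).P1 from xU_mem m a b d)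
    rw [psiG2_conj_xU hK, ← hα, ← hβ, xU_inv hK, xU_mul hK] at h
    refine ⟨_, _, h, fun e => ⟨?_, fun e' => ?_⟩⟩
    · subst e
      simp only [neg_zero, zero_pow (pow_ne_zero m three_ne_zero), zero_pow three_ne_zero, zero_mul, sub_zero]
      ring
    · subst e e'
      simp only [mul_zero, neg_zero, zero_pow (pow_ne_zero m three_ne_zero), zero_pow three_ne_zero,
        zero_pow two_ne_zero, zero_mul, sub_zero, add_zero]
      ring
  have vcm : ∀ w : K, xU m (0 : K) 0 w ∈ (twG2 hK).Cm := by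
    intro w
    obtain ⟨d, rfl⟩ : ∃ d, (c : K) * d - d = w :=
      ⟨w / ((c : K) - 1), by rw [← sub_one_mul, mul_div_cancel₀ _ (sub_ne_zero.2 hc)]⟩
    obtain ⟨u', v', h, e⟩ := key 0 0 d
    obtain ⟨e1, e2⟩ := e rfl
    rw [e1, e2 rfl] at h
    simpa using h
  have ucm : ∀ z w : K, xU m (0 : K) z w ∈ (twG2 hK).Cm := by
    intro z w
    obtain ⟨b, rfl⟩ : ∃ b, β * b - b = z :=
      ⟨z / (β - 1), by rw [← sub_one_mul, mul_div_cancel₀ _ (sub_ne_zero.2 hb)]⟩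
    obtain ⟨u', v', h, e⟩ := key 0 b 0
    rw [(e rfl).1] at h
    have := mul_mem h (vcm (w - v'))
    rw [xU_mul hK] at this
    simpa [zero_pow (pow_ne_zero m three_ne_zero)] using this
  obtain ⟨a, rfl⟩ : ∃ a, α * a + -a = t :=
    ⟨t / (α - 1), by rw [← sub_eq_add_neg, ← sub_one_mul, mul_div_cancel₀ _ (sub_ne_zero.2 ha)]⟩
  obtain ⟨u', v', h, -⟩ := key a 0 0
  have := mul_mem h (ucm (u - u') (v - v'))
  rw [xU_mul hK] at this
  simpa [zero_pow (pow_ne_zero m three_ne_zero)] using this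

omit hK in
theorem rootsG2 : (∀ r ∈ [g2a, g2b, g2ab, g2aab, g2aaab, g2aaabb], half chevG2 ≤ r ∧ r < chevG2.nroots) ∧
    ∀ r ∈ [g2a, g2b, g2ab, g2aab, g2aaab, g2aaabb], chevG2.negIdx.getD r 0 < half chevG2 := by decide +kernel

omit hK [Fintype K] in
theorem wordsG2_oneSided (w : List (ℕ × K)) (hw : w ∈ g2Words K (3 ^ m)) :
    (∀ x ∈ w, half chevG2 ≤ x.1 ∧ x.1 < chevG2.nroots) ∨ ∀ x ∈ w, x.1 < half chevG2 := by
  obtain ⟨hp, hn⟩ := rootsG2
  obtain ⟨t, u, v, rfl | rfl⟩ := hw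
  · exact Or.inl (by
      simp only [reeWordU, List.forall_mem_cons]
      exact ⟨hp _ (by decide), hp _ (by decide), hp _ (by decide), hp _ (by decide), hp _ (by decide),
        hp _ (by decide), by simp⟩)
  · exact Or.inr (by
      simp only [reeWordV, reeWordU, ChevalleyDatum.negWord, List.map_cons, List.map_nil, List.forall_mem_cons]
      exact ⟨hn _ (by decide), hn _ (by decide), hn _ (by decide), hn _ (by decide), hn _ (by decide),
        hn _ (by decide), by simp⟩)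

theorem perfectG2 (hm : 1 ≤ m) : commutator (twG2 hK).P1 = ⊤ :=
  (twG2 hK).perfect_of (classMemG2 hK hm) (gen_unipotent certG2 (g2Words K (3 ^ m)) wordsG2_oneSided)

end CfsgLib.Lie.Chev.TwGroups
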