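/-
The fixed torus of the twisted groups of type E6, and the order formula.
-/
import Cfsg.Agent.Lib.Lie.Twisted.E6
import Cfsg.Agent.Lib.Lie.Rel.Order

set_option autoImplicit false

namespace CfsgLib.Lie.Chev.TwGroups

open Cfsg.Lie

section Ker

variable {A : Type*} [CommGroup A]

theorem kerShapeE6 {z0 z1 z2 z3 z4 z5 : A} (h0 : z0 ^ (2 : ℕ) = z2) (h1 : z1 ^ (2 : ℕ) = z3)
    (h2 : z2 ^ (2 : ℕ) = z0 * z3) (h3 : z3 ^ (2 : ℕ) = z1 * z2 * z4) (h4 : z4 ^ (2 : ℕ) = z3 * z5)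
    (h5 : z5 ^ (2 : ℕ) = z4) :
    z0 ^ 3 = 1 ∧ z1 = 1 ∧ z2 = z0 ^ 2 ∧ z3 = 1 ∧ z4 = z0 ∧ z5 = z0 ^ 2 := by
  have e3 : z3 = z0 ^ 3 := by
    rw [← h0, ← pow_mul] at h2
    refine (mul_left_cancel (a := z0) ?_).symm
    rw [← h2]; group
  have e3' : z5 ^ 3 = z0 ^ 3 := by
    rw [← h5, ← pow_mul, e3] at h4
    refine mul_right_cancel (b := z5) ?_
    rw [← h4, ← pow_succ]
  have e1 : z0 ^ 6 = z1 * (z0 ^ 2 * z5 ^ 2) := by
    rw [← h0, ← h5, e3, ← pow_mul] at h3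
    rw [← mul_assoc]; exact h3
  have e2 : z1 ^ 2 = z0 ^ 3 := h1.trans e3
  have e4 : z0 ^ 5 = z5 ^ 4 := by
    have h : (z0 ^ 6) ^ 2 = z1 ^ 2 * (z0 ^ 4 * z5 ^ 4) := by
      rw [e1, mul_pow, mul_pow, ← pow_mul, ← pow_mul]
    rw [e2, ← pow_mul, show (6 : ℕ) * 2 = 3 + (4 + 5) from rfl, pow_add, pow_add] at h
    exact mul_left_cancel (mul_left_cancel h)
  have e5 : z5 = z0 ^ 2 := by
    rw [show (5 : ℕ) = 3 + 2 from rfl, pow_add, show (4 : ℕ) = 3 + 1 from rfl, pow_add, e3', pow_one] at e4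
    exact (mul_left_cancel e4).symm
  have e0 : z0 ^ 3 = 1 := by
    rw [e5, ← pow_mul, show (2 : ℕ) * 3 = 3 + 3 from rfl, pow_add] at e3'
    exact mul_left_cancel (e3'.trans (mul_one _).symm)
  have e6 : z1 = 1 := by
    rw [e5, ← pow_mul, ← pow_add] at e1
    exact mul_right_cancel (e1.symm.trans (one_mul _).symm)
  refine ⟨e0, e6, h0.symm, e3.trans e0, ?_, e5⟩
  rw [← h5, e5, ← pow_mul, show (2 : ℕ) * 2 = 3 + 1 from rfl, pow_add, e0, one_mul, pow_one]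

end Ker

variable {K : Type*} [Field K] [Fintype K] {q : ℕ} (hq : IsPrimePow q) (hK : Fintype.card K = q ^ 2)

theorem heDataE6 :
    (chevE6.neg 46 = 25 ∧ chevE6.neg 39 = 32 ∧ chevE6.neg 56 = 15) ∧
    (chevE6.neg 36 = 35 ∧ chevE6.neg 42 = 29 ∧ chevE6.neg 37 = 34) ∧
    (chkNoTerms chevE6 (chevE6.neg 56) (chevE6.neg 36) = true ∧
      chkNoTerms chevE6 (chevE6.neg 42) (chevE6.neg 37) = true) := by
  decide +kernel

include hq hK in
theorem neg_pow_E6 (t : K) : (-t) ^ q = -(t ^ q) := by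
  rw [← frE6_apply hq hK, ← frE6_apply hq hK, map_neg]

include hq hK in
theorem he_single_mem {r r' : ℕ} (hr : r ∈ [e6p2, e6m2, e6p4, e6m4]) (hr' : r' ∈ [e6p2, e6m2, e6p4, e6m4])
    (hn : chevE6.neg r = r') {t : K} (ht : t ^ q = t) :
    (chevRel certE6 K).he r t ∈ (twistedE6 K q).subgroupOf (chevE6.group K) := by
  have key : ∀ c : K, c ^ q = c → (chevRel certE6 K).ne r c ∈ (twistedE6 K q).subgroupOf (chevE6.group K) := by
    intro c hc
    show xG certE6 K r c * xG certE6 K (chevE6.neg r) (-c⁻¹) * xG certE6 K r c ∈ _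
    rw [hn]
    exact mul_mem (mul_mem (wordE6_single_mem hr hc)
      (wordE6_single_mem hr' (by rw [neg_pow_E6 hq hK, inv_pow, hc]))) (wordE6_single_mem hr hc)
  exact mul_mem (key t ht) (key (-1) (by rw [neg_pow_E6 hq hK, one_pow]))

include hq hK in
theorem he_pair_mem {a b a' b' : ℕ}
    (hab : (a, b) ∈ [(e6p1, e6p6), (e6m1, e6m6), (e6p3, e6p5), (e6m3, e6m5)])
    (hab' : (a', b') ∈ [(e6p1, e6p6), (e6m1, e6m6), (e6p3, e6p5), (e6m3, e6m5)])
    (ha : chevE6.neg a = a') (hb : chevE6.neg b = b') (c1 : chkNoTerms chevE6 a b = true)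
    (c2 : chkNoTerms chevE6 a (chevE6.neg b) = true) (c3 : chkNoTerms chevE6 (chevE6.neg a) b = true)
    (c4 : chkNoTerms chevE6 (chevE6.neg a) (chevE6.neg b) = true) (t : K) :
    (chevRel certE6 K).he a t * (chevRel certE6 K).he b (t ^ q) ∈ (twistedE6 K q).subgroupOf (chevE6.group K) := by
  have key : ∀ c : K, (chevRel certE6 K).ne a c * (chevRel certE6 K).ne b (c ^ q) ∈
      (twistedE6 K q).subgroupOf (chevE6.group K) := by
    intro c
    rw [← ne_pair certE6 c1 c2 c3, ha, hb]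
    refine mul_mem (mul_mem (wordE6_pair_mem hab c) ?_) (wordE6_pair_mem hab c)
    have h := wordE6_pair_mem (K := K) (q := q) hab' (-c⁻¹)
    rwa [neg_pow_E6 hq hK, inv_pow] at h
  rw [← he_pair certE6 c1 c2 c3 c4]
  refine mul_mem (key t) ?_
  have h := key (-1)
  rwa [neg_pow_E6 hq hK, one_pow] at h

/-- the tuple attached to four free parameters -/
def tupE6 (q : ℕ) (a b c d : Kˣ) : Fin chevE6.rank → Kˣ := fun i =>
  [d, a, c, b, c ^ q, d ^ q].getD (i : ℕ) 1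

/-- the fixed points of the `q`-th power on units -/
def fixUnits (K : Type*) [Field K] (q : ℕ) : Subgroup Kˣ := (powMonoidHom (q - 1) : Kˣ →* Kˣ).ker

theorem fixUnits_iff (hq : 0 < q) (u : Kˣ) : u ∈ fixUnits K q ↔ u ^ q = u := by
  rw [fixUnits, MonoidHom.mem_ker, powMonoidHom_apply]
  conv_rhs => rw [← Nat.sub_add_cancel hq, pow_succ, mul_eq_right]

/-- the parametrisation of the fixed torus -/
def psiE6 (K : Type*) [Field K] (q : ℕ) : (fixUnits K q × fixUnits K q) × (Kˣ × Kˣ) →* ↥(chevE6.group K) :=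
  (((chevRel certE6 K).HS.subtype).comp (chevRel certE6 K).torusHom).comp
    { toFun := fun x => tupE6 q (x.1.1 : Kˣ) (x.1.2 : Kˣ) x.2.1 x.2.2
      map_one' := by
        funext i
        obtain ⟨i, hi⟩ := i
        have hi6 : i < 6 := hi
        interval_cases i <;> simp [tupE6]
      map_mul' := fun x y => by
        funext i
        obtain ⟨i, hi⟩ := i
        have hi6 : i < 6 := hi
        interval_cases i <;> simp [tupE6, mul_pow] }

theorem psiE6_apply (x : (fixUnits K q × fixUnits K q) × (Kˣ × Kˣ)) :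
    psiE6 K q x = (chevRel certE6 K).torusHom (tupE6 q (x.1.1 : Kˣ) (x.1.2 : Kˣ) x.2.1 x.2.2) := rfl

theorem tupE6_val (a b c d : Kˣ) :
    ((((chevRel certE6 K).torusHom (tupE6 q a b c d) : (chevRel certE6 K).HS) : ↥(chevE6.group K))) =
      (chevRel certE6 K).he 56 (d : K) * (chevRel certE6 K).he 46 (a : K) * (chevRel certE6 K).he 42 (c : K) *
        (chevRel certE6 K).he 39 (b : K) * (chevRel certE6 K).he 37 (((c ^ q : Kˣ)) : K) *
          (chevRel certE6 K).he 36 (((d ^ q : Kˣ)) : K) := by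
  obtain ⟨⟨⟨s0, s1, s2⟩, ⟨s3, s4, s5⟩⟩, -⟩ := simpleE6
  rw [torusHom_val]
  have e : (List.finRange chevE6.rank).map (fun i : Fin chevE6.rank =>
      (chevRel certE6 K).he (chevE6.simple (i : ℕ)) ((tupE6 q a b c d i : Kˣ) : K)) =
      (List.range 6).map fun i => (chevRel certE6 K).he (chevE6.simple i) (([d, a, c, b, c ^ q, d ^ q].getD i 1 : Kˣ) : K) := by
    rw [← List.map_coe_finRange_eq_range, List.map_map]
    rfl
  rw [e]
  simp only [List.range_succ, List.range_zero, List.nil_append, List.cons_append, List.map_cons, List.map_nil,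
    List.prod_cons, List.prod_nil, mul_one, s0, s1, s2, s3, s4, s5, List.getD_cons_zero, List.getD_cons_succ,
    mul_assoc]

include hq hK in
theorem psiE6_mem (x : (fixUnits K q × fixUnits K q) × (Kˣ × Kˣ)) :
    psiE6 K q x ∈ (twistedE6 K q).subgroupOf (chevE6.group K) ⊓ (chevRel certE6 K).HS := by
  refine Subgroup.mem_inf.2 ⟨?_, SetLike.coe_mem ((chevRel certE6 K).torusHom _)⟩
  obtain ⟨⟨⟨a, ha⟩, ⟨b, hb⟩⟩, c, d⟩ := x
  have hq0 : 0 < q := hq.pos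
  rw [fixUnits_iff hq0] at ha hb
  rw [psiE6_apply, tupE6_val]
  obtain ⟨⟨n46, n39, n56⟩, ⟨n36, n42, n37⟩, c4, c4'⟩ := heDataE6
  obtain ⟨⟨c1, c1'⟩, -, ⟨c2, c3⟩, ⟨c2', c3'⟩⟩ := commE6
  have m46 : (chevRel certE6 K).he 46 (a : K) ∈ (twistedE6 K q).subgroupOf (chevE6.group K) :=
    he_single_mem hq hK (r := 46) (r' := 25) (by decide) (by decide) n46
      (by rw [← Units.val_pow_eq_pow_val, ha])
  have m39 : (chevRel certE6 K).he 39 (b : K) ∈ (twistedE6 K q).subgroupOf (chevE6.group K) :=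
    he_single_mem hq hK (r := 39) (r' := 32) (by decide) (by decide) n39
      (by rw [← Units.val_pow_eq_pow_val, hb])
  have m56 := he_pair_mem hq hK (a := 56) (b := 36) (a' := 15) (b' := 35) (by decide) (by decide) n56 n36
    c1 c2 c3 c4 (d : K)
  have m42 := he_pair_mem hq hK (a := 42) (b := 37) (a' := 29) (b' := 34) (by decide) (by decide) n42 n37
    c1' c2' c3' c4' (c : K)
  rw [Units.val_pow_eq_pow_val, Units.val_pow_eq_pow_val]
  have hcomm : ∀ {x y : ↥(chevE6.group K)}, x ∈ (chevRel certE6 K).HS → y ∈ (chevRel certE6 K).HS → x * y = y * x :=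
    fun hx hy => (chevRel certE6 K).HS_isMulCommutative hx hy
  obtain ⟨⟨⟨s0, s1, s2⟩, ⟨s3, s4, s5⟩⟩, -⟩ := simpleE6
  have hmem : ∀ (r : ℕ), r < chevE6.nroots → ∀ u : Kˣ, (chevRel certE6 K).he r (u : K) ∈ (chevRel certE6 K).HS :=
    fun r hr u => (chevRel certE6 K).he_mem ⟨r, hr⟩ u.ne_zero
  obtain ⟨l46, l39, l56, l36, l42, l37⟩ : 46 < chevE6.nroots ∧ 39 < chevE6.nroots ∧ 56 < chevE6.nroots ∧
      36 < chevE6.nroots ∧ 42 < chevE6.nroots ∧ 37 < chevE6.nroots := by decide +kernel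
  have hd : (chevRel certE6 K).he 36 ((d : K) ^ q) ∈ (chevRel certE6 K).HS :=
    (chevRel certE6 K).he_mem ⟨36, l36⟩ (pow_ne_zero _ d.ne_zero)
  have hc : (chevRel certE6 K).he 37 ((c : K) ^ q) ∈ (chevRel certE6 K).HS :=
    (chevRel certE6 K).he_mem ⟨37, l37⟩ (pow_ne_zero _ c.ne_zero)
  have e1 : (chevRel certE6 K).he 42 (c : K) * (chevRel certE6 K).he 39 (b : K) =
      (chevRel certE6 K).he 39 (b : K) * (chevRel certE6 K).he 42 (c : K) := hcomm (hmem 42 l42 c) (hmem 39 l39 b)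
  have e2 : ∀ y ∈ (chevRel certE6 K).HS, y * (chevRel certE6 K).he 36 ((d : K) ^ q) =
      (chevRel certE6 K).he 36 ((d : K) ^ q) * y := fun y hy => hcomm hy hd
  have htot : (chevRel certE6 K).he 56 (d : K) * (chevRel certE6 K).he 46 (a : K) * (chevRel certE6 K).he 42 (c : K) *
      (chevRel certE6 K).he 39 (b : K) * (chevRel certE6 K).he 37 ((c : K) ^ q) *
        (chevRel certE6 K).he 36 ((d : K) ^ q) =
      (chevRel certE6 K).he 56 (d : K) * (chevRel certE6 K).he 36 ((d : K) ^ q) *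
        ((chevRel certE6 K).he 46 (a : K) * ((chevRel certE6 K).he 39 (b : K) *
          ((chevRel certE6 K).he 42 (c : K) * (chevRel certE6 K).he 37 ((c : K) ^ q)))) := by
    rw [mul_assoc _ ((chevRel certE6 K).he 42 (c : K)) ((chevRel certE6 K).he 39 (b : K)), e1]
    simp only [mul_assoc]
    refine congrArg (fun z => (chevRel certE6 K).he 56 (d : K) * z) ?_
    simp only [← mul_assoc]
    rw [e2 _ (mul_mem (mul_mem (mul_mem (hmem 46 l46 a) (hmem 39 l39 b)) (hmem 42 l42 c)) hc)]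
    simp only [mul_assoc]
  rw [htot]
  exact mul_mem m56 (mul_mem m46 (mul_mem m39 m42))

theorem cartE6_eqs {z : Fin chevE6.rank → Kˣ} (hz : z ∈ (chevRel certE6 K).torusHom.ker) :
    z ⟨0, by decide +kernel⟩ ^ (2 : ℕ) = z ⟨2, by decide +kernel⟩ ∧
    z ⟨1, by decide +kernel⟩ ^ (2 : ℕ) = z ⟨3, by decide +kernel⟩ ∧
    z ⟨2, by decide +kernel⟩ ^ (2 : ℕ) = z ⟨0, by decide +kernel⟩ * z ⟨3, by decide +kernel⟩ ∧
    z ⟨3, by decide +kernel⟩ ^ (2 : ℕ) = z ⟨1, by decide +kernel⟩ * z ⟨2, by decide +kernel⟩ * z ⟨4, by decide +kernel⟩ ∧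
    z ⟨4, by decide +kernel⟩ ^ (2 : ℕ) = z ⟨3, by decide +kernel⟩ * z ⟨5, by decide +kernel⟩ ∧
    z ⟨5, by decide +kernel⟩ ^ (2 : ℕ) = z ⟨4, by decide +kernel⟩ := by
  rw [mem_torusHom_ker, MonoidHom.mem_ker, cmat_E6] at hz
  have h : ∀ k : Fin chevE6.rank,
      ((List.range 6).map fun i => (if hi : i < chevE6.rank then z ⟨i, hi⟩ else 1) ^
        ((cartE6.getD i []).getD (k : ℕ) 0)).prod = 1 := by
    intro k
    have h2 := congrFun hz k
    rw [powMat_apply, Pi.one_apply, Fin.prod_univ_def] at h2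
    refine Eq.trans ?_ h2
    rw [show (List.range 6) = List.range chevE6.rank from rfl, ← List.map_coe_finRange_eq_range, List.map_map]
    refine congrArg List.prod (List.map_congr_left fun i _ => ?_)
    simp only [Function.comp_apply, dif_pos i.2, Fin.eta, Matrix.of_apply]
  have l : ∀ n, n < 6 → n < chevE6.rank := fun n hn => lt_of_lt_of_eq hn (by decide +kernel)
  have g0 := h ⟨0, l 0 (by norm_num)⟩
  have g1 := h ⟨1, l 1 (by norm_num)⟩
  have g2 := h ⟨2, l 2 (by norm_num)⟩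
  have g3 := h ⟨3, l 3 (by norm_num)⟩
  have g4 := h ⟨4, l 4 (by norm_num)⟩
  have g5 := h ⟨5, l 5 (by norm_num)⟩
  simp [List.range_succ, cartE6, l] at g0 g1 g2 g3 g4 g5
  refine ⟨mul_inv_eq_one.1 g0, mul_inv_eq_one.1 g1, (eq_mul_inv_iff_mul_eq.1 (inv_mul_eq_one.1 g2)).symm, ?_,
    (eq_mul_inv_iff_mul_eq.1 (inv_mul_eq_one.1 g4)).symm, (inv_mul_eq_one.1 g5).symm⟩
  have h3 := eq_mul_inv_iff_mul_eq.1 (eq_inv_mul_iff_mul_eq.1 (inv_mul_eq_one.1 g3))
  rw [← h3, mul_comm (z ⟨2, _⟩) (z ⟨1, _⟩)]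

theorem psiE6_range : (psiE6 K q).range = (twE6 hq hK).P1 ⊓ (chevRel certE6 K).HS := by
  refine le_antisymm ?_ ?_
  · rintro _ ⟨x, rfl⟩
    exact psiE6_mem hq hK x
  rintro g hg
  obtain ⟨hg1, hg2⟩ := Subgroup.mem_inf.1 hg
  obtain ⟨c, hc⟩ := (chevRel certE6 K).torusHom_surjective ⟨g, hg2⟩
  have hgc : g = (chevRel certE6 K).torusHom c := by rw [hc]
  have l : ∀ n, n < 6 → n < chevE6.rank := fun n hn => lt_of_lt_of_eq hn (by decide +kernel)
  let c' : Fin chevE6.rank → Kˣ := fun j => c ⟨piE6.getD (j : ℕ) 0, by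
    have := ((twShape_spec twOkE6 shapeE6).2.2.1 j).1; exact this⟩ ^ q
  have hinvol : ∀ i : Fin chevE6.rank, piE6.getD (piE6.getD (i : ℕ) 0) 0 = i := by decide +kernel
  have hσ := σ_torusHom certE6 (twField_one K) twOkE6 shapeE6 (frE6 hq hK) (σE6 hq hK) (σE6_gen hq hK)
    (fun i => congrArg Prod.fst (signE6 i)) c c' (by
      intro i j hj
      have hidx : (⟨piE6.getD (j : ℕ) 0, ((twShape_spec twOkE6 shapeE6).2.2.1 j).1⟩ : Fin chevE6.rank) = i :=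
        Fin.ext (by show piE6.getD (j : ℕ) 0 = i; rw [hj, hinvol])
      show ((c ⟨piE6.getD (j : ℕ) 0, ((twShape_spec twOkE6 shapeE6).2.2.1 j).1⟩ ^ q : Kˣ) : K) = _
      rw [hidx, (signE6 i), pow_one, frE6_apply, Units.val_pow_eq_pow_val])
  have hfix := (twE6 hq hK).hfix g hg1
  rw [hgc] at hfix
  have hker : c'⁻¹ * c ∈ (chevRel certE6 K).torusHom.ker := by
    rw [MonoidHom.mem_ker, map_mul, map_inv, inv_mul_eq_one]
    exact Subtype.ext (hσ.symm.trans hfix)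
  obtain ⟨k0, k1, k2, k3, k4, k5⟩ := cartE6_eqs hker
  obtain ⟨w3, z1, z2, z3, z4, z5⟩ := kerShapeE6 k0 k1 k2 k3 k4 k5
  set ω : Kˣ := (c'⁻¹ * c) ⟨0, l 0 (by norm_num)⟩ with hω
  have e0 : c ⟨0, l 0 (by norm_num)⟩ = c ⟨5, l 5 (by norm_num)⟩ ^ q * ω := by
    rw [hω, Pi.mul_apply, Pi.inv_apply]
    show _ = c ⟨5, _⟩ ^ q * ((c ⟨5, _⟩ ^ q)⁻¹ * _)
    rw [mul_inv_cancel_left]
  have e5 : c ⟨5, l 5 (by norm_num)⟩ = c ⟨0, l 0 (by norm_num)⟩ ^ q * ω ^ 2 := by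
    rw [← inv_mul_eq_iff_eq_mul]; exact z5
  have e1 : c ⟨1, l 1 (by norm_num)⟩ ^ q = c ⟨1, l 1 (by norm_num)⟩ := by
    have h : (c ⟨1, l 1 (by norm_num)⟩ ^ q)⁻¹ * c ⟨1, l 1 (by norm_num)⟩ = 1 := z1
    exact inv_mul_eq_one.1 h
  have e3 : c ⟨3, l 3 (by norm_num)⟩ ^ q = c ⟨3, l 3 (by norm_num)⟩ := by
    have h : (c ⟨3, l 3 (by norm_num)⟩ ^ q)⁻¹ * c ⟨3, l 3 (by norm_num)⟩ = 1 := z3
    exact inv_mul_eq_one.1 h
  have e2 : c ⟨2, l 2 (by norm_num)⟩ = c ⟨4, l 4 (by norm_num)⟩ ^ q * ω ^ 2 := by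
    rw [← inv_mul_eq_iff_eq_mul]; exact z2
  have e4 : c ⟨4, l 4 (by norm_num)⟩ = c ⟨2, l 2 (by norm_num)⟩ ^ q * ω := by
    rw [← inv_mul_eq_iff_eq_mul]; exact z4
  have hqq : ∀ u : Kˣ, (u ^ q) ^ q = u := fun u => Units.ext (by
    rw [Units.val_pow_eq_pow_val, Units.val_pow_eq_pow_val]; exact pow_qq hK (u : K))
  have hωq : ω ^ q = ω := by
    have h : c ⟨0, l 0 (by norm_num)⟩ * 1 = c ⟨0, l 0 (by norm_num)⟩ * ((ω ^ 2) ^ q * ω) := by
      conv_lhs => rw [mul_one, e0, e5, mul_pow, hqq]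
      rw [mul_assoc]
    have h2 := mul_left_cancel h
    have h3 : (ω ^ q) ^ 2 * ω = ω ^ 2 * ω := by
      rw [← pow_mul, mul_comm q 2, pow_mul, ← h2, ← pow_succ, w3]
    have h4 := mul_right_cancel h3
    calc ω ^ q = (ω ^ q) ^ 4 := by
          rw [← pow_mul, mul_comm q 4, show (4 : ℕ) = 3 + 1 from rfl, pow_mul, pow_add, w3, one_mul, pow_one]
      _ = (ω ^ 2) ^ 2 := by rw [show (4 : ℕ) = 2 * 2 from rfl, pow_mul, h4]
      _ = ω := by rw [← pow_mul, show (2 : ℕ) * 2 = 3 + 1 from rfl, pow_add, w3, one_mul, pow_one]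
  -- adjust by a kernel element
  let η : Fin chevE6.rank → Kˣ := fun i => [ω, 1, ω ^ 2, 1, ω, ω ^ 2].getD (i : ℕ) 1
  have hη : η ∈ (chevRel certE6 K).torusHom.ker := by
    rw [mem_torusHom_ker, MonoidHom.mem_ker, cmat_E6]
    funext k
    rw [powMat_apply, Pi.one_apply, Fin.prod_univ_def]
    have : ∀ k, k < 6 → (((List.range 6).map fun i =>
        ([ω, 1, ω ^ 2, 1, ω, ω ^ 2].getD i 1) ^ ((cartE6.getD i []).getD k 0)).prod = 1) := by
      intro k hk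
      have w4 : ω ^ (2 : ℕ) * ω = 1 := by rw [← pow_succ]; exact w3
      have w5 : ω⁻¹ = ω ^ 2 := inv_eq_of_mul_eq_one_left w4
      interval_cases k <;> simp [List.range_succ, cartE6, w5, ← pow_mul, ← pow_add, ← pow_succ, ← pow_succ']
      all_goals first
        | exact w3
        | (rw [show (6 : ℕ) = 3 + 3 from rfl, pow_add, w3, mul_one])
    refine Eq.trans ?_ (this k k.2)
    rw [show (List.range 6) = List.range chevE6.rank from rfl, ← List.map_coe_finRange_eq_range, List.map_map]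
    rfl
  let d : Fin chevE6.rank → Kˣ := c * η
  have hd : (chevRel certE6 K).torusHom d = (chevRel certE6 K).torusHom c := by
    show (chevRel certE6 K).torusHom (c * η) = _
    rw [map_mul, MonoidHom.mem_ker.1 hη, mul_one]
  have hd5 : d ⟨5, l 5 (by norm_num)⟩ = d ⟨0, l 0 (by norm_num)⟩ ^ q := by
    show c ⟨5, _⟩ * ω ^ 2 = (c ⟨0, _⟩ * ω) ^ q
    rw [mul_pow, hωq, e5, mul_assoc, ← pow_add, show 2 + 2 = 3 + 1 from rfl, pow_add, w3, one_mul, pow_one]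
  have hd4 : d ⟨4, l 4 (by norm_num)⟩ = d ⟨2, l 2 (by norm_num)⟩ ^ q := by
    show c ⟨4, _⟩ * ω = (c ⟨2, _⟩ * ω ^ 2) ^ q
    rw [mul_pow, ← pow_mul, mul_comm 2 q, pow_mul, hωq, e4, mul_assoc, ← pow_two]
  have hq0 : 0 < q := hq.pos
  refine ⟨((⟨c ⟨1, l 1 (by norm_num)⟩, (fixUnits_iff hq0 _).2 e1⟩, ⟨c ⟨3, l 3 (by norm_num)⟩,
    (fixUnits_iff hq0 _).2 e3⟩), (d ⟨2, l 2 (by norm_num)⟩, d ⟨0, l 0 (by norm_num)⟩)), ?_⟩
  rw [psiE6_apply, hgc, ← hd]
  refine congrArg (fun x => (((chevRel certE6 K).torusHom x : (chevRel certE6 K).HS) : ↥(chevE6.group K))) ?_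
  funext i
  obtain ⟨i, hi⟩ := i
  have hi6 : i < 6 := hi
  interval_cases i
  · rfl
  · exact (mul_one _).symm
  · rfl
  · exact (mul_one _).symm
  · exact hd4.symm
  · exact hd5.symm

include hq hK in
theorem psiE6_ker : Nat.card ↥(psiE6 K q).ker = Nat.gcd 3 (q + 1) := by
  have hq0 : 0 < q := hq.pos
  have hq1 : 1 < q := hq.one_lt
  have l : ∀ n, n < 6 → n < chevE6.rank := fun n hn => lt_of_lt_of_eq hn (by decide +kernel)
  have hcard : Nat.card (powMonoidHom (Nat.gcd 3 (q + 1)) : Kˣ →* Kˣ).ker = Nat.gcd 3 (q + 1) := by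
    rw [IsCyclic.card_powMonoidHom_ker, Nat.card_units, Nat.card_eq_fintype_card, hK]
    refine Nat.gcd_eq_right ((Nat.gcd_dvd_right 3 (q + 1)).trans ⟨q - 1, ?_⟩)
    obtain ⟨r, rfl⟩ : ∃ r, q = r + 1 := ⟨q - 1, by omega⟩
    rw [Nat.add_sub_cancel]
    have : (r + 1) ^ 2 = (r + 1 + 1) * r + 1 := by ring
    omega
  rw [← hcard]
  have key : ∀ x, x ∈ (psiE6 K q).ker ↔ ((x.1.1 : Kˣ) = 1 ∧ (x.1.2 : Kˣ) = 1 ∧ x.2.1 = x.2.2 ^ 2 ∧
      x.2.2 ^ 3 = 1 ∧ x.2.2 ^ (q + 1) = 1) := by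
    intro x
    constructor
    · intro hx
      have hx' : tupE6 q (x.1.1 : Kˣ) (x.1.2 : Kˣ) x.2.1 x.2.2 ∈ (chevRel certE6 K).torusHom.ker :=
        MonoidHom.mem_ker.2 (Subtype.ext (MonoidHom.mem_ker.1 hx))
      obtain ⟨k0, k1, k2, k3, k4, k5⟩ := cartE6_eqs hx'
      obtain ⟨w3, z1, z2, z3, z4, z5⟩ := kerShapeE6 k0 k1 k2 k3 k4 k5
      have w3' : x.2.2 ^ 3 = 1 := w3
      refine ⟨z1, z3, z2, w3', ?_⟩
      rw [pow_succ, show x.2.2 ^ q = x.2.2 ^ 2 from z5, ← pow_succ]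
      exact w3'
    · rintro ⟨h1, h2, h3, h4, h5⟩
      have hq2 : x.2.2 ^ q = x.2.2 ^ 2 := by
        refine mul_right_cancel (b := x.2.2) ?_
        rw [← pow_succ, ← pow_succ, h5, h4]
      rw [MonoidHom.mem_ker, psiE6_apply, h1, h2, h3]
      refine congrArg Subtype.val (MonoidHom.mem_ker.1 ?_ : (chevRel certE6 K).torusHom _ = 1)
      rw [mem_torusHom_ker, MonoidHom.mem_ker, cmat_E6]
      funext k
      rw [powMat_apply, Pi.one_apply, Fin.prod_univ_def]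
      have : ∀ k, k < 6 → (((List.range 6).map fun i =>
          ([x.2.2, 1, x.2.2 ^ 2, 1, (x.2.2 ^ 2) ^ q, x.2.2 ^ q].getD i 1) ^ ((cartE6.getD i []).getD k 0)).prod = 1) := by
        intro k hk
        have w4 : x.2.2 ^ (2 : ℕ) * x.2.2 = 1 := by rw [← pow_succ]; exact h4
        have w5 : (x.2.2)⁻¹ = x.2.2 ^ 2 := inv_eq_of_mul_eq_one_left w4
        rw [← pow_mul, mul_comm 2 q, pow_mul, hq2, ← pow_mul, show (2 : ℕ) * 2 = 3 + 1 from rfl, pow_add, h4, one_mul,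
          pow_one]
        interval_cases k <;> simp [List.range_succ, cartE6, w5, ← pow_mul, ← pow_add, ← pow_succ, ← pow_succ']
        all_goals first
          | exact h4
          | (rw [show (6 : ℕ) = 3 + 3 from rfl, pow_add, h4, mul_one])
      refine Eq.trans ?_ (this k k.2)
      rw [show (List.range 6) = List.range chevE6.rank from rfl, ← List.map_coe_finRange_eq_range, List.map_map]
      rfl
  refine Nat.card_eq_of_bijective (fun x => ⟨x.1.2.2, ?_⟩) ⟨?_, ?_⟩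
  · obtain ⟨-, -, -, h4, h5⟩ := (key x.1).1 x.2
    rw [MonoidHom.mem_ker, powMonoidHom_apply]
    exact pow_gcd_eq_one.2 ⟨h4, h5⟩
  · intro x y e
    obtain ⟨a1, a2, a3, -, -⟩ := (key x.1).1 x.2
    obtain ⟨b1, b2, b3, -, -⟩ := (key y.1).1 y.2
    have e2 : x.1.2.2 = y.1.2.2 := congrArg Subtype.val e
    exact Subtype.ext (Prod.ext (Prod.ext (Subtype.ext (a1.trans b1.symm)) (Subtype.ext (a2.trans b2.symm)))
      (Prod.ext (by rw [a3, b3, e2]) e2))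
  · rintro ⟨u, hu⟩
    rw [MonoidHom.mem_ker, powMonoidHom_apply] at hu
    obtain ⟨i, hi⟩ := Nat.gcd_dvd_left 3 (q + 1)
    obtain ⟨j, hj⟩ := Nat.gcd_dvd_right 3 (q + 1)
    have h4 : u ^ 3 = 1 := by rw [hi, pow_mul, hu, one_pow]
    have h5 : u ^ (q + 1) = 1 := by rw [hj, pow_mul, hu, one_pow]
    exact ⟨⟨((1, 1), (u ^ 2, u)), (key _).2 ⟨rfl, rfl, rfl, h4, h5⟩⟩, rfl⟩

theorem card_torusE6 :
    Nat.gcd 3 (q + 1) * Nat.card ↥((twE6 hq hK).P1 ⊓ (chevRel certE6 K).HS) = (q - 1) ^ 4 * (q + 1) ^ 2 := by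
  have hf : Nat.card ↥(fixUnits K q) = q - 1 := by
    rw [fixUnits, IsCyclic.card_powMonoidHom_ker, Nat.card_units, Nat.card_eq_fintype_card, hK]
    exact Nat.gcd_eq_right (by simpa using Nat.sub_one_dvd_pow_sub_one q 2)
  have hu : Nat.card Kˣ = (q - 1) * (q + 1) := by
    rw [Nat.card_units, Nat.card_eq_fintype_card, hK]
    obtain ⟨r, rfl⟩ : ∃ r, q = r + 1 := ⟨q - 1, by have := hq.pos; omega⟩
    have : (r + 1) ^ 2 = r * (r + 1 + 1) + 1 := by ring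
    rw [Nat.add_sub_cancel]
    omega
  have h := (psiE6 K q).ker.card_mul_index
  rw [Subgroup.index_ker, psiE6_range hq hK, psiE6_ker hq hK] at h
  rw [h, Nat.card_prod, Nat.card_prod, Nat.card_prod, hf, hu]
  ring

theorem idE6 : (padd (pprod [cyclo 1, cyclo 1, cyclo 1, cyclo 1, [1, 1], [1, 1], layerPoly layersTE6])
    ((pprod [cyclo 2, padd [1] (monoP 5 1), cyclo 6, cyclo 8, padd [1] (monoP 9 1), cyclo 12]).map (-1 * ·))).all
      (fun x => decide (x = 0)) = true := by decide +kernel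

include hq hK in
theorem card_twE6 :
    Nat.gcd 3 (q + 1) * Nat.card ↥(twistedE6 K q) =
      q ^ 36 * (q ^ 2 - 1) * (q ^ 5 + 1) * (q ^ 6 - 1) * (q ^ 8 - 1) * (q ^ 9 + 1) * (q ^ 12 - 1) := by
  have h := idE6
  simp only [List.all_eq_true, decide_eq_true_eq] at h
  have h0 := horner_zero (q : ℤ) _ h
  simp only [horner_padd, horner_map, horner_pprod, List.map_cons, List.map_nil, List.prod_cons, List.prod_nil,
    horner_cyclo, horner_monoP, horner, mul_one, pow_one] at h0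
  have h1 := card_E6_enum hq hK
  have h2 : ((Nat.gcd 3 (q + 1) : ℤ)) * (Nat.card ↥((twE6 hq hK).P1 ⊓ (chevRel certE6 K).HS) : ℤ) =
      ((q : ℤ) - 1) ^ 4 * ((q : ℤ) + 1) ^ 2 := by
    have := congrArg (fun n : ℕ => (n : ℤ)) (card_torusE6 hq hK)
    push_cast [Nat.cast_sub hq.pos] at this
    exact this
  apply Int.ofNat.inj
  show ((_ : ℕ) : ℤ) = ((_ : ℕ) : ℤ)
  push_cast [Nat.cast_sub (Nat.one_le_pow _ q hq.pos)]
  linear_combination (Nat.gcd 3 (q + 1) : ℤ) * h1 +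
    (q : ℤ) ^ 36 * horner (q : ℤ) (layerPoly layersTE6) * h2 + (q : ℤ) ^ 36 * h0

end CfsgLib.Lie.Chev.TwGroups
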