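/-
The unipotent part of the twisted groups of type G2.
-/
import Cfsg.Agent.Lib.Lie.Twisted.G2

set_option autoImplicit false

namespace CfsgLib.Lie.Chev.TwGroups

open Cfsg.Lie

theorem posSub_G2 : posSub chevG2 auxG2 orbG2 0 = posSet chevG2 := by
  ext r
  refine ⟨fun h => h.1, fun h => ⟨h, fun i hi hik => absurd ⟨⟨i, hi⟩, rfl, Subsingleton.elim _ _⟩ hik⟩⟩

variable {K : Type*} [Field K] [Fintype K] {m : ℕ} (hK : Fintype.card K = 3 ^ (2 * m + 1))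
include hK

theorem U1_eq_class_G2 :
    (twG2 hK).P1 ⊓ (chevRel certG2 K).UP =
      (twG2 hK).P1 ⊓ (chevRel certG2 K).US (posSub chevG2 auxG2 orbG2 0) := by
  rw [posSub_G2]; rfl

theorem mem_U1_G2 (g : GL chevG2.Idx K) :
    g ∈ chevG2.posUnipotent K ⊓ twistedG2 K (3 ^ m) ↔
      ∃ t u v : K, (g : Matrix chevG2.Idx chevG2.Idx K) = chevG2.wordMat K (reeWordU (3 ^ m) t u v) := by
  constructor
  · rintro ⟨h1, h2⟩
    rw [posUnipotent_eq certG2 K] at h1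
    obtain ⟨x, hx, rfl⟩ := h1
    have hx1 : x ∈ (twG2 hK).P1 := h2
    have hc : x ∈ (twG2 hK).P1 ⊓ (chevRel certG2 K).US (posSub chevG2 auxG2 orbG2 0) :=
      U1_eq_class_G2 hK ▸ Subgroup.mem_inf.2 ⟨hx1, hx⟩
    obtain ⟨t, u, v, rfl⟩ := classG2_fixed hK (Subgroup.mem_inf.1 hc).2 ((twG2 hK).hfix _ hx1)
    refine ⟨t, u, v, ?_⟩
    rw [← wordG_val certG2, wordG_reeU]
    rfl
  · rintro ⟨t, u, v, e⟩
    have hg : g = ((xU m t u v : ↥(chevG2.group K)) : GL chevG2.Idx K) :=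
      Units.ext (e.trans (by rw [← wordG_val certG2, wordG_reeU]))
    have hc : xU m t u v ∈ (twG2 hK).P1 ⊓ (chevRel certG2 K).UP :=
      (U1_eq_class_G2 hK).symm ▸ Subgroup.mem_inf.2 ⟨xU_mem m t u v, xU_mem_class hK t u v⟩
    rw [hg]
    refine ⟨?_, (Subgroup.mem_inf.1 hc).1⟩
    rw [posUnipotent_eq certG2 K]
    exact ⟨_, (Subgroup.mem_inf.1 hc).2, rfl⟩

theorem card_U1_G2 : Nat.card ↥(chevG2.posUnipotent K ⊓ twistedG2 K (3 ^ m)) = (3 ^ (2 * m + 1)) ^ 3 := by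
  rw [card_twisted_unipotent certG2 twG2_le (twG2 hK) (twG2_P1 hK), U1_eq_class_G2 hK]
  exact card_classG2 hK

end CfsgLib.Lie.Chev.TwGroups
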