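/-
The fixed unipotent, torus and Borel parts of the twisted groups of type G2, in coordinates.
-/
import Cfsg.Agent.Lib.Lie.Twisted.G2Mul
import Cfsg.Agent.Lib.Lie.Twisted.G2Unip

set_option autoImplicit false

namespace CfsgLib.Lie.Chev.TwGroups

open Cfsg.Lie

variable {K : Type*} [Field K] [Fintype K] {m : ℕ} (hK : Fintype.card K = 3 ^ (2 * m + 1))

/-- the fixed unipotent subgroup -/
noncomputable def U1G2 (K : Type*) [Field K] (m : ℕ) : Subgroup (GL chevG2.Idx K) :=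
  chevG2.posUnipotent K ⊓ twistedG2 K (3 ^ m)

/-- the fixed torus -/
noncomputable def H1G2 (K : Type*) [Field K] (m : ℕ) : Subgroup (GL chevG2.Idx K) :=
  chevG2.diagonalSubgroup K ⊓ twistedG2 K (3 ^ m)

include hK

theorem mem_U1_iff (g : GL chevG2.Idx K) :
    g ∈ U1G2 K m ↔ ∃ t u v : K, g = ((xU m t u v : ↥(chevG2.group K)) : GL chevG2.Idx K) := by
  rw [U1G2, mem_U1_G2 hK]
  refine exists₃_congr fun t u v => ?_
  rw [← wordG_val certG2, wordG_reeU]
  exact Units.val_inj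

theorem xU_mem_U1 (t u v : K) : ((xU m t u v : ↥(chevG2.group K)) : GL chevG2.Idx K) ∈ U1G2 K m :=
  (mem_U1_iff hK _).2 ⟨t, u, v, rfl⟩

/-- coordinates on the fixed unipotent subgroup -/
noncomputable def uEquiv : K × K × K ≃ ↥(U1G2 K m) :=
  Equiv.ofBijective (fun x => ⟨_, xU_mem_U1 hK x.1 x.2.1 x.2.2⟩) (by
    refine ⟨fun x y e => ?_, fun g => ?_⟩
    · obtain ⟨h1, h2, h3⟩ := xU_inj hK (show xU m x.1 x.2.1 x.2.2 = xU m y.1 y.2.1 y.2.2 from
        Subtype.ext (congrArg (fun z : ↥(U1G2 K m) => (z : GL chevG2.Idx K)) e))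
      exact Prod.ext h1 (Prod.ext h2 h3)
    · obtain ⟨t, u, v, e⟩ := (mem_U1_iff hK _).1 g.2
      exact ⟨(t, u, v), Subtype.ext e.symm⟩)

theorem uEquiv_val (x : K × K × K) :
    ((uEquiv hK x : ↥(U1G2 K m)) : GL chevG2.Idx K) = (xU m x.1 x.2.1 x.2.2 : ↥(chevG2.group K)) := rfl

theorem xU_cube (a u v : K) :
    xU m a u v * xU m a u v * xU m a u v = xU m 0 0 (-((a ^ 3 ^ m) ^ (3 : ℕ) * a ^ (2 : ℕ))) := by
  have h3 := three_eq_zero_G2 hK
  rw [xU_mul hK, xU_mul hK]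
  congr 1
  · linear_combination a * h3
  · linear_combination (u - (a ^ 3 ^ m) ^ (3 : ℕ) * a) * h3
  · linear_combination (v - a * u) * h3

theorem xU_pow_three_eq_one_iff (a u v : K) : xU m a u v ^ 3 = 1 ↔ a = 0 := by
  rw [pow_succ, pow_two, xU_cube hK, ← xU_zero hK (m := m)]
  constructor
  · intro h
    obtain ⟨-, -, e⟩ := xU_inj hK h
    by_contra ha
    exact neg_ne_zero.2 (mul_ne_zero (pow_ne_zero _ (pow_ne_zero _ ha)) (pow_ne_zero _ ha)) e
  · rintro rfl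
    congr 1
    simp

theorem card_order_three :
    Nat.card {u : ↥(U1G2 K m) // orderOf u = 3} = (3 ^ (2 * m + 1)) ^ 2 - 1 := by
  classical
  have key : ∀ x : K × K × K, orderOf (uEquiv hK x) = 3 ↔ x.1 = 0 ∧ x.2 ≠ 0 := by
    intro x
    have hval : ∀ z : K × K × K, uEquiv hK z = 1 ↔ z = 0 := by
      intro z
      have h0 : uEquiv hK (0 : K × K × K) = 1 := Subtype.ext (by
        rw [uEquiv_val, Prod.fst_zero, Prod.snd_zero, Prod.fst_zero, Prod.snd_zero, xU_zero hK]; rfl)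
      rw [← h0, (uEquiv hK).injective.eq_iff]
    have hp : uEquiv hK x ^ 3 = 1 ↔ x.1 = 0 := by
      rw [← xU_pow_three_eq_one_iff hK x.1 x.2.1 x.2.2]
      constructor
      · intro h
        refine Subtype.ext ?_
        rw [Subgroup.coe_pow, ← uEquiv_val hK, ← Subgroup.coe_pow, h]
        rfl
      · intro h
        refine Subtype.ext ?_
        rw [Subgroup.coe_pow, uEquiv_val, ← Subgroup.coe_pow, h]
        rfl
    have : Fact (Nat.Prime 3) := ⟨Nat.prime_three⟩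
    constructor
    · intro h
      have h1 : x.1 = 0 := hp.1 (by rw [← h]; exact pow_orderOf_eq_one _)
      refine ⟨h1, fun h2 => ?_⟩
      rw [(hval x).2 (Prod.ext h1 h2), orderOf_one] at h
      norm_num at h
    · rintro ⟨h1, h2⟩
      exact orderOf_eq_prime (hp.2 h1) fun e => h2 (congrArg Prod.snd ((hval x).1 e))
  have e : {x : K × K × K // x.1 = 0 ∧ x.2 ≠ 0} ≃ {y : K × K // y ≠ 0} :=
    { toFun := fun x => ⟨x.1.2, x.2.2⟩
      invFun := fun y => ⟨(0, y.1), rfl, y.2⟩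
      left_inv := fun x => Subtype.ext (Prod.ext x.2.1.symm rfl)
      right_inv := fun y => rfl }
  rw [← Nat.card_congr (((uEquiv hK).subtypeEquiv fun x => (key x).symm).symm.symm),
    Nat.card_congr e, Nat.card_eq_fintype_card, Fintype.card_subtype_compl, Fintype.card_subtype_eq,
    Fintype.card_prod, hK, pow_two]

theorem mem_H1_iff (g : GL chevG2.Idx K) :
    g ∈ H1G2 K m ↔ ∃ c : Kˣ, g = ((psiG2 K m c : ↥(chevG2.group K)) : GL chevG2.Idx K) := by
  rw [H1G2, diagonalSubgroup_eq certG2 K]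
  constructor
  · rintro ⟨⟨y, hy, rfl⟩, h2⟩
    have : y ∈ (psiG2 K m).range := by
      rw [psiG2_range hK]; exact Subgroup.mem_inf.2 ⟨h2, hy⟩
    obtain ⟨c, rfl⟩ := this
    exact ⟨c, rfl⟩
  · rintro ⟨c, rfl⟩
    have h : psiG2 K m c ∈ (twG2 hK).P1 ⊓ (chevRel certG2 K).HS := psiG2_range hK ▸ ⟨c, rfl⟩
    exact ⟨⟨_, (Subgroup.mem_inf.1 h).2, rfl⟩, (Subgroup.mem_inf.1 h).1⟩

/-- coordinates on the fixed torus -/
noncomputable def hEquiv : Kˣ ≃* ↥(H1G2 K m) :=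
  MulEquiv.ofBijective
    ((((chevG2.group K).subtype).comp (psiG2 K m)).codRestrict (H1G2 K m) fun c => (mem_H1_iff hK _).2 ⟨c, rfl⟩) (by
    refine ⟨fun x y e => psiG2_injective m (Subtype.ext (congrArg (fun z : ↥(H1G2 K m) => (z : GL chevG2.Idx K)) e)),
      fun g => ?_⟩
    obtain ⟨c, e⟩ := (mem_H1_iff hK _).1 g.2
    exact ⟨c, Subtype.ext e.symm⟩)

theorem hEquiv_val (c : Kˣ) :
    ((hEquiv hK c : ↥(H1G2 K m)) : GL chevG2.Idx K) = (psiG2 K m c : ↥(chevG2.group K)) := rfl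

theorem card_H1_odd : 2 * Nat.card {h : ↥(H1G2 K m) // Odd (orderOf h)} = 3 ^ (2 * m + 1) - 1 := by
  classical
  obtain ⟨r, hr, hro⟩ : ∃ r, 3 ^ (2 * m + 1) - 1 = 2 * r ∧ Odd r := by
    refine ⟨(3 ^ (2 * m + 1) - 1) / 2, ?_, ?_⟩
    · obtain ⟨k, hk⟩ := (Odd.pow (by decide : Odd 3) : Odd (3 ^ (2 * m + 1)))
      omega
    · rw [Nat.odd_iff]
      have h4 : 3 ^ (2 * m + 1) % 4 = 3 := by
        rw [pow_succ, pow_mul, Nat.mul_mod, Nat.pow_mod]
        norm_num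
      omega
  have hcard : Nat.card Kˣ = 2 * r := by rw [Nat.card_units, Nat.card_eq_fintype_card, hK, hr]
  have key : ∀ c : Kˣ, Odd (orderOf (hEquiv hK c)) ↔ c ∈ (powMonoidHom r : Kˣ →* Kˣ).ker := by
    intro c
    rw [MulEquiv.orderOf_eq, MonoidHom.mem_ker, powMonoidHom_apply, ← orderOf_dvd_iff_pow_eq_one]
    refine ⟨fun h => ?_, fun h => Odd.of_dvd_nat hro h⟩
    have hd : orderOf c ∣ 2 * r := hcard ▸ orderOf_dvd_natCard c
    exact (Nat.Coprime.dvd_of_dvd_mul_left (Nat.coprime_two_right.2 h) hd)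
  rw [← Nat.card_congr ((hEquiv hK).toEquiv.subtypeEquiv fun c => (key c).symm),
    IsCyclic.card_powMonoidHom_ker, hcard, Nat.gcd_mul_left_left, hr]

theorem H1_fixed_point_free {h : GL chevG2.Idx K} (hh : h ∈ H1G2 K m) (h1 : h ≠ 1) (ho : Odd (orderOf h)) :
    U1G2 K m ⊓ Subgroup.centralizer {h} = ⊥ := by
  obtain ⟨c, rfl⟩ := (mem_H1_iff hK _).1 hh
  have hc1 : (c : K) ≠ 1 := by
    intro e
    rw [Units.val_eq_one] at e
    subst e
    exact h1 (by rw [map_one]; rfl)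
  have hc2 : (c : K) ^ (2 : ℕ) ≠ 1 := by
    intro e
    have e' : c ^ 2 = 1 := Units.ext (by rw [Units.val_pow_eq_pow_val, e, Units.val_one])
    have hd : orderOf ((psiG2 K m c : ↥(chevG2.group K)) : GL chevG2.Idx K) ∣ 2 :=
      orderOf_dvd_of_pow_eq_one (by rw [← Subgroup.coe_pow, ← map_pow, e', map_one]; rfl)
    rcases (Nat.dvd_prime Nat.prime_two).1 hd with h2 | h2
    · exact h1 (orderOf_eq_one_iff.1 h2)
    · rw [h2] at ho; exact absurd ho (by decide)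
  have hC : (c : K) ≠ 0 := c.ne_zero
  have hQ : ((c : K) ^ 3 ^ m) ^ (3 : ℕ) ≠ 0 := pow_ne_zero _ (pow_ne_zero _ hC)
  refine (Subgroup.eq_bot_iff_forall _).2 fun g hg => ?_
  obtain ⟨hg1, hg2⟩ := Subgroup.mem_inf.1 hg
  obtain ⟨t, u, v, rfl⟩ := (mem_U1_iff hK _).1 hg1
  rw [Subgroup.mem_centralizer_singleton_iff] at hg2
  have e : psiG2 K m c * xU m t u v * (psiG2 K m c)⁻¹ = xU m t u v :=
    Subtype.ext (by rw [Subgroup.coe_mul, Subgroup.coe_mul, ← hg2, Subgroup.coe_inv, mul_inv_cancel_right])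
  rw [psiG2_conj_xU hK] at e
  obtain ⟨et, eu, ev⟩ := xU_inj hK e
  have hv : v = 0 := by
    by_contra hv
    exact hc1 ((mul_eq_right₀ hv).1 ev)
  have hu : u = 0 := by
    by_contra hu
    have e1 := (mul_inv_eq_one₀ hC).1 ((mul_eq_right₀ hu).1 eu)
    have e2 := pow_twG2' hK (c : K)
    rw [e1] at e2
    rw [e2] at e1
    exact hc2 (mul_left_cancel₀ hC (by rw [mul_one]; linear_combination e1))
  have ht : t = 0 := by
    by_contra ht
    have e1 := (mul_inv_eq_one₀ hQ).1 ((mul_eq_right₀ ht).1 et)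
    have e2 := pow_twG2' hK (c : K)
    rw [← e1, pow_right_comm] at e2
    have e3 : (c : K) ^ (3 : ℕ) = (c : K) ^ (4 : ℕ) := by
      conv_lhs => rw [← e2]
      rw [pow_right_comm _ 2 3, ← e1]
      ring
    exact hc1 (mul_left_cancel₀ (pow_ne_zero 3 hC) (by rw [mul_one, ← pow_succ]; exact e3.symm))
  subst hv hu ht
  rw [xU_zero hK]
  rfl

end CfsgLib.Lie.Chev.TwGroups
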