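/-
The twisted groups of type G2 as split groups of rank one.
-/
import Cfsg.Agent.Lib.Lie.Twisted.G2Coords
import Cfsg.Agent.Lib.Lie.SplitRankOne

set_option autoImplicit false

namespace CfsgLib.Lie.Chev.TwGroups

open Cfsg.Lie CfsgLib.Lie

variable {K : Type*} [Field K] [Fintype K] {m : ℕ} (hK : Fintype.card K = 3 ^ (2 * m + 1))
include hK

theorem exists_n_G2 : ∃ n : (chevRel certG2 K).NS, (n : ↥(chevG2.group K)) ∈ (twG2 hK).P1 ∧
    (∀ r : Fin chevG2.nroots, half chevG2 ≤ (r : ℕ) → ¬ half chevG2 ≤ ((chevRel certG2 K).nsPerm n r : ℕ)) ∧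
    ((n : ↥(chevG2.group K)) * n ∈ (chevRel certG2 K).HS) ∧
    ∀ g ∈ (twG2 hK).P1, g ∈ (chevRel certG2 K).BS ∨ ∃ v ∈ (chevRel certG2 K).UP, v ∈ (twG2 hK).P1 ∧
      ∃ b ∈ (chevRel certG2 K).BS, g = v * n * b := by
  obtain ⟨n, hn, hn0⟩ := (twG2 hK).exists_n0
  have hne : (chevRel certG2 K).nsPerm n ≠ 1 := fun e => by
    have := hn0 _ ((chevRel certG2 K).sroot_pos ⟨0, (chevRel certG2 K).cert.rank_pos⟩)
    rw [e, Equiv.Perm.one_apply] at this
    exact this ((chevRel certG2 K).sroot_pos _)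
  have hmem : (chevRel certG2 K).nsPerm n ∈ (twG2 hK).permW := (twG2 hK).mem_permW.2 ⟨n, hn, rfl⟩
  have two : ∀ s ∈ (twG2 hK).permW, s = 1 ∨ s = (chevRel certG2 K).nsPerm n := by
    intro s hs
    obtain ⟨x, y, hxy, hU⟩ := (Nat.card_eq_two_iff.1 (permW_card_G2 hK))
    have h : ∀ z : ↥(twG2 hK).permW, z = x ∨ z = y := fun z => by
      have : z ∈ (Set.univ : Set _) := trivial
      rw [← hU] at this; exact this
    have h1 := h 1
    have h2 := h ⟨_, hmem⟩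
    have h3 := h ⟨s, hs⟩
    have hne' : (1 : ↥(twG2 hK).permW) ≠ ⟨_, hmem⟩ := fun e => hne (congrArg Subtype.val e).symm
    by_cases hs1 : s = 1
    · exact Or.inl hs1
    · right
      have hne3 : (⟨s, hs⟩ : ↥(twG2 hK).permW) ≠ 1 := fun e => hs1 (congrArg Subtype.val e)
      rcases h1 with h1 | h1 <;> rcases h2 with h2 | h2 <;> rcases h3 with h3 | h3 <;>
        first | exact absurd (h1.trans h2.symm) hne' | exact absurd (h3.trans h1.symm) hne3 |
          exact congrArg Subtype.val (h3.trans h2.symm)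
  refine ⟨n, hn, hn0, ?_, fun g hg => ?_⟩
  · refine (chevRel certG2 K).nsPerm_eq_one_of_pos (n * n) fun i => ?_
    have h1 := two _ ((twG2 hK).mem_permW.2 ⟨n * n, mul_mem hn hn, rfl⟩)
    rcases h1 with h1 | h1
    · rw [h1]; exact (chevRel certG2 K).sroot_pos i
    · rw [map_mul, mul_eq_right] at h1
      exact absurd h1 hne
  · obtain ⟨v, hv, μ, w, hw, e, hv1, hμ1, -⟩ := (twG2 hK).P1_bnu hg
    rcases two _ ((twG2 hK).mem_permW.2 ⟨μ, hμ1, rfl⟩) with hμ | hμ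
    · left
      have hH : (μ : ↥(chevG2.group K)) ∈ (chevRel certG2 K).HS :=
        (chevRel certG2 K).nsPerm_eq_one_of_pos μ fun i => by rw [hμ]; exact (chevRel certG2 K).sroot_pos i
      have hw1 : w ∈ (chevRel certG2 K).UP := (chevRel certG2 K).US_mono (Rel.invSet_subset _) hw
      rw [e]
      exact mul_mem (mul_mem ((chevRel certG2 K).UP_le_BS hv) ((chevRel certG2 K).HS_le_BS hH))
        ((chevRel certG2 K).UP_le_BS hw1)
    · right
      have hH : ((n⁻¹ * μ : (chevRel certG2 K).NS) : ↥(chevG2.group K)) ∈ (chevRel certG2 K).HS :=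
        (chevRel certG2 K).nsPerm_eq_one_of_pos _ fun i => by
          rw [map_mul, map_inv, hμ, inv_mul_cancel]; exact (chevRel certG2 K).sroot_pos i
      refine ⟨v, hv, hv1, _, mul_mem ((chevRel certG2 K).HS_le_BS hH)
        ((chevRel certG2 K).UP_le_BS ((chevRel certG2 K).US_mono (Rel.invSet_subset _) hw)), ?_⟩
      rw [e, Subgroup.coe_mul, Subgroup.coe_inv]
      group

/-- an element of the twisted group seen in the general linear group -/
noncomputable def downG2 (y : ↥(chevG2.group K)) (hy : y ∈ (twG2 hK).P1) : ↥(twistedG2 K (3 ^ m)) :=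
  ⟨(y : GL chevG2.Idx K), by rw [twG2_P1 hK] at hy; exact Subgroup.mem_subgroupOf.1 hy⟩

theorem downG2_val (y : ↥(chevG2.group K)) (hy : y ∈ (twG2 hK).P1) :
    ((downG2 hK y hy : ↥(twistedG2 K (3 ^ m))) : GL chevG2.Idx K) = (y : GL chevG2.Idx K) := rfl

theorem split_G2 : ∃ n : ↥(twistedG2 K (3 ^ m)),
    SplitRankOne ((chevG2.borelSubgroup K ⊓ twistedG2 K (3 ^ m)).subgroupOf (twistedG2 K (3 ^ m)))
      ((U1G2 K m).subgroupOf (twistedG2 K (3 ^ m))) ((H1G2 K m).subgroupOf (twistedG2 K (3 ^ m))) n := by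
  obtain ⟨n, hn, hn0, hn2, hcov⟩ := exists_n_G2 hK
  let R := chevRel certG2 K
  let nT : ↥(twistedG2 K (3 ^ m)) := downG2 hK _ hn
  let up : ↥(twistedG2 K (3 ^ m)) → ↥(chevG2.group K) := fun x => ⟨(x : GL chevG2.Idx K), twG2_le x.2⟩
  have hB : ∀ x, x ∈ (chevG2.borelSubgroup K ⊓ twistedG2 K (3 ^ m)).subgroupOf (twistedG2 K (3 ^ m)) ↔
      up x ∈ R.BS := by
    intro x
    rw [Subgroup.mem_subgroupOf, Subgroup.mem_inf, and_iff_left x.2, ← borel_subgroupOf certG2 K,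
      Subgroup.mem_subgroupOf]
  have hU : ∀ x, x ∈ (U1G2 K m).subgroupOf (twistedG2 K (3 ^ m)) ↔ up x ∈ R.UP := by
    intro x
    rw [Subgroup.mem_subgroupOf, U1G2, Subgroup.mem_inf, and_iff_left x.2, posUnipotent_eq certG2 K]
    exact ⟨fun ⟨y, hy, e⟩ => (Subtype.ext e : y = up x) ▸ hy, fun h => ⟨_, h, rfl⟩⟩
  have hH : ∀ x, x ∈ (H1G2 K m).subgroupOf (twistedG2 K (3 ^ m)) ↔ up x ∈ R.HS := by
    intro x
    rw [Subgroup.mem_subgroupOf, H1G2, Subgroup.mem_inf, and_iff_left x.2, diagonalSubgroup_eq certG2 K]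
    exact ⟨fun ⟨y, hy, e⟩ => (Subtype.ext e : y = up x) ▸ hy, fun h => ⟨_, h, rfl⟩⟩
  have hP : ∀ x, up x ∈ (twG2 hK).P1 := fun x => by
    rw [twG2_P1 hK, Subgroup.mem_subgroupOf]; exact x.2
  have hup : ∀ (y : ↥(chevG2.group K)) (hy : y ∈ (twG2 hK).P1), up (downG2 hK y hy) = y := fun y hy => Subtype.ext rfl
  have hinj : ∀ x x', up x = up x' → x = x' := fun x x' e =>
    Subtype.ext (congrArg (fun z : ↥(chevG2.group K) => (z : GL chevG2.Idx K)) e)
  have hmul : ∀ x x', up (x * x') = up x * up x' := fun x x' => Subtype.ext rfl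
  have hinv : ∀ x, up x⁻¹ = (up x)⁻¹ := fun x => Subtype.ext rfl
  have hnT : up nT = (n : ↥(chevG2.group K)) := hup _ hn
  have hone : up 1 = 1 := Subtype.ext rfl
  obtain ⟨a, ha⟩ := R.isMon_nsPerm n
  refine ⟨nT,
    { U_le := fun x hx => (hB x).2 (R.UP_le_BS ((hU x).1 hx))
      H_le := fun x hx => (hB x).2 (R.HS_le_BS ((hH x).1 hx))
      factor := fun b hb => ?_
      conj_U := fun h hh u hu => ?_
      conj_H := fun h hh => ?_
      inter := fun u hu hb => ?_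
      cover := fun g hg => ?_ }⟩
  · obtain ⟨v, hv, h, hh, e, hv1, hh1⟩ := (twG2 hK).exists_BS_factor ((hB b).1 hb) (hP b)
    refine ⟨downG2 hK v hv1, (hU _).2 (by rw [hup]; exact hv), downG2 hK h hh1, (hH _).2 (by rw [hup]; exact hh),
      hinj _ _ ?_⟩
    rw [hmul, hup, hup, e]
  · rw [hU, hmul, hmul, hinv]
    exact (Subgroup.mem_normalizer_iff.1 (R.HS_le_normalizer_US _ ((hH h).1 hh)) _).1 ((hU u).1 hu)
  · rw [hH, hmul, hmul, hinv, hnT]
    have := R.HS_conj (inv_mem n.2) ((hH h).1 hh)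
    rwa [inv_inv] at this
  · have h1 : (n : ↥(chevG2.group K)) * up u * (n : ↥(chevG2.group K))⁻¹ ∈ R.UN :=
      Rel.IsMon.conj_mem_US R ha (T := negSet chevG2) (fun r hr => hn0 r hr) ((hU u).1 hu)
    have h2 : (n : ↥(chevG2.group K))⁻¹ * up u * (n : ↥(chevG2.group K)) ∈ R.BS := by
      rw [← hnT, ← hinv, ← hmul, ← hmul, ← hB]; exact hb
    have h3 : (n : ↥(chevG2.group K)) * up u * (n : ↥(chevG2.group K))⁻¹ ∈ R.BS := by
      have e : (n : ↥(chevG2.group K)) * up u * (n : ↥(chevG2.group K))⁻¹ = ((n : ↥(chevG2.group K)) * n) *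
          ((n : ↥(chevG2.group K))⁻¹ * up u * (n : ↥(chevG2.group K))) * ((n : ↥(chevG2.group K)) * n)⁻¹ := by group
      rw [e]
      exact mul_mem (mul_mem (R.HS_le_BS hn2) h2) (inv_mem (R.HS_le_BS hn2))
    have h4 := R.BS_inf_UN h3 h1
    rw [mul_inv_eq_one, mul_eq_left] at h4
    exact hinj _ _ (h4.trans hone.symm)
  · rcases hcov _ (hP g) with h | ⟨v, hv, hv1, b, hb, e⟩
    · exact absurd ((hB g).2 h) hg
    · have hb1 : b ∈ (twG2 hK).P1 := by
        rw [show b = (v * (n : ↥(chevG2.group K)))⁻¹ * up g by rw [e, inv_mul_cancel_left]]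
        exact mul_mem (inv_mem (mul_mem hv1 hn)) (hP g)
      refine ⟨downG2 hK v hv1, (hU _).2 (by rw [hup]; exact hv), downG2 hK b hb1, (hB _).2 (by rw [hup]; exact hb),
        hinj _ _ ?_⟩
      rw [hmul, hmul, hup, hup, hup, e]

theorem card_centralizer_H1 {w : ↥(twistedG2 K (3 ^ m))} (hw : w ∈ (U1G2 K m).subgroupOf (twistedG2 K (3 ^ m)))
    (hw1 : w ≠ 1) :
    Nat.card ↥((H1G2 K m).subgroupOf (twistedG2 K (3 ^ m)) ⊓ Subgroup.centralizer {w}) ≤ 2 := by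
  obtain ⟨t, u, v, e⟩ := (mem_U1_iff hK (w : GL chevG2.Idx K)).1 (Subgroup.mem_subgroupOf.1 hw)
  have key : ∀ h : ↥((H1G2 K m).subgroupOf (twistedG2 K (3 ^ m)) ⊓ Subgroup.centralizer {w}),
      ∃ c : Kˣ, ((h : ↥(twistedG2 K (3 ^ m))) : GL chevG2.Idx K) = (psiG2 K m c : ↥(chevG2.group K)) ∧
        ((c : K) = 1 ∨ (c : K) = -1) := by
    intro h
    obtain ⟨h1, h2⟩ := Subgroup.mem_inf.1 h.2
    obtain ⟨c, hc⟩ := (mem_H1_iff hK ((h : ↥(twistedG2 K (3 ^ m))) : GL chevG2.Idx K)).1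
      (Subgroup.mem_subgroupOf.1 h1)
    refine ⟨c, hc, ?_⟩
    rw [Subgroup.mem_centralizer_singleton_iff] at h2
    have h3 := congrArg (fun z : ↥(twistedG2 K (3 ^ m)) => (z : GL chevG2.Idx K)) h2
    simp only [Subgroup.coe_mul, e, hc] at h3
    have e' : psiG2 K m c * xU m t u v * (psiG2 K m c)⁻¹ = xU m t u v :=
      Subtype.ext (by rw [Subgroup.coe_mul, Subgroup.coe_mul, h3, Subgroup.coe_inv, mul_inv_cancel_right])
    rw [psiG2_conj_xU hK] at e'
    obtain ⟨et, eu, ev⟩ := xU_inj hK e'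
    have hC : (c : K) ≠ 0 := c.ne_zero
    have hQ : ((c : K) ^ 3 ^ m) ^ (3 : ℕ) ≠ 0 := pow_ne_zero _ (pow_ne_zero _ hC)
    rw [← sq_eq_one_iff]
    by_cases hv : v = 0
    · by_cases hu : u = 0
      · by_cases ht : t = 0
        · exfalso
          subst hv hu ht
          exact hw1 (Subtype.ext (by rw [e, xU_zero hK]; rfl))
        · have e1 := (mul_inv_eq_one₀ hQ).1 ((mul_eq_right₀ ht).1 et)
          have e2 := pow_twG2' hK (c : K)
          rw [← e1, pow_right_comm] at e2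
          have e3 : (c : K) ^ (3 : ℕ) = (c : K) ^ (4 : ℕ) := by
            conv_lhs => rw [← e2]
            rw [pow_right_comm _ 2 3, ← e1]
            ring
          rw [mul_left_cancel₀ (pow_ne_zero 3 hC)
            (show (c : K) ^ (3 : ℕ) * (c : K) = (c : K) ^ (3 : ℕ) * 1 by rw [mul_one, ← pow_succ]; exact e3.symm),
            one_pow]
      · have e1 := (mul_inv_eq_one₀ hC).1 ((mul_eq_right₀ hu).1 eu)
        have e2 := pow_twG2' hK (c : K)
        rw [e1] at e2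
        rw [e2] at e1
        exact mul_left_cancel₀ hC (by rw [mul_one]; linear_combination e1)
    · rw [(mul_eq_right₀ hv).1 ev, one_pow]
  choose f hf hf' using key
  classical
  have hinj : Function.Injective f := fun a b h => Subtype.ext (Subtype.ext (by rw [hf, hf, h]))
  have hr : ∀ a, f a ∈ ({1, -1} : Finset Kˣ) := fun a => by
    rcases hf' a with h | h
    · simp [Units.ext_iff, h]
    · simp [Units.ext_iff, h]
  refine (Nat.card_le_card_of_injective (fun a => (⟨f a, hr a⟩ : ↥({1, -1} : Finset Kˣ)))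
    fun a b h => hinj (congrArg Subtype.val h)).trans ?_
  rw [Nat.card_eq_fintype_card, Fintype.card_coe]
  exact Finset.card_le_two

theorem card_centralizer_H1_eq : ∃ w ∈ (U1G2 K m).subgroupOf (twistedG2 K (3 ^ m)), w ≠ 1 ∧
    Nat.card ↥((H1G2 K m).subgroupOf (twistedG2 K (3 ^ m)) ⊓ Subgroup.centralizer {w}) = 2 := by
  have hw : xU m (0 : K) 1 0 ∈ (twG2 hK).P1 := by rw [twG2_P1 hK]; exact xU_mem m _ _ _
  obtain ⟨w, hwval⟩ : ∃ w : ↥(twistedG2 K (3 ^ m)),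
      (w : GL chevG2.Idx K) = (xU m (0 : K) 1 0 : ↥(chevG2.group K)) := ⟨downG2 hK _ hw, rfl⟩
  have hwU : w ∈ (U1G2 K m).subgroupOf (twistedG2 K (3 ^ m)) := by
    rw [Subgroup.mem_subgroupOf, hwval]; exact xU_mem_U1 hK _ _ _
  have hw1 : w ≠ 1 := fun h => by
    have h' : xU m (0 : K) 1 0 = xU m 0 0 0 := by
      rw [xU_zero hK]
      refine Subtype.ext ?_
      rw [← hwval, h]
      rfl
    exact one_ne_zero (xU_inj hK h').2.1
  refine ⟨w, hwU, hw1, le_antisymm (card_centralizer_H1 hK hwU hw1) ?_⟩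
  obtain ⟨z, hzval⟩ : ∃ z : ↥(twistedG2 K (3 ^ m)),
      (z : GL chevG2.Idx K) = (psiG2 K m (-1) : ↥(chevG2.group K)) := ⟨downG2 hK _ (psiG2_mem hK (-1)), rfl⟩
  have hzH : z ∈ (H1G2 K m).subgroupOf (twistedG2 K (3 ^ m)) := by
    rw [Subgroup.mem_subgroupOf, hzval]; exact (mem_H1_iff hK _).2 ⟨-1, rfl⟩
  have h3 : (-1 : K) ≠ 1 := fun e => one_ne_zero (α := K) (by linear_combination three_eq_zero_G2 hK + e)
  have hzC : z ∈ Subgroup.centralizer {w} := by
    rw [Subgroup.mem_centralizer_singleton_iff]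
    refine Subtype.ext ?_
    rw [Subgroup.coe_mul, Subgroup.coe_mul, hwval, hzval, ← Subgroup.coe_mul, ← Subgroup.coe_mul]
    refine congrArg _ (mul_inv_eq_iff_eq_mul.1 ?_)
    rw [psiG2_conj_xU hK, Units.val_neg, Units.val_one, neg_powG2, one_pow, neg_cubeG2, one_pow]
    congr 1 <;> norm_num
  have hne : z ≠ 1 := fun h => h3 (by
    have h' : psiG2 K m (-1) = psiG2 K m 1 := by
      rw [map_one]
      refine Subtype.ext ?_
      rw [← hzval, h]
      rfl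
    simpa using congrArg Units.val (psiG2_injective m h'))
  have : Finite ↥(twistedG2 K (3 ^ m)) := inferInstance
  exact Finite.one_lt_card_iff_nontrivial.2 ⟨⟨⟨z, Subgroup.mem_inf.2 ⟨hzH, hzC⟩⟩, 1, fun h => hne (congrArg Subtype.val h)⟩⟩

theorem three_point_G2 :
    (∀ x y z : ↥(twistedG2 K (3 ^ m)) ⧸ (chevG2.borelSubgroup K ⊓ twistedG2 K (3 ^ m)).subgroupOf (twistedG2 K (3 ^ m)),
      x ≠ y → x ≠ z → y ≠ z →
        Nat.card ↥(MulAction.stabilizer ↥(twistedG2 K (3 ^ m)) x ⊓ MulAction.stabilizer ↥(twistedG2 K (3 ^ m)) y ⊓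
          MulAction.stabilizer ↥(twistedG2 K (3 ^ m)) z) ≤ 2) ∧
      ∃ x y z : ↥(twistedG2 K (3 ^ m)) ⧸ (chevG2.borelSubgroup K ⊓ twistedG2 K (3 ^ m)).subgroupOf (twistedG2 K (3 ^ m)),
        x ≠ y ∧ x ≠ z ∧ y ≠ z ∧
        Nat.card ↥(MulAction.stabilizer ↥(twistedG2 K (3 ^ m)) x ⊓ MulAction.stabilizer ↥(twistedG2 K (3 ^ m)) y ⊓
          MulAction.stabilizer ↥(twistedG2 K (3 ^ m)) z) = 2 := by
  obtain ⟨n, S⟩ := split_G2 hK
  refine ⟨fun x y z h1 h2 h3 => ?_, ?_⟩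
  · obtain ⟨w, hw, hw1, e⟩ := S.card_stab_three h1 h2 h3
    rw [e]
    exact card_centralizer_H1 hK hw hw1
  · obtain ⟨w, hw, hw1, e⟩ := card_centralizer_H1_eq hK
    obtain ⟨h1, h2, h3⟩ := S.three_points w hw hw1
    exact ⟨_, _, _, h1, h2, h3, by rw [S.stab_inf w hw, e]⟩

theorem exists_sylow_three (hm : 1 ≤ m) : ∃ P : Sylow 3 ↥(twistedG2 K (3 ^ m)),
    (P : Subgroup ↥(twistedG2 K (3 ^ m))) = (U1G2 K m).subgroupOf (twistedG2 K (3 ^ m)) := by
  have : Fact (Nat.Prime 3) := ⟨Nat.prime_three⟩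
  refine ⟨Sylow.ofCard _ ?_, Sylow.coe_ofCard _ _⟩
  have hle : U1G2 K m ≤ twistedG2 K (3 ^ m) := inf_le_right
  have hc : Nat.card ↥(U1G2 K m) = (3 ^ (2 * m + 1)) ^ 3 := card_U1_G2 hK
  rw [Nat.card_congr (Subgroup.subgroupOfEquivOfLe hle).toEquiv, hc, card_twG2 hK]
  have h1 : ¬ 3 ∣ (3 ^ (2 * m + 1) - 1) * ((3 ^ (2 * m + 1)) ^ 3 + 1) := by
    obtain ⟨k, hk⟩ : ∃ k, 3 ^ (2 * m + 1) = 3 * k := ⟨3 ^ (2 * m), by rw [pow_succ, mul_comm]⟩
    have hk0 : 0 < 3 ^ (2 * m + 1) := Nat.pow_pos three_pos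
    rw [hk] at hk0 ⊢
    intro h
    rcases (Nat.Prime.dvd_mul Nat.prime_three).1 h with h | h
    · omega
    · rw [mul_pow] at h
      omega
  rw [mul_assoc, Nat.factorization_mul (by positivity) (fun e => h1 (by rw [e]; exact dvd_zero 3)), Finsupp.add_apply,
    Nat.factorization_eq_zero_of_not_dvd h1, add_zero, ← pow_mul, Nat.prime_three.factorization_pow,
    Finsupp.single_eq_same]

theorem sylow_three_TI (hm : 1 ≤ m) (P Q : Sylow 3 ↥(twistedG2 K (3 ^ m))) (hPQ : P ≠ Q) :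
    (P : Subgroup ↥(twistedG2 K (3 ^ m))) ⊓ (Q : Subgroup ↥(twistedG2 K (3 ^ m))) = ⊥ := by
  have : Fact (Nat.Prime 3) := ⟨Nat.prime_three⟩
  obtain ⟨n, S⟩ := split_G2 hK
  obtain ⟨P0, hP0⟩ := exists_sylow_three hK hm
  exact S.sylow_inf_eq_bot P0 hP0 P Q hPQ

end CfsgLib.Lie.Chev.TwGroups
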