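/-
The Weyl group of the twisted groups of type E6 is of type F4.
-/
import Cfsg.Agent.Lib.Lie.Twisted.E6
import Cfsg.Agent.Lib.Lie.Twisted.WeylIso

set_option autoImplicit false

namespace CfsgLib.Lie.Chev.TwGroups

open Cfsg.Lie

theorem relsE6 : ∀ i j : Fin 4,
    chkRelW chevE6 auxE6 (wordsTE6.getD (i : ℕ) [] ++ wordsTE6.getD (j : ℕ) []) (CoxeterMatrix.F₄.M i j) = true := by
  decide +kernel

theorem countE6 : (layersTE6.map fun p => p.2.length).sum = 1152 := by decide +kernel

theorem chainF4 : ((chainCounts cartF4 chevF4.rank (half chevF4) [] (List.range chevF4.rank).reverse).map List.sum).prod =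
    1152 := by decide +kernel

theorem weylE6 {K : Type*} [Field K] [Fintype K] {q : ℕ} (hq : IsPrimePow q) (hK : Fintype.card K = q ^ 2) :
    Nonempty (↥(twE6 hq hK).permW ≃* CoxeterMatrix.F₄.Group) :=
  (twE6 hq hK).exists_coxeter_iso (orbListE6 hq hK) rfl wordsTE6_ok CoxeterMatrix.F₄ relsE6 (N := 1152)
    (by norm_num) (card_coxeter certF4 CoxeterMatrix.F₄ coxF4 cmat_F4 chainF4)
    ((twE6 hq hK).card_permW (orbListE6 hq hK) rfl wordsTE6_ok enumTE6_ok countE6)

end CfsgLib.Lie.Chev.TwGroups
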