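/-
Unipotent elements of the Chevalley group of type F4: the exponent bound from the height filtration.
-/
import Cfsg.Agent.Lib.Lie.Rel.Graded
import Cfsg.Agent.Lib.Lie.Rel.Sylow
import Cfsg.Agent.Lib.Lie.Rel.Parabolic
import Cfsg.Agent.Lib.Lie.Twisted.F4

set_option autoImplicit false

namespace CfsgLib.Lie.Chev

open Cfsg.Lie (ChevalleyDatum)

/-- powers of a graded unitriangular matrix minus one raise the weight -/
theorem isGr_sub_one_pow {D : ChevalleyDatum} {X : Aux} {F : Type*} [Field F] {lam : Fin D.rank → ℤ}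
    {M : Matrix D.Idx D.Idx F} (hM : RawRel.IsGr X lam 1 M) : ∀ m : ℕ, ∀ a b, ((M - 1) ^ m) a b ≠ 0 →
    RawRel.wt X lam b + m ≤ RawRel.wt X lam a := by
  intro m
  induction m with
  | zero =>
    intro a b h
    rw [pow_zero, Matrix.one_apply] at h
    split_ifs at h with he
    · rw [he]; simp
    · simp at h
  | succ m ih =>
    intro a b h
    rw [pow_succ', Matrix.mul_apply] at h
    obtain ⟨c, _, hc⟩ := Finset.exists_ne_zero_of_sum_ne_zero h
    have h1 := ih c b (right_ne_zero_of_mul hc)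
    have h2 : RawRel.wt X lam c + 1 ≤ RawRel.wt X lam a := by
      by_contra hcon
      refine left_ne_zero_of_mul hc ?_
      by_cases hac : a = c
      · subst hac; rw [Matrix.sub_apply, hM.1, Matrix.one_apply_eq, sub_self]
      · rw [Matrix.sub_apply, hM.2 a c hac (not_le.1 hcon), Matrix.one_apply_ne hac, sub_zero]
    push_cast
    omega

/-- elements of `p`-power order are killed by a `p`-power exceeding the height spread -/
theorem pow_eq_one_of_bounds {D : ChevalleyDatum} {X : Aux} (C : Cert D X) {K : Type*} [Field K] [Fintype K] (p : ℕ)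
    [Fact p.Prime] [CharP K p] (lam : Fin D.rank → ℤ) (h n : ℕ) (hn : 2 * h < p ^ n)
    (hb : ∀ r : Fin D.nroots, -(h : ℤ) ≤ hgt D X lam r ∧ hgt D X lam r ≤ h ∧
      (half D ≤ (r : ℕ) → 1 ≤ hgt D X lam r))
    (x : ↥(D.group K)) (hx : ∃ j : ℕ, orderOf x = p ^ j) : x ^ p ^ n = 1 := by
  have : Finite ↥(D.group K) := (chevRel C K).Finite_of_field
  obtain ⟨P, hP⟩ := pos_unipotent_sylow C K p
  obtain ⟨j, hj⟩ := hx
  have hz : IsPGroup p ↥(Subgroup.zpowers x) := IsPGroup.of_card (n := j) (by rw [Nat.card_zpowers, hj])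
  obtain ⟨Q, hQ⟩ := hz.exists_le_sylow
  obtain ⟨g, hg⟩ := MulAction.exists_smul_eq ↥(D.group K) Q P
  have hy : g * x * g⁻¹ ∈ (chevRel C K).UP := by
    have h1 : g * x * g⁻¹ ∈ ((g • Q : Sylow p ↥(D.group K)) : Subgroup ↥(D.group K)) := by
      rw [Sylow.coe_subgroup_smul]
      exact ⟨x, hQ (Subgroup.mem_zpowers x), rfl⟩
    rwa [hg, hP, posUnipotent_eq C K, subgroupOf_map C K] at h1
  rw [show x ^ p ^ n = g⁻¹ * (g * x * g⁻¹) ^ p ^ n * g by rw [conj_pow]; group]
  generalize g * x * g⁻¹ = y at hy ⊢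
  suffices hy32 : y ^ p ^ n = 1 by rw [hy32, mul_one, inv_mul_cancel]
  have hgr := ((chevRel C K).toRaw.isGr_mem lam le_rfl (S := posSet D)
    (fun r hr => (hb r).2.2 hr) (v := y) (by rw [← Rel.US_eq_RS]; exact hy)).1
  apply chevRel_injective C K
  rw [map_pow, map_one]
  refine Units.ext ?_
  rw [Units.val_pow_eq_pow_val, Units.val_one]
  replace hgr : RawRel.IsGr X lam 1 (((chevRel C K).θ y : GL D.Idx K) : Matrix D.Idx D.Idx K) := hgr
  generalize (((chevRel C K).θ y : GL D.Idx K) : Matrix D.Idx D.Idx K) = M at hgr ⊢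
  have h0 : (M - 1) ^ p ^ n = 0 := by
    ext a b
    by_contra hne
    have h1 := isGr_sub_one_pow hgr (p ^ n) a b hne
    have hw : ∀ c, -(h : ℤ) ≤ RawRel.wt X lam c ∧ RawRel.wt X lam c ≤ h := by
      rintro (i | r)
      · exact ⟨by simp [RawRel.wt], by simp [RawRel.wt]⟩
      · exact ⟨(hb r).1, (hb r).2.1⟩
    have := hw a; have := hw b
    have : (2 * h : ℤ) < ((p ^ n : ℕ) : ℤ) := by exact_mod_cast hn
    omega
  have : Nonempty D.Idx := ⟨Sum.inl ⟨0, C.rank_pos⟩⟩
  have : CharP (Matrix D.Idx D.Idx K) p := Matrix.charP p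
  have e := sub_pow_char_pow_of_commute (R := Matrix D.Idx D.Idx K) (p := p) (n := n) (Commute.one_right M)
  rw [one_pow, h0] at e
  exact sub_eq_zero.1 e.symm

namespace TwGroups

open Cfsg.Lie

theorem hgtF4_bounds : ∀ r : Fin chevF4.nroots,
    -((11 : ℕ) : ℤ) ≤ hgt chevF4 auxF4 (fun _ => 1) r ∧ hgt chevF4 auxF4 (fun _ => 1) r ≤ ((11 : ℕ) : ℤ) ∧
      (half chevF4 ≤ (r : ℕ) → 1 ≤ hgt chevF4 auxF4 (fun _ => 1) r) := by decide +kernel

/-- every 2-element of `F₄` in characteristic two has order dividing 32 -/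
theorem pow_32_eq_one {K : Type*} [Field K] [Fintype K] [CharP K 2] (x : ↥(chevF4.group K))
    (hx : ∃ j : ℕ, orderOf x = 2 ^ j) : x ^ 32 = 1 :=
  have : Fact (Nat.Prime 2) := ⟨Nat.prime_two⟩
  pow_eq_one_of_bounds certF4 2 (fun _ => 1) 11 5 (by norm_num) hgtF4_bounds x hx

end TwGroups

end CfsgLib.Lie.Chev
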