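/-
The parabolic subgroup of one orbit of simple roots in a twisted group: its number of elements.
-/
import Cfsg.Agent.Lib.Lie.Twisted.Count

set_option autoImplicit false

namespace CfsgLib.Lie.Chev

open Cfsg.Lie (ChevalleyDatum)

namespace TwG

variable {D : ChevalleyDatum} {X : Aux} {F : Type*} [Field F] {G : Type*} [Group G] {R : Rel D X F G} (T : TwG R)
include T

/-- the parabolic subgroup of the `k`-th orbit is a union of two cells -/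
theorem card_P1_inf_PJ [Finite G] (k : Fin T.κ) :
    Nat.card ↥(T.P1 ⊓ R.PJ (orbSet T.orb k)) =
      Nat.card ↥(T.P1 ⊓ R.UP) * Nat.card ↥(T.P1 ⊓ R.HS) *
        (Nat.card ↥(T.P1 ⊓ R.US (posSub D X T.orb k)) + 1) := by
  have hBP : R.BS ≤ R.PJ (orbSet T.orb k) := le_sup_left
  have hb : ∀ (v : ↥(T.P1 ⊓ R.UP)) (h : ↥(T.P1 ⊓ R.HS)), (v : G) * h ∈ R.BS := fun v h =>
    mul_mem (R.UP_le_BS (Subgroup.mem_inf.1 v.2).2) (R.HS_le_BS (Subgroup.mem_inf.1 h.2).2)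
  have hb1 : ∀ (v : ↥(T.P1 ⊓ R.UP)) (h : ↥(T.P1 ⊓ R.HS)), (v : G) * h ∈ T.P1 := fun v h =>
    mul_mem (Subgroup.mem_inf.1 v.2).1 (Subgroup.mem_inf.1 h.2).1
  obtain ⟨cell, hcell⟩ : ∃ cell : Option ↥(T.P1 ⊓ R.US (posSub D X T.orb k)) → G,
      cell none = 1 ∧ ∀ u : ↥(T.P1 ⊓ R.US (posSub D X T.orb k)), cell (some u) = (T.nJ k : G) * u :=
    ⟨fun o => o.elim 1 (fun u => (T.nJ k : G) * u), rfl, fun _ => rfl⟩
  have hmem : ∀ o, cell o ∈ T.P1 ⊓ R.PJ (orbSet T.orb k) := by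
    rintro (_ | u)
    · rw [hcell.1]; exact one_mem _
    · rw [hcell.2]
      exact Subgroup.mem_inf.2 ⟨mul_mem (T.nJ_mem k) (Subgroup.mem_inf.1 u.2).1,
        mul_mem (T.nJ_PJ k) (T.posSub_le_PJ k (Subgroup.mem_inf.1 u.2).2)⟩
  let f : (↥(T.P1 ⊓ R.UP) × ↥(T.P1 ⊓ R.HS)) × Option ↥(T.P1 ⊓ R.US (posSub D X T.orb k)) →
      ↥(T.P1 ⊓ R.PJ (orbSet T.orb k)) := fun x => ⟨(x.1.1 : G) * x.1.2 * cell x.2,
    mul_mem (Subgroup.mem_inf.2 ⟨hb1 _ _, hBP (hb _ _)⟩) (hmem _)⟩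
  suffices hf : Function.Bijective f by
    rw [← Nat.card_congr (Equiv.ofBijective f hf), Nat.card_prod, Nat.card_prod, Finite.card_option]
  have hne : ¬ (T.nJ k : G) ∈ R.HS := by
    intro h
    obtain ⟨r, hr⟩ := Set.nonempty_of_ncard_ne_zero (T.posSub_nonempty k).ne'
    rw [← T.nJ_inv, R.nsPerm_of_mem_HS _ h] at hr
    exact hr.2 hr.1
  have hu : ∀ u : ↥(T.P1 ⊓ R.US (posSub D X T.orb k)), (u : G) ∈ R.US (invSet (R.nsPerm (T.nJ k))) :=
    fun u => by rw [T.nJ_inv]; exact (Subgroup.mem_inf.1 u.2).2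
  have hsplit : ∀ (v v' : ↥(T.P1 ⊓ R.UP)) (h h' : ↥(T.P1 ⊓ R.HS)), (v : G) * h = v' * h' → (v, h) = (v', h') :=
    fun v v' h h' e => by
      obtain ⟨e1, e2⟩ := R.UP_HS_unique (Subgroup.mem_inf.1 v.2).2 (Subgroup.mem_inf.1 v'.2).2
        (Subgroup.mem_inf.1 h.2).2 (Subgroup.mem_inf.1 h'.2).2 e
      exact Prod.ext (Subtype.ext e1) (Subtype.ext e2)
  refine ⟨?_, ?_⟩
  · rintro ⟨⟨v, h⟩, o⟩ ⟨⟨v', h'⟩, o'⟩ e
    have e' : (v : G) * h * cell o = v' * h' * cell o' := congrArg Subtype.val e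
    rcases o with _ | u <;> rcases o' with _ | u' <;>
      simp only [hcell.1, hcell.2, mul_one] at e'
    · rw [hsplit _ _ _ _ e']
    · refine absurd ?_ hne
      have := R.bnu_weyl (n := 1) (n' := T.nJ k) (hb v h) (hb v' h') (one_mem _)
        (R.US_mono (Rel.invSet_subset _) (hu u')) (by rw [Subgroup.coe_one, mul_one, mul_one, e', ← mul_assoc])
      simpa using this
    · refine absurd ?_ hne
      have := R.bnu_weyl (n := 1) (n' := T.nJ k) (hb v' h') (hb v h) (one_mem _)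
        (R.US_mono (Rel.invSet_subset _) (hu u)) (by rw [Subgroup.coe_one, mul_one, mul_one, ← e', ← mul_assoc])
      simpa using this
    · obtain ⟨e1, e2⟩ := R.bnu_unique (n := T.nJ k) (hb v h) (hb v' h') (hu u) (hu u')
        (by simpa [mul_assoc] using e')
      rw [hsplit _ _ _ _ e1, show u = u' from Subtype.ext e2]
  · rintro ⟨g, hg⟩
    obtain ⟨hg1, hgP⟩ := Subgroup.mem_inf.1 hg
    obtain ⟨v, hv, m, u, hu', rfl, hv1, hm1, hu1⟩ := T.P1_bnu hg1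
    have hvP : v ∈ R.PJ (orbSet T.orb k) := hBP (R.UP_le_BS hv)
    have huP : u ∈ R.PJ (orbSet T.orb k) := hBP (R.UP_le_BS (R.US_mono (Rel.invSet_subset _) hu'))
    have hmP : (m : G) ∈ R.PJ (orbSet T.orb k) := by
      have := mul_mem (mul_mem (inv_mem hvP) hgP) (inv_mem huP)
      simpa [mul_assoc] using this
    rcases T.perm_dichotomy k (T.hfix _ hm1) hmP with hH | hinv
    · have h1 : u = 1 := by
        refine Subgroup.mem_bot.1 ((R.US_le (H := ⊥) fun r hr _ => absurd ?_ hr.2) hu')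
        rw [R.nsPerm_of_mem_HS m hH, Equiv.Perm.one_apply]; exact hr.1
      refine ⟨((⟨v, Subgroup.mem_inf.2 ⟨hv1, hv⟩⟩, ⟨m, Subgroup.mem_inf.2 ⟨hm1, hH⟩⟩), none), Subtype.ext ?_⟩
      show v * (m : G) * cell none = v * m * u
      rw [hcell.1, h1]
    · have hh : ((m * (T.nJ k)⁻¹ : R.NS) : G) ∈ R.HS := R.mem_HS_of_nsPerm (by
        rw [map_mul, map_inv, R.nsPerm_eq_of_invSet (hinv.trans (T.nJ_inv k).symm), mul_inv_cancel])
      have hh1 : ((m * (T.nJ k)⁻¹ : R.NS) : G) ∈ T.P1 := mul_mem hm1 (inv_mem (T.nJ_mem k))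
      rw [hinv] at hu'
      refine ⟨((⟨v, Subgroup.mem_inf.2 ⟨hv1, hv⟩⟩, ⟨_, Subgroup.mem_inf.2 ⟨hh1, hh⟩⟩),
        some ⟨u, Subgroup.mem_inf.2 ⟨hu1, hu'⟩⟩), Subtype.ext ?_⟩
      show v * ((m * (T.nJ k)⁻¹ : R.NS) : G) * cell (some _) = v * m * u
      rw [hcell.2, Subgroup.coe_mul, Subgroup.coe_inv]
      group

end TwG

end CfsgLib.Lie.Chev
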