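/-
The twisted Weyl group of type F4 is dihedral of order sixteen.
-/
import Cfsg.Agent.Lib.Lie.Twisted.F4
import Cfsg.Agent.Lib.Signalizer.Involutions

set_option autoImplicit false

namespace CfsgLib.Lie.Chev.TwGroups

open Cfsg.Lie

theorem moveF4 : ∀ k : Fin 2, ∃ s : Fin chevF4.nroots, wordAct auxF4 (wordsTF4.getD (k : ℕ) []) s ≠ s := by
  intro k
  fin_cases k
  · exact ⟨⟨33, by decide +kernel⟩, by decide +kernel⟩
  · exact ⟨⟨27, by decide +kernel⟩, by decide +kernel⟩

variable {K : Type*} [Field K] [Fintype K] {m : ℕ} (hK : Fintype.card K = 2 ^ (2 * m + 1))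
include hK

theorem weylF4 : Nonempty (↥(twF4 hK).permW ≃* DihedralGroup 8) := by
  let x : ↥(twF4 hK).permW := (twF4 hK).wgen (0 : Fin 2)
  let y : ↥(twF4 hK).permW := (twF4 hK).wgen (1 : Fin 2)
  have hord : ∀ k : Fin 2, orderOf ((twF4 hK).wgen k) = 2 := by
    intro k
    refine orderOf_eq_prime ?_ ?_
    · rw [sq]; exact (twF4 hK).wgen_sq k
    · intro e
      obtain ⟨s, hs⟩ := moveF4 k
      refine hs ?_
      have h := (twF4 hK).nJ_apply (orbListF4 hK) rfl wordsTF4_ok k s
      rw [← h]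
      have h2 : (chevRel certF4 K).nsPerm ((twF4 hK).nJ k) = 1 := congrArg Subtype.val e
      rw [h2]; rfl
  obtain ⟨f, hf, hr⟩ := CfsgLib.Signalizer.exists_dihedral_hom (x := x) (y := y) (hord 0) (hord 1)
  have htop : f.range = ⊤ := by
    rw [hr, eq_top_iff, ← (twF4 hK).closure_wgen]
    refine Subgroup.closure_mono ?_
    rintro _ ⟨k, rfl⟩
    change Fin 2 at k
    fin_cases k
    · exact Or.inl rfl
    · exact Or.inr rfl
  have hsurj : Function.Surjective f := MonoidHom.range_eq_top.1 htop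
  have hc := Nat.card_eq_of_bijective f ⟨hf, hsurj⟩
  rw [DihedralGroup.nat_card, (twF4 hK).card_permW (orbListF4 hK) rfl wordsTF4_ok enumTF4_ok (N := 16)
    (by decide +kernel)] at hc
  have h8 : orderOf (x * y) = 8 := by omega
  have e := (MulEquiv.ofBijective f ⟨hf, hsurj⟩).symm
  rw [h8] at e
  exact ⟨e⟩

end CfsgLib.Lie.Chev.TwGroups
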